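import Groth.Agent.StkGerb.StabScheme
import Groth.Agent.AlgStBasic.StTopology
import Groth.Agent.AlgStBasic.InertiaDescent
import Groth.Agent.AlgStBasic.MonoCalc
import Groth.Agent.AlgSpBasic.Unramified

/-!
# The locus where an automorphism is trivial

With separated unramified diagonal this locus is an open and closed subscheme.
-/

set_option autoImplicit false
set_option backward.isDefEq.respectTransparency false
set_option backward.isDefEq.respectTransparency.types false

universe u

open CategoryTheory CategoryTheory.Limits AlgebraicGeometry Opposite AlgSp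
open Groth.StkBase Groth.AlgSp3 Groth.AlgSpBasic Groth.AlgStBasic

noncomputable section

namespace Groth.StkGerb

variable {S X : Scheme.{u}}

/-- The diagonal of a sheaf living over a base has the properties of the diagonal of its map. -/
theorem repWith_diag_of_shriek {P : MorphismProperty Scheme.{u}} [P.RespectsIso] (g : X ⟶ S) {F : Sp X}
    {Z : Sp S} {q : Z ⟶ (yon S).obj (Over.mk g)} (e : (shriek g).obj F ≅ Z)
    (he : e.hom ≫ q = shriekToBase g F) (hq : RepWith P (pullback.diagonal q)) :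
    RepWith P (Limits.diag F) := by
  let hT : IsTerminal ((yon X).obj (Over.mk (𝟙 X))) :=
    IsTerminal.isTerminalObj (yon X) _ Over.mkIdTerminal
  let m := shriekToBase g ((yon X).obj (Over.mk (𝟙 X)))
  have : Mono m := ⟨fun {W} a b hab => by
    ext T w
    have h1 : (a.hom.app T w : shriekObj g _ (unop T)).1.1 = (b.hom.app T w : shriekObj g _ (unop T)).1.1 :=
      congrArg (fun k : W ⟶ (yon S).obj (Over.mk g) => (k.hom.app T w).down.left) hab
    refine shriekObj_ext _ _ h1 ?_
    exact ULift.ext _ _ (Over.mkIdTerminal.hom_ext _ _)⟩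
  have hm : (shriek g).map (hT.from F) ≫ m = e.hom ≫ q := by rw [he]; exact shriekToBase_naturality g _
  have sq := isPullback_shriek g (IsPullback.of_is_product' (prodIsProd F F) hT)
  have sq₂ : IsPullback ((shriek g).map (prod.fst : F ⨯ F ⟶ F) ≫ e.hom)
      ((shriek g).map (prod.snd : F ⨯ F ⟶ F) ≫ e.hom) q q := by
    have sq₁ : IsPullback ((shriek g).map (prod.fst : F ⨯ F ⟶ F))
        ((shriek g).map (prod.snd : F ⨯ F ⟶ F)) (e.hom ≫ q) (e.hom ≫ q) := by
      rw [← hm]
      exact ⟨⟨by rw [← Category.assoc, sq.w, Category.assoc]⟩,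
        ⟨PullbackCone.isLimitOfCompMono _ _ m _ sq.isLimit⟩⟩
    exact sq₁.of_iso (Iso.refl _) e e (Iso.refl _) (by simp) (by simp) (by simp) (by simp)
  have hd : (shriek g).map (Limits.diag F) ≫ sq₂.isoPullback.hom = e.hom ≫ pullback.diagonal q := by
    apply pullback.hom_ext
    · rw [Category.assoc, sq₂.isoPullback_hom_fst, Category.assoc, pullback.diagonal_fst,
        Category.comp_id, ← Category.assoc, ← Functor.map_comp, prod.lift_fst,
        CategoryTheory.Functor.map_id, Category.id_comp]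
    · rw [Category.assoc, sq₂.isoPullback_hom_snd, Category.assoc, pullback.diagonal_snd,
        Category.comp_id, ← Category.assoc, ← Functor.map_comp, prod.lift_snd,
        CategoryTheory.Functor.map_id, Category.id_comp]
  refine repWith_of_shriek_map g ?_
  have h := MorphismProperty.RespectsIso.precomp (RepWith P) e.hom _ hq
  rw [← hd] at h
  exact (MorphismProperty.cancel_right_of_respectsIso (RepWith P) _ sq₂.isoPullback.hom).1 h

variable {p : X ⟶ S} {𝒴 : AlgSt.Cat S}

/-- For a separated unramified diagonal the locus where an automorphism is trivial is open and closed. -/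
theorem exists_clopen_autO_eq_one (hY : FibCat.IsFibGrpd 𝒴.p)
    (hsep : AlgSt.RepByAlgSpWith AlgSp.IsSeparatedMor (FibCat.diag (FibCat.toSelf 𝒴)))
    (hunr : AlgSt.RepByAlgSpWith
      (AlgSp.LocP ((@LocallyOfFiniteType : MorphismProperty Scheme.{u}) ⊓ @FormallyUnramified))
      (FibCat.diag (FibCat.toSelf 𝒴)))
    (y : FibCat.overCat (Over.mk p) ⥤ᵇ 𝒴) (α : Gerb.AutO (y.obj (backObj p (Over.mk (𝟙 X))))) :
    ∃ (W : Over X), IsOpenImmersion W.hom ∧ IsClosedImmersion W.hom ∧
      ∀ {T : Over X} (h : T ⟶ Over.mk (𝟙 X)),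
        Nonempty (T ⟶ W) ↔ Band.res hY (y.map (backMap h)) α = 1 := by
  let s := ptSec y
  let π := FibCat.fpFst (FibCat.toSelf (FibCat.overCat (Over.mk p) : AlgSt.Cat S)) (FibCat.toSelf 𝒴)
  let ex : BasedFunctor.comp s π ≅ BasedFunctor.id (FibCat.overCat (Over.mk p)) := Iso.refl _
  have hs := repWith_section_of_diag s ex (repWith_diag_fpFst _ hsep)
  have hu := repWith_section_of_diag s ex (repWith_diag_fpFst _ hunr)
  obtain ⟨Z, e, he, hq⟩ := hs (Over.mk p) s
  have hq' := prop_of_repWith_fp stableBaseChange_locP hu s Z e he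
  let q := AlgSt.spMapOfOver (BasedFunctor.comp e (FibCat.fpFst s s))
  let A := fibre p q
  obtain ⟨eA, heA⟩ := exists_shriek_fibre_iso p q
  have hd₁ : RepWith @IsClosedImmersion (Limits.diag A) := repWith_diag_of_shriek p eA heA hq
  have hd₂ : RepWith @IsOpenImmersion (Limits.diag A) := repWith_diag_of_shriek p eA heA
    (repWith_diagonal_of_unramified Z.property (AlgSp.IsAlgSpace.yon_obj _) hq')
  obtain ⟨ψ, hψ⟩ := exists_autO_equiv s π ex e he
  let sy := fun T : Over X => MulEquiv.ofBijective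
    (Gerb.autMap (FibCat.fpSnd (FibCat.toSelf (FibCat.overCat (Over.mk p) : AlgSt.Cat S)) (FibCat.toSelf 𝒴))
      (s.obj (backObj p T))) (autMap_fpSnd_bijective hY _)
  let χ : ∀ T, A.obj.obj (op T) ≃ Gerb.AutO (y.obj (backObj p T)) := fun T => (ψ T).trans (sy T).toEquiv
  have hχ : ∀ {T' T : Over X} (h : T' ⟶ T) z, χ T' (A.obj.map h.op z) = Band.res hY (y.map (backMap h)) (χ T z) :=
    fun h z => (Band.res_eq hY _ _ _ (congrArg (fun m => m.hom.snd) (hψ h z))).symm
  let ye : ∀ T : Over X, ((yon X).obj T ⟶ A) ≃ A.obj.obj (op T) := fun T => (AlgSp.J X).uliftYonedaEquiv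
  have hye : ∀ {T' T : Over X} (h : T' ⟶ T) (a : (yon X).obj T ⟶ A),
      ye T' ((yon X).map h ≫ a) = A.obj.map h.op (ye T a) := fun h a =>
    ((AlgSp.J X).uliftYonedaEquiv_naturality a h).symm
  let a₀ := (ye (Over.mk (𝟙 X))).symm ((χ (Over.mk (𝟙 X))).symm 1)
  let a₁ := (ye (Over.mk (𝟙 X))).symm ((χ (Over.mk (𝟙 X))).symm α)
  have key : ∀ {T : Over X} (h : T ⟶ Over.mk (𝟙 X)),
      ((yon X).map h ≫ a₀ = (yon X).map h ≫ a₁ ↔ Band.res hY (y.map (backMap h)) α = 1) := fun {T} h => by
    rw [← (ye T).injective.eq_iff, hye, hye, ← (χ T).injective.eq_iff, hχ, hχ]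
    simp only [a₀, a₁, Equiv.apply_symm_apply, map_one]
    exact eq_comm
  obtain ⟨W, snd, fst, sq⟩ := hd₁.rep (prod.lift a₀ a₁)
  have hW : snd.left = W.hom := (Category.comp_id _).symm.trans (Over.w snd)
  refine ⟨W, hW ▸ hd₂.property _ fst snd sq, hW ▸ hd₁.property _ fst snd sq, fun {T} h => ?_⟩
  rw [← key h]
  constructor
  · rintro ⟨k⟩
    obtain rfl : h = k ≫ snd := Over.mkIdTerminal.hom_ext _ _
    have h₀ : fst = (yon X).map snd ≫ a₀ := by
      simpa using congrArg (fun m => m ≫ (prod.fst : A ⨯ A ⟶ A)) sq.w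
    have h₁ : fst = (yon X).map snd ≫ a₁ := by
      simpa using congrArg (fun m => m ≫ (prod.snd : A ⨯ A ⟶ A)) sq.w
    rw [Functor.map_comp, Category.assoc, Category.assoc, ← h₀, ← h₁]
  · intro e'
    exact ⟨((yon X).map_surjective (sq.lift ((yon X).map h ≫ a₀) ((yon X).map h)
      (prod.hom_ext (by simp) (by simp [e'])))).choose⟩

end Groth.StkGerb
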