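import Groth.Agent.StkGerb.StabAffine
import Groth.Agent.AlgStBasic.LocalLift
import Groth.Agent.AlgStBasic.SpaceProps
import Groth.Agent.SpLimit.BaseRestrict
import Groth.Agent.SpLimit.GroupScheme

/-!
# Stabilisers of field points are group schemes

The self-intersection of a point over `Spec K`, fibred over `Spec K`, has as sections the
automorphisms of the point; a quasi-separated group space over a field is a scheme.
-/

set_option autoImplicit false
set_option backward.isDefEq.respectTransparency false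
set_option backward.isDefEq.respectTransparency.types false

universe u

open CategoryTheory CategoryTheory.Limits AlgebraicGeometry Opposite AlgSp MonoidalCategory
open Groth.StkBase Groth.AlgSp3 Groth.AlgSpBasic

noncomputable section

namespace Groth.StkGerb

variable {S X : Scheme.{u}} {p : X ⟶ S}

/-- A scheme over the base of a point, as an object of the slice over the point. -/
abbrev backObj (p : X ⟶ S) (T : Over X) : Over (Over.mk p) :=
  Over.mk (Over.homMk T.hom rfl : (Over.map p).obj T ⟶ Over.mk p)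

/-- Functoriality of `backObj`. -/
abbrev backMap {T' T : Over X} (h : T' ⟶ T) : backObj p T' ⟶ backObj p T :=
  Over.homMk ((Over.map p).map h) (Over.OverMorphism.ext (Over.w h))

theorem backMap_id (T : Over X) : backMap (p := p) (𝟙 T) = 𝟙 (backObj p T) :=
  Over.OverMorphism.ext (Over.OverMorphism.ext rfl)

theorem backMap_comp {T'' T' T : Over X} (k : T'' ⟶ T') (h : T' ⟶ T) :
    backMap (p := p) (k ≫ h) = backMap k ≫ backMap h :=
  Over.OverMorphism.ext (Over.OverMorphism.ext rfl)

variable {𝒳 : AlgSt.Cat S}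

/-- The automorphism presheaf of a point, on schemes over its base. -/
def autP (hX : FibCat.IsFibGrpd 𝒳.p) (x : FibCat.overCat (Over.mk p) ⥤ᵇ 𝒳) :
    (Over X)ᵒᵖ ⥤ GrpCat.{u} where
  obj T := GrpCat.of (Gerb.AutO (x.obj (backObj p T.unop)))
  map h := GrpCat.ofHom (Band.res hX (x.map (backMap h.unop)))
  map_id T := GrpCat.hom_ext (MonoidHom.ext fun α => by
    show Band.res hX (x.map (backMap (𝟙 T.unop))) α = α
    refine Band.res_eq hX _ α α ?_
    rw [backMap_id, x.toFunctor.map_id, Category.comp_id, Category.id_comp])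
  map_comp h k := GrpCat.hom_ext (MonoidHom.ext fun α => by
    show Band.res hX (x.map (backMap (k.unop ≫ h.unop))) α =
      Band.res hX (x.map (backMap k.unop)) (Band.res hX (x.map (backMap h.unop)) α)
    rw [← Band.res_comp]
    refine Band.res_eq hX _ α _ ?_
    rw [backMap_comp, x.toFunctor.map_comp]
    exact Band.res_spec hX _ α)

/-- The sections of the self-intersection over the base of the point are the automorphisms. -/
theorem exists_autO_equiv (s : FibCat.overCat (Over.mk p) ⥤ᵇ 𝒳)
    (π : 𝒳 ⥤ᵇ FibCat.overCat (Over.mk p))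
    (ex : BasedFunctor.comp s π ≅ BasedFunctor.id (FibCat.overCat (Over.mk p)))
    {Z : Sp S} (e : AlgSt.ofSp Z ⥤ᵇ FibCat.fp s s) (he : FibCat.IsEquivOver e) :
    ∃ ψ : ∀ T : Over X,
        (fibre p (AlgSt.spMapOfOver (BasedFunctor.comp e (FibCat.fpFst s s)))).obj.obj (op T) ≃
          Gerb.AutO (s.obj (backObj p T)),
      ∀ {T' T : Over X} (h : T' ⟶ T) (z),
        (ψ T' ((fibre p (AlgSt.spMapOfOver (BasedFunctor.comp e (FibCat.fpFst s s)))).obj.map h.op z)).hom.1 ≫
            s.map (backMap h) = s.map (backMap h) ≫ (ψ T z).hom.1 := by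
  let Φ := BasedFunctor.comp e (FibCat.fpFst s s)
  let q := AlgSt.spMapOfOver Φ
  let iA : ∀ {T : Over X}, Gerb.AutO (s.obj (backObj p T)) →
      (s.obj (backObj p T) ≅ s.obj (backObj p T)) := fun α =>
    (Functor.Fiber.fiberInclusion (p := 𝒳.p)).mapIso α
  have hiA : ∀ {T : Over X} (α : Gerb.AutO (s.obj (backObj p T))), IsVert 𝒳.p (iA α).hom :=
    fun α => isVert_of_isHomLift α.hom.2
  let y : ∀ {T : Over X}, Gerb.AutO (s.obj (backObj p T)) → (FibCat.fp s s).obj := fun {T} α =>
    fpMk (backObj p T) (backObj p T) (iA α) (hiA α)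
  let o : ∀ {T : Over X}, Z.obj.obj (op ((Over.map p).obj T)) → (FibCat.fp s s).obj := fun {T} z =>
    e.obj ⟨(Over.map p).obj T, z⟩
  let Rel : ∀ {T : Over X}, Z.obj.obj (op ((Over.map p).obj T)) →
      Gerb.AutO (s.obj (backObj p T)) → Prop :=
    fun {T} z α => ∃ i : o z ≅ y α, IsVert (FibCat.fp s s).p i.hom
  -- the automorphism determines the section
  have uz : ∀ {T : Over X} {z z' : Z.obj.obj (op ((Over.map p).obj T))}
      {α : Gerb.AutO (s.obj (backObj p T))}, Rel z α → Rel z' α → z = z' := by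
    rintro T z z' α ⟨i, hi⟩ ⟨i', hi'⟩
    have := full_of_isEquivOver he
    obtain ⟨f, hf⟩ := e.toFunctor.map_surjective (i ≪≫ i'.symm).hom
    have hv : IsVert (AlgSt.ofSp Z).p f := isVert_of_map (F := e) (by
      rw [hf]; exact hi.comp (IsVert.inv (φ := i') hi'))
    have hh : f.hom = 𝟙 _ := hv.map_eq.trans (eqToHom_refl _ _)
    refine f.map_sec.symm.trans ?_
    exact map_op_id Z.obj f.hom hh z'
  -- a section determines the automorphism
  have ua : ∀ {T : Over X} {z : Z.obj.obj (op ((Over.map p).obj T))}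
      {α β : Gerb.AutO (s.obj (backObj p T))}, Rel z α → Rel z β → α = β := by
    rintro T z α β ⟨i, hi⟩ ⟨i', hi'⟩
    let g := i.symm ≪≫ i'
    have hg : IsVert (FibCat.fp s s).p g.hom := (IsVert.inv (φ := i) hi).comp hi'
    have h₁ : g.hom.hom.fst = 𝟙 (backObj p T) :=
      Over.OverMorphism.ext (hg.map_eq.trans (eqToHom_refl _ _))
    have h₂ : g.hom.hom.snd = 𝟙 (backObj p T) := by
      refine Over.OverMorphism.ext ((fp_map_snd g.hom).trans ?_)
      rw [h₁]
      show eqToHom _ ≫ (𝟙 ((Over.map p).obj T)) ≫ eqToHom _ = 𝟙 _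
      simp
    have w : s.map g.hom.hom.fst ≫ (iA β).hom = (iA α).hom ≫ s.map g.hom.hom.snd := g.hom.hom.w
    rw [h₁, h₂] at w
    erw [s.toFunctor.map_id, Category.id_comp, Category.comp_id] at w
    exact (Band.autO_ext w).symm
  -- the first projection of an object with an automorphism
  have cond : ∀ {T : Over X} {z : Z.obj.obj (op ((Over.map p).obj T))}
      {α : Gerb.AutO (s.obj (backObj p T))}, Rel z α → (q.hom.app _ z).down.left = T.hom := by
    rintro T z α ⟨i, hi⟩
    have hw := Over.w i.hom.hom.fst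
    have hl : (i.hom.hom.fst).left = eqToHom (Φ.w_obj ⟨_, z⟩) := hi.map_eq
    have hw' : eqToHom (Φ.w_obj ⟨_, z⟩) ≫
        (Over.homMk T.hom rfl : (Over.map p).obj T ⟶ Over.mk p) = (o z).obj.fst.hom := by
      rw [← hl]; exact hw
    show (eqToHom (Φ.w_obj ⟨_, z⟩).symm ≫ (o z).obj.fst.hom).left = T.hom
    rw [← hw', eqToHom_trans_assoc, eqToHom_refl, Category.id_comp]
    rfl
  -- every section over the base gives an automorphism
  have exa : ∀ {T : Over X} (z : Z.obj.obj (op ((Over.map p).obj T))),
      (q.hom.app _ z).down.left = T.hom → ∃ α, Rel z α := by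
    intro T z hz
    let a : Over (Over.mk p) := (o z).obj.fst
    let b : Over (Over.mk p) := (o z).obj.snd
    let i : s.obj a ≅ s.obj b := (o z).obj.iso
    have hi : IsVert 𝒳.p i.hom := fp_isVert (o z)
    let m : a ≅ b := (isoApp ex a).symm ≪≫ π.toFunctor.mapIso i ≪≫ isoApp ex b
    have hm : IsVert (FibCat.overCat (Over.mk p)).p m.hom :=
      (isVert_isoApp ex a).inv.comp ((isVert_map hi).comp (isVert_isoApp ex b))
    have ha : a.left = (Over.map p).obj T := Φ.w_obj ⟨_, z⟩
    let θ : a ≅ backObj p T := Over.isoMk (eqToIso ha) (by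
      have hz' : eqToHom ha.symm ≫ a.hom =
          (Over.homMk T.hom rfl : (Over.map p).obj T ⟶ Over.mk p) := Over.OverMorphism.ext hz
      show eqToHom ha ≫ (Over.homMk T.hom rfl : (Over.map p).obj T ⟶ Over.mk p) = a.hom
      rw [← hz', eqToHom_trans_assoc, eqToHom_refl, Category.id_comp])
    have hθ : IsVert (FibCat.overCat (Over.mk p)).p θ.hom := ⟨ha, rfl⟩
    let j : s.obj (backObj p T) ≅ s.obj (backObj p T) :=
      s.toFunctor.mapIso θ.symm ≪≫ i ≪≫ s.toFunctor.mapIso (m.symm ≪≫ θ)
    have hj : IsVert 𝒳.p j.hom :=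
      (isVert_map (IsVert.inv (φ := θ) hθ)).comp (hi.comp
        (isVert_map ((IsVert.inv (φ := m) hm).comp hθ)))
    let α : Gerb.AutO (s.obj (backObj p T)) :=
      { hom := ⟨j.hom, hj.isHomLift rfl⟩
        inv := ⟨j.inv, (IsVert.inv (φ := j) hj).isHomLift rfl⟩
        hom_inv_id := Functor.Fiber.hom_ext j.hom_inv_id
        inv_hom_id := Functor.Fiber.hom_ext j.inv_hom_id }
    refine ⟨α, fpObjIso θ (m.symm ≪≫ θ) ?_, hθ⟩
    show s.map θ.hom ≫ j.hom = i.hom ≫ s.map (m.inv ≫ θ.hom)
    show s.map θ.hom ≫ s.map θ.inv ≫ i.hom ≫ s.map (m.inv ≫ θ.hom) = _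
    rw [← Category.assoc, ← s.toFunctor.map_comp, Iso.hom_inv_id, s.toFunctor.map_id, Category.id_comp]
  -- every automorphism comes from a section
  have exz : ∀ {T : Over X} (α : Gerb.AutO (s.obj (backObj p T))), ∃ z, Rel z α := by
    intro T α
    obtain ⟨c, i, hi⟩ := exists_vert_preimage he (y α)
    obtain ⟨B, z⟩ := c
    obtain rfl : B = (Over.map p).obj T := (e.w_obj ⟨B, z⟩).symm.trans hi.obj_eq
    exact ⟨z, i, hi⟩
  -- the bijection
  let F := fibre p q
  let f : ∀ T : Over X, F.obj.obj (op T) → Gerb.AutO (s.obj (backObj p T)) := fun T z =>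
    (exa (z : fibreObj p q T).1 (z : fibreObj p q T).2).choose
  have hf : ∀ (T : Over X) (z : F.obj.obj (op T)), Rel (z : fibreObj p q T).1 (f T z) := fun T z =>
    (exa (z : fibreObj p q T).1 (z : fibreObj p q T).2).choose_spec
  have hb : ∀ T, Function.Bijective (f T) := by
    refine fun T => ⟨fun z z' h => Subtype.ext (uz (h ▸ hf T z) (hf T z')), fun α => ?_⟩
    obtain ⟨z, hz⟩ := exz α
    exact ⟨(⟨z, cond hz⟩ : fibreObj p q T), ua (hf T _) hz⟩
  refine ⟨fun T => Equiv.ofBijective (f T) (hb T), fun {T' T} h z => ?_⟩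
  show (f T' (F.obj.map h.op z)).hom.1 ≫ s.map (backMap h) = s.map (backMap h) ≫ (f T z).hom.1
  obtain ⟨i, hi⟩ := hf T z
  obtain ⟨i', hi'⟩ := hf T' (F.obj.map h.op z)
  let ε : (⟨(Over.map p).obj T', (F.obj.map h.op z : fibreObj p q T').1⟩ : (AlgSt.ofSp Z).obj) ⟶
      ⟨(Over.map p).obj T, (z : fibreObj p q T).1⟩ := eltHom ((Over.map p).map h) rfl
  let g := i'.inv ≫ e.map ε ≫ i.hom
  have hg : g.hom.fst.left = (Over.map p).map h := by
    show (FibCat.fp s s).p.map g = _
    show (FibCat.fp s s).p.map (i'.inv ≫ e.map ε ≫ i.hom) = _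
    rw [Functor.map_comp, Functor.map_comp, (IsVert.inv (φ := i') hi').map_eq, hi.map_eq, map_map e ε]
    simp only [Category.assoc]
    erw [eqToHom_trans_assoc, eqToHom_refl, Category.id_comp, eqToHom_trans, eqToHom_refl, Category.comp_id]
    rfl
  have h₁ : g.hom.fst = backMap h := Over.OverMorphism.ext hg
  have h₂ : g.hom.snd = backMap h := by
    refine Over.OverMorphism.ext ((fp_map_snd g).trans ?_)
    rw [h₁]
    show eqToHom _ ≫ (Over.map p).map h ≫ eqToHom _ = (Over.map p).map h
    simp
  have w := g.hom.w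
  rw [h₁, h₂] at w
  exact w.symm

/-- A sheaf living over a base is quasi-separated if its map to that base is. -/
theorem isQuasiSeparatedSp_of_shriek (g : X ⟶ S) {F : Sp X} {Z : Sp S}
    {q : Z ⟶ (yon S).obj (Over.mk g)} (e : (shriek g).obj F ≅ Z) (he : e.hom ≫ q = shriekToBase g F)
    (hq : IsQuasiSeparatedMor q) : IsQuasiSeparatedSp F := by
  let hT : IsTerminal ((yon X).obj (Over.mk (𝟙 X))) :=
    IsTerminal.isTerminalObj (yon X) _ Over.mkIdTerminal
  let m := shriekToBase g ((yon X).obj (Over.mk (𝟙 X)))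
  have : Mono m := ⟨fun {W} a b hab => by
    ext T w
    have h1 : (a.hom.app T w : shriekObj g _ (unop T)).1.1 = (b.hom.app T w : shriekObj g _ (unop T)).1.1 :=
      congrArg (fun k : W ⟶ (yon S).obj (Over.mk g) => (k.hom.app T w).down.left) hab
    refine shriekObj_ext _ _ h1 ?_
    exact ULift.ext _ _ (Over.mkIdTerminal.hom_ext _ _)⟩
  have hm : (shriek g).map (hT.from F) ≫ m = e.hom ≫ q := by rw [he]; exact shriekToBase_naturality g _
  have sq := isPullback_shriek g (IsPullback.of_is_product' (prodIsProd F F) hT)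
  have sq₂ : IsPullback ((shriek g).map (prod.fst : F ⨯ F ⟶ F) ≫ e.hom)
      ((shriek g).map (prod.snd : F ⨯ F ⟶ F) ≫ e.hom) q q := by
    have sq₁ : IsPullback ((shriek g).map (prod.fst : F ⨯ F ⟶ F))
        ((shriek g).map (prod.snd : F ⨯ F ⟶ F)) (e.hom ≫ q) (e.hom ≫ q) := by
      rw [← hm]
      exact ⟨⟨by rw [← Category.assoc, sq.w, Category.assoc]⟩,
        ⟨PullbackCone.isLimitOfCompMono _ _ m _ sq.isLimit⟩⟩
    exact sq₁.of_iso (Iso.refl _) e e (Iso.refl _) (by simp) (by simp) (by simp) (by simp)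
  have hd : (shriek g).map (Limits.diag F) ≫ sq₂.isoPullback.hom = e.hom ≫ pullback.diagonal q := by
    apply pullback.hom_ext
    · rw [Category.assoc, sq₂.isoPullback_hom_fst, Category.assoc, pullback.diagonal_fst,
        Category.comp_id, ← Category.assoc, ← Functor.map_comp, prod.lift_fst,
        CategoryTheory.Functor.map_id, Category.id_comp]
    · rw [Category.assoc, sq₂.isoPullback_hom_snd, Category.assoc, pullback.diagonal_snd,
        Category.comp_id, ← Category.assoc, ← Functor.map_comp, prod.lift_snd,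
        CategoryTheory.Functor.map_id, Category.id_comp]
  refine repWith_of_shriek_map g ?_
  have h := repWith_comp (repWith_isIso e.hom) (show RepWith @QuasiCompact (pullback.diagonal q) from hq)
  rw [← hd] at h
  have h' := repWith_comp h (repWith_isIso (P := @QuasiCompact) sq₂.isoPullback.inv)
  rwa [Category.assoc, Iso.hom_inv_id, Category.comp_id] at h'

section Group

variable {K : Type u} [Field K]

/-- A quasi-separated space over a field whose points carry groups is a group scheme. -/
theorem exists_grpScheme_of_points {F : Sp (Spec (CommRingCat.of K))} (hF : IsAlgSpace F)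
    (hqs : IsQuasiSeparatedSp F) (Q : (Over (Spec (CommRingCat.of K)))ᵒᵖ ⥤ GrpCat.{u})
    (ψ : ∀ T, F.obj.obj (op T) ≃ Q.obj (op T))
    (hψ : ∀ {T' T} (h : T' ⟶ T) z, ψ T' (F.obj.map h.op z) = Q.map h.op (ψ T z)) :
    ∃ (G : Over (Spec (CommRingCat.of K))) (_ : GrpObj G) (_ : F.obj.RepresentableBy G),
      ∃ mu : ∀ T : Over (Spec (CommRingCat.of K)), (yonedaGrpObj G).obj (op T) ≃* Q.obj (op T),
        ∀ {T' T} (h : T' ⟶ T) (a : T ⟶ G), mu T' (h ≫ a) = Q.map h.op (mu T a) := by
  let X₀ := Spec (CommRingCat.of K)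
  let B := (yon X₀).obj (Over.mk (𝟙 X₀))
  let F' : Over B := Over.mk ((IsTerminal.isTerminalObj (yon X₀) _ Over.mkIdTerminal).from F)
  -- natural families
  let fam : ∀ Y : Sp X₀, Subgroup (∀ T : Over X₀, Y.obj.obj (op T) → Q.obj (op T)) := fun Y =>
    { carrier := {a | ∀ (T' T : Over X₀) (h : T' ⟶ T) (y : Y.obj.obj (op T)),
        a T' (Y.obj.map h.op y) = Q.map h.op (a T y)}
      one_mem' := fun T' T h y => by simp
      mul_mem' := fun {a b} ha hb T' T h y => by simp [ha T' T h y, hb T' T h y]
      inv_mem' := fun {a} ha T' T h y => by simp [ha T' T h y] }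
  let Γ : (Over B)ᵒᵖ ⥤ GrpCat.{u + 1} :=
    { obj := fun H => GrpCat.of (fam H.unop.left)
      map := fun {H H'} k => GrpCat.ofHom
        { toFun := fun a => (⟨fun T y => a.1 T (k.unop.left.hom.app (op T) y), fun T' T h y => by
            exact (congrArg (a.1 T') (NatTrans.naturality_apply k.unop.left.hom h.op y)).trans
              (a.2 T' T h _)⟩ : fam H'.unop.left)
          map_one' := rfl
          map_mul' := fun _ _ => rfl }
      map_id := fun H => rfl
      map_comp := fun k l => rfl }
  let R : (Γ ⋙ forget _).RepresentableBy F' :=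
    { homEquiv := fun {H} =>
        { toFun := fun a => (⟨fun T y => ψ T (a.left.hom.app (op T) y), fun T' T h y => by
            exact (congrArg (ψ T') (NatTrans.naturality_apply a.left.hom h.op y)).trans (hψ h _)⟩ : fam H.left)
          invFun := fun a => Over.homMk
            (⟨{ app := fun T => ↾fun y => (ψ T.unop).symm ((a : fam H.left).1 T.unop y)
                naturality := fun T T' h => by
                  ext y
                  apply (ψ T'.unop).injective
                  refine Eq.trans ?_ (hψ h.unop _).symm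
                  erw [Equiv.apply_symm_apply, Equiv.apply_symm_apply]
                  exact (a : fam H.left).2 _ _ h.unop y }⟩ : H.left ⟶ F)
            ((IsTerminal.isTerminalObj (yon X₀) _ Over.mkIdTerminal).hom_ext _ _)
          left_inv := fun a => by
            apply Over.OverMorphism.ext
            ext T y
            exact (ψ T.unop).symm_apply_apply _
          right_inv := fun a => by
            apply Subtype.ext
            funext T y
            exact (ψ T).apply_symm_apply _ }
      homEquiv_comp := fun f g => rfl }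
  let _ : GrpObj F' := GrpObj.ofRepresentableBy F' Γ R
  obtain ⟨G, ⟨r⟩⟩ := Groth.SpLimit.isRepresentable_group F' hF hqs
  let rQ : (Q ⋙ forget _).RepresentableBy G :=
    { homEquiv := fun {T} => r.homEquiv.trans (ψ T)
      homEquiv_comp := fun f g => by
        show ψ _ (r.homEquiv (f ≫ g)) = Q.map f.op (ψ _ (r.homEquiv g))
        rw [r.homEquiv_comp]
        exact hψ f _ }
  let _ : GrpObj G := GrpObj.ofRepresentableBy G Q rQ
  exact ⟨G, inferInstance, r,
    fun T => ((yonedaGrpObjIsoOfRepresentableBy G Q rQ).app (op T)).groupIsoToMulEquiv,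
    fun h a => rQ.homEquiv_comp h a⟩

end Group

end Groth.StkGerb
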