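import Mathlib.AlgebraicGeometry.Morphisms.Immersion
import Groth.Agent.PropsBasic2.Misc
import Groth.Agent.GitQuot.FppfSourceScheme
import Groth.Agent.FlatMor2.FlatComp

/-!
Flatness and local finite presentation pass to retracts and descend along fppf families on the source.
-/

set_option autoImplicit false
set_option backward.isDefEq.respectTransparency false
set_option backward.isDefEq.respectTransparency.types false

universe u

open CategoryTheory CategoryTheory.Limits AlgebraicGeometry

namespace Groth.StkGerb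

variable {Q W U : Scheme.{u}}

/-- A retract over the base of a flat scheme is flat. -/
theorem flat_of_section (p : Q ⟶ W) (s : W ⟶ Q) (hs : s ≫ p = 𝟙 W) (g : W ⟶ U) [Flat (p ≫ g)] :
    Flat g := by
  rw [Flat.iff_flat_stalkMap]
  intro w
  have hw : p (s w) = w := by rw [← Scheme.Hom.comp_apply, hs]; rfl
  have h1 := Flat.stalkMap (p ≫ g) (s w)
  rw [Scheme.Hom.stalkMap_comp] at h1
  let a := p.stalkMap (s w)
  let b := s.stalkMap w
  have hab : IsIso (a ≫ b) := by
    have h2 : IsIso ((s ≫ p).stalkMap w) := by
      have : IsIso (s ≫ p) := by rw [hs]; infer_instance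
      infer_instance
    rw [Scheme.Hom.stalkMap_comp] at h2
    exact h2
  have hg : (g.stalkMap (p (s w))).hom.Flat := by
    let A := U.presheaf.stalk (g (p (s w)))
    let B := W.presheaf.stalk (p (s w))
    let C := Q.presheaf.stalk (s w)
    let φ : A →+* B := (g.stalkMap (p (s w))).hom
    let ψ : B →+* C := a.hom
    let ρ : C →+* B := (b ≫ inv (a ≫ b)).hom
    have hρψ : ∀ x, ρ (ψ x) = x := fun x =>
      congrArg (fun f => (ConcreteCategory.hom f) x) (show a ≫ b ≫ inv (a ≫ b) = 𝟙 _ by
        rw [← Category.assoc, IsIso.hom_inv_id])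
    letI := φ.toAlgebra
    letI := (ψ.comp φ).toAlgebra
    haveI : Module.Flat A C := h1
    let ψ' : B →ₐ[A] C := { ψ with commutes' := fun _ => rfl }
    let ρ' : C →ₐ[A] B := { ρ with commutes' := fun x => hρψ (φ x) }
    exact Module.Flat.of_retract ψ'.toLinearMap ρ'.toLinearMap (LinearMap.ext hρψ)
  rwa [hw] at hg

/-- A retract over the base of a scheme locally of finite presentation is locally of finite presentation. -/
theorem lfp_of_section (p : Q ⟶ W) (s : W ⟶ Q) (hs : s ≫ p = 𝟙 W) (g : W ⟶ U)
    [LocallyOfFinitePresentation (p ≫ g)] : LocallyOfFinitePresentation g := by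
  have : LocallyOfFiniteType p := locallyOfFiniteType_of_comp p g
  have : LocallyOfFinitePresentation (s ≫ p) := by rw [hs]; infer_instance
  have : LocallyOfFinitePresentation s := Groth.PropsBasic2.lfp_of_comp s p
  rw [← Category.id_comp g, ← hs, Category.assoc]
  infer_instance

/-- Flatness and local finite presentation descend along an fppf family on the source. -/
theorem flat_lfp_of_family {ι : Type u} {X Y : Scheme.{u}} (Z : ι → Scheme.{u}) (b : ∀ i, Z i ⟶ X)
    (hb : ∀ i, Flat (b i) ∧ LocallyOfFinitePresentation (b i))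
    (hs : ∀ x : X, ∃ (i : ι) (z : Z i), b i z = x) (g : X ⟶ Y)
    (hg : ∀ i, Flat (b i ≫ g) ∧ LocallyOfFinitePresentation (b i ≫ g)) :
    Flat g ∧ LocallyOfFinitePresentation g := by
  let f : (∐ Z) ⟶ X := Sigma.desc b
  have hι : ∀ i, (sigmaOpenCover Z).f i ≫ f = b i := fun i => Sigma.ι_desc _ _
  have hιg : ∀ i, (sigmaOpenCover Z).f i ≫ f ≫ g = b i ≫ g := fun i => by rw [← Category.assoc, hι]
  have : Flat f := (IsZariskiLocalAtSource.iff_of_openCover (P := @Flat) (sigmaOpenCover Z)).2
    fun i => by rw [hι]; exact (hb i).1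
  have : LocallyOfFinitePresentation f := (IsZariskiLocalAtSource.iff_of_openCover
    (P := @LocallyOfFinitePresentation) (sigmaOpenCover Z)).2 fun i => by rw [hι]; exact (hb i).2
  have : Flat (f ≫ g) := (IsZariskiLocalAtSource.iff_of_openCover (P := @Flat) (sigmaOpenCover Z)).2
    fun i => by rw [hιg]; exact (hg i).1
  have : LocallyOfFinitePresentation (f ≫ g) := (IsZariskiLocalAtSource.iff_of_openCover
    (P := @LocallyOfFinitePresentation) (sigmaOpenCover Z)).2 fun i => by rw [hιg]; exact (hg i).2
  have : Surjective f := ⟨fun x => by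
    obtain ⟨i, z, rfl⟩ := hs x
    exact ⟨(sigmaOpenCover Z).f i z, by rw [← Scheme.Hom.comp_apply, hι]; rfl⟩⟩
  exact ⟨Groth.FlatMor2.flat_of_comp_surjective f g,
    Groth.GitQuot.FppfSource.locallyOfFinitePresentation_of_fppf f g⟩

end Groth.StkGerb
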