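import Groth.Agent.StkGerb.SmoothLocus
import Groth.Agent.AlgStBasic.LocQDescend

/-!
The largest open substack on which a morphism is smooth: existence and smooth precomposition.
-/

set_option autoImplicit false
set_option backward.isDefEq.respectTransparency false
set_option backward.isDefEq.respectTransparency.types false

universe u

open CategoryTheory CategoryTheory.Limits AlgebraicGeometry Topology
open Groth.StkBase Groth.AlgStBasic

noncomputable section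

namespace Groth.StkGerb

variable {S : Scheme.{u}} {𝒳 𝒳' 𝒴 : AlgSt.Cat S}

theorem inPts_map_iff (hX : AlgSt.IsAlgStack Scheme.fppfPrecoverage 𝒳)
    (hX' : AlgSt.IsAlgStack Scheme.fppfPrecoverage 𝒳') (g : 𝒳' ⥤ᵇ 𝒳) (T : Set (AlgSt.Points 𝒳))
    (a : 𝒳'.obj) : inPts (AlgSt.Points.map g ⁻¹' T) a ↔ inPts T (g.obj a) := by
  obtain ⟨i, -⟩ := overFunctor_eval hX'.isStack.1 a (rfl : 𝒳'.p.obj a = _)
  let G := overFunctor hX'.isStack.1 a (rfl : 𝒳'.p.obj a = _)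
  have h₁ := inPts_idObj_iff (T := AlgSt.Points.map g ⁻¹' T) hX'.isStack.1 G
  have h₂ := inPts_idObj_iff (T := T) hX.isStack.1 (BasedFunctor.comp G g)
  constructor
  · exact fun h => inPts_of_hom (g.map i.inv) (h₂.2 fun t => h₁.1 (inPts_of_hom i.hom h) t)
  · exact fun h => inPts_of_hom i.inv (h₁.2 fun t => h₂.1 (inPts_of_hom (g.map i.hom) h) t)

theorem exists_largest_smooth (hX : AlgSt.IsAlgStack Scheme.fppfPrecoverage 𝒳)
    (hY : AlgSt.IsAlgStack Scheme.fppfPrecoverage 𝒴) (f : 𝒳 ⥤ᵇ 𝒴) :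
    ∃ Q : 𝒳.obj → Prop, AlgSt.IsOpenSubstack 𝒳 Q Scheme.fppfPrecoverage ∧
      AlgSt.LocQ (AlgSp.LocP @Smooth) (BasedFunctor.comp (AlgSt.subIncl 𝒳 Q) f) ∧
      ∀ Q' : 𝒳.obj → Prop, AlgSt.IsOpenSubstack 𝒳 Q' Scheme.fppfPrecoverage →
        AlgSt.LocQ (AlgSp.LocP @Smooth) (BasedFunctor.comp (AlgSt.subIncl 𝒳 Q') f) → ∀ a, Q' a → Q a := by
  obtain ⟨V, y, hy, hys⟩ := exists_space_atlas hY
  obtain ⟨U, L, hL, -, hx₀, hxs₀⟩ := exists_chart_over hX hY f hy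
  obtain ⟨h, hh⟩ := (AlgSp.yon S).map_surjective (mapOf (BasedFunctor.comp L (FibCat.fpSnd f y)))
  obtain ⟨α⟩ := nonempty_lift_iso f (U := (AlgSp.ofScheme S).obj U) L
  rw [← hh] at α
  let x := BasedFunctor.comp (AlgSt.ofOverCat U) (BasedFunctor.comp L (FibCat.fpFst f y))
  have hx : AlgSt.RepByAlgSpWith (AlgSp.LocP @Smooth) x :=
    (repWith_precomp_equiv (isEquivOver_ofOverCat U) _).2 hx₀
  have hxs := surjective_ofChart hX.isStack.1 (x := x)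
    ((repWith_precomp_equiv (isEquivOver_ofOverCat U) _).2 (hxs₀ hys))
  obtain ⟨h₁, h₂⟩ := isOpenSubstack_image_smOpen hX (x := x)
    (y := BasedFunctor.comp (AlgSt.ofOverCat V) y) (h := h) (whiskerLeftIso (AlgSt.ofOverCat U) α :) hx
    ((repWith_precomp_equiv (isEquivOver_ofOverCat V) y).2 hy)
  refine ⟨_, h₁, h₂, fun Q' hQ' hQ'f => (isOpenSubstack_le_iff hX hQ' h₁).2 fun z hz => ?_⟩
  rw [range_subIncl_inPts_eq]
  obtain ⟨u, rfl⟩ := hxs z
  exact ⟨u, preimage_le_smOpen hX hY hy L hL h hh.symm.symm hQ' hQ'f u hz, rfl⟩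

theorem largest_smooth_comp (hX' : AlgSt.IsAlgStack Scheme.fppfPrecoverage 𝒳')
    (hX : AlgSt.IsAlgStack Scheme.fppfPrecoverage 𝒳) (hY : AlgSt.IsAlgStack Scheme.fppfPrecoverage 𝒴)
    (g : 𝒳' ⥤ᵇ 𝒳) (hg : AlgSt.LocQ (AlgSp.LocP @Smooth) g) (f : 𝒳 ⥤ᵇ 𝒴)
    (Q : 𝒳.obj → Prop) (hQ₁ : AlgSt.IsOpenSubstack 𝒳 Q Scheme.fppfPrecoverage)
    (hQ₂ : AlgSt.LocQ (AlgSp.LocP @Smooth) (BasedFunctor.comp (AlgSt.subIncl 𝒳 Q) f))
    (hQ₃ : ∀ Q' : 𝒳.obj → Prop, AlgSt.IsOpenSubstack 𝒳 Q' Scheme.fppfPrecoverage →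
      AlgSt.LocQ (AlgSp.LocP @Smooth) (BasedFunctor.comp (AlgSt.subIncl 𝒳 Q') f) → ∀ a, Q' a → Q a) :
    AlgSt.IsOpenSubstack 𝒳' (fun a ↦ Q (g.obj a)) Scheme.fppfPrecoverage ∧
      AlgSt.LocQ (AlgSp.LocP @Smooth)
        (BasedFunctor.comp (AlgSt.subIncl 𝒳' (fun a ↦ Q (g.obj a))) (BasedFunctor.comp g f)) ∧
      ∀ Q' : 𝒳'.obj → Prop, AlgSt.IsOpenSubstack 𝒳' Q' Scheme.fppfPrecoverage →
        AlgSt.LocQ (AlgSp.LocP @Smooth) (BasedFunctor.comp (AlgSt.subIncl 𝒳' Q') (BasedFunctor.comp g f)) →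
        ∀ a, Q' a → Q (g.obj a) := by
  let T := Set.range (AlgSt.Points.map (AlgSt.subIncl 𝒳 Q))
  have hT : IsOpen T := (isOpenMap_map_of_isOpenImm hQ₁.2.1 hX.isStack.1 hQ₁.2.2).isOpen_range
  obtain ⟨V, z, hz, hzs⟩ := exists_space_atlas hY
  obtain ⟨W, Lf, hLf, -, hy, hys⟩ := exists_chart_over hX hY f hz
  obtain ⟨U, L, hL, -, hx₀, hxs₀⟩ := exists_chart_over hX' hX g hy
  let y := BasedFunctor.comp Lf (FibCat.fpFst f z)
  obtain ⟨a, ha⟩ := (AlgSp.yon S).map_surjective (mapOf (BasedFunctor.comp L (FibCat.fpSnd g y)))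
  obtain ⟨b, hb⟩ := (AlgSp.yon S).map_surjective (mapOf (BasedFunctor.comp Lf (FibCat.fpSnd f z)))
  have hab : (AlgSp.yon S).map (a ≫ b) =
      mapOf (BasedFunctor.comp (liftComp Lf L) (FibCat.fpSnd (BasedFunctor.comp g f) z)) := by
    rw [mapOf_liftComp_snd, Functor.map_comp, ha, hb]
  have hL₂ : AlgSt.RepByAlgSpWith (AlgSp.LocP @Smooth) (liftComp Lf L) :=
    repWith_comp' (isFibGrpd_ofSp _) (isFibGrpd_fp hX'.isStack.1 (isFibGrpd_ofSp _) hX.isStack.1)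
      stableBaseChange_locP stableComp_locP descendsAlongAtlas_locP hL
      ((repWith_postcomp_equiv _ (isEquivOver_fpPaste g f z)).2
        (repWith_fpPre_id_left Lf g (FibCat.fpFst f z) hLf))
  have : Smooth a.left :=
    left_prop_of_locP_yon (ha ▸ (locQ_iff_all isSmoothLocalST_smooth hX' hX).1 hg _ _ y L hy hL)
  let x := BasedFunctor.comp (AlgSt.ofOverCat U) (BasedFunctor.comp L (FibCat.fpFst g y))
  have hx : AlgSt.RepByAlgSpWith (AlgSp.LocP @Smooth) x :=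
    (repWith_precomp_equiv (isEquivOver_ofOverCat U) _).2 hx₀
  have hxs := surjective_ofChart hX'.isStack.1 (x := x)
    ((repWith_precomp_equiv (isEquivOver_ofOverCat U) _).2 (hxs₀ (hys hzs)))
  let yy := BasedFunctor.comp (AlgSt.ofOverCat W) y
  have key := largest_smooth_eq hX hY hz Lf hLf b hb
    ((repWith_precomp_equiv (isEquivOver_ofOverCat W) _).2 hy)
    (surjective_ofChart hX.isStack.1 ((repWith_precomp_equiv (isEquivOver_ofOverCat W) _).2 (hys hzs)))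
    hQ₁ hQ₂ hQ₃
  obtain ⟨ζ⟩ := nonempty_lift_iso g (U := (AlgSp.ofScheme S).obj U) L
  rw [← ha] at ζ
  have hgx : ∀ u, AlgSt.Points.map g (AlgSt.Points.ofChart x u) = AlgSt.Points.ofChart yy (a.left u) := by
    intro u
    rw [← ofChart_overMap, ofChart_eq_map, ← map_comp,
      ofChart_eq_map (BasedFunctor.comp (AlgSt.overMap a) yy)]
    exact congrFun (map_eq_of_iso (whiskerLeftIso (AlgSt.ofOverCat U) ζ :)) _
  have hmem : ∀ u, AlgSt.Points.map g (AlgSt.Points.ofChart x u) ∈ T ↔ u ∈ smOpen (a ≫ b).left := by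
    intro u
    rw [hgx, Over.comp_left, ← preimage_smOpen]
    exact Set.ext_iff.1 key _
  have himg : AlgSt.Points.map g ⁻¹' T = AlgSt.Points.ofChart x '' (smOpen (a ≫ b).left : Set U.left) := by
    ext w
    obtain ⟨u, rfl⟩ := hxs w
    refine ⟨fun h => ⟨u, (hmem u).1 h, rfl⟩, ?_⟩
    rintro ⟨u', hu', e⟩
    rw [Set.mem_preimage, ← e]
    exact (hmem u').2 hu'
  have hpred : (fun a ↦ Q (g.obj a)) = inPts (AlgSt.Points.ofChart x '' (smOpen (a ≫ b).left : Set U.left)) := by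
    funext c
    rw [← himg]
    exact propext ((isOpenSubstack_eq hX hQ₁ _).trans (inPts_map_iff hX hX' g T c).symm)
  obtain ⟨α⟩ := nonempty_lift_iso (BasedFunctor.comp g f) (U := (AlgSp.ofScheme S).obj U) (liftComp Lf L)
  rw [← hab] at α
  obtain ⟨h₁, h₂⟩ := isOpenSubstack_image_smOpen hX' (f := BasedFunctor.comp g f) (x := x)
    (y := BasedFunctor.comp (AlgSt.ofOverCat V) z) (h := a ≫ b) (whiskerLeftIso (AlgSt.ofOverCat U) α :) hx
    ((repWith_precomp_equiv (isEquivOver_ofOverCat V) z).2 hz)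
  rw [hpred]
  refine ⟨h₁, h₂, fun Q' hQ' hQ'f c hc => ?_⟩
  show Q (g.obj c)
  rw [congrFun hpred c]
  refine (isOpenSubstack_le_iff hX' hQ' h₁).2 (fun w hw => ?_) c hc
  rw [range_subIncl_inPts_eq]
  obtain ⟨u, rfl⟩ := hxs w
  exact ⟨u, preimage_le_smOpen hX' hY hz (liftComp Lf L) hL₂ (a ≫ b) hab hQ' hQ'f u hw, rfl⟩

end Groth.StkGerb
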