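import Groth.Agent.StkGerb.GerbeFL
import Groth.Agent.CategoryFibred.Functors

/-!
Consequences for gerbes of flatness and local finite presentation of the diagonal.
-/

set_option autoImplicit false
set_option backward.isDefEq.respectTransparency false
set_option backward.isDefEq.respectTransparency.types false

universe v₃ u₃ v₂ u₂ v u

open CategoryTheory AlgebraicGeometry
open Groth.StkBase Groth.AlgStBasic Groth.AlgSpBasic

namespace Groth.StkGerb

section Inertia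

variable {C : Type u} [Category.{v} C] {𝒳 : BasedCategory.{v₂, u₂} C} {𝒴 : BasedCategory.{v₃, u₃} C}

/-- The inertia as self-intersection of the diagonal. -/
theorem exists_inertia_equiv (F : 𝒳 ⥤ᵇ 𝒴) :
    ∃ E : FibCat.inertia F ⥤ᵇ FibCat.fp (FibCat.diag F) (FibCat.diag F),
      FibCat.IsEquivOver E ∧ BasedFunctor.comp E (FibCat.fpFst _ _) = FibCat.inertiaToBase F := by
  let e : BasedFunctor.comp (FibCat.inertiaToBase F) (FibCat.diag F) ≅
      BasedFunctor.comp (FibCat.inertiaToBase F) (FibCat.diag F) :=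
    isoMk
      (fun x => fpObjIso x.aut (Iso.refl _) (by
        change F.toFunctor.map x.aut.hom ≫ 𝟙 _ = 𝟙 _ ≫ F.toFunctor.map (𝟙 _)
        simp [x.map_aut]))
      (fun {a b} φ => fp_hom_ext φ.comm.symm (by
        change φ.hom ≫ 𝟙 _ = 𝟙 _ ≫ φ.hom
        simp))
      (fun x => by
        apply isVert_of_map (F := F)
        show IsVert _ (F.map x.aut.hom)
        rw [x.map_aut]
        exact isVert_id _)
  refine ⟨FibCat.fpLift (FibCat.inertiaToBase F) (FibCat.inertiaToBase F) e, ?_, rfl⟩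
  refine isEquivOver_of_fullyFaithful _ ⟨fun {x y} φ => ?_⟩ ⟨fun {x y} φ ψ h => ?_⟩ (fun y => ?_)
  · have e1 : φ.hom.fst ≫ y.aut.hom = x.aut.hom ≫ φ.hom.snd := congrArg (fun k => k.hom.fst) φ.hom.w
    have e2 : φ.hom.fst ≫ 𝟙 y.pt = 𝟙 x.pt ≫ φ.hom.snd := congrArg (fun k => k.hom.snd) φ.hom.w
    have e3 : φ.hom.fst = φ.hom.snd := (Category.comp_id _).symm.trans (e2.trans (Category.id_comp _))
    exact ⟨⟨φ.hom.fst, by rw [e1, e3]⟩, fp_hom_ext rfl e3⟩
  · exact FibCat.InertiaObj.hom_ext (congrArg (fun k => k.hom.fst) h)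
  · let j : (FibCat.diag F).toFunctor.obj y.obj.fst ≅ (FibCat.diag F).toFunctor.obj y.obj.snd := y.obj.iso
    let j1 : y.obj.fst ≅ y.obj.snd := (FibCat.fpFst F F).toFunctor.mapIso j
    let j2 : y.obj.fst ≅ y.obj.snd := (FibCat.fpSnd F F).toFunctor.mapIso j
    have hw : F.toFunctor.map j1.hom ≫ 𝟙 (F.toFunctor.obj y.obj.snd) =
        𝟙 (F.toFunctor.obj y.obj.fst) ≫ F.toFunctor.map j2.hom := j.hom.hom.w
    rw [Category.comp_id, Category.id_comp] at hw
    let x : (FibCat.inertia F).obj := ⟨y.obj.fst, j1 ≪≫ j2.symm, by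
      change F.toFunctor.map (j1.hom ≫ j2.inv) = _
      rw [Functor.map_comp, hw, ← Functor.map_comp, j2.hom_inv_id, F.toFunctor.map_id]⟩
    refine ⟨x, fpObjIso (Iso.refl _) j2 ?_, isVert_id y.obj.fst⟩
    apply fp_hom_ext
    · change 𝟙 _ ≫ j1.hom = (j1.hom ≫ j2.inv) ≫ j2.hom
      simp
    · change 𝟙 _ ≫ j2.hom = 𝟙 _ ≫ j2.hom
      rfl

end Inertia

variable {S : Scheme.{u}} {𝒳 𝒴 : AlgSt.Cat S}

/-- A morphism whose diagonal is locally surjective on objects lifts isomorphisms locally. -/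
theorem locSurjHom_of_diag (hX : FibCat.IsFibGrpd 𝒳.p) (hY : FibCat.IsFibGrpd 𝒴.p) {f : 𝒳 ⥤ᵇ 𝒴}
    (hD : Gerb.LocSurjObj (QuotSh.J Scheme.fppfPrecoverage S) (FibCat.diag f)) :
    Gerb.LocSurjHom (QuotSh.J Scheme.fppfPrecoverage S) f := by
  intro x x' b hb
  have hb' := isVert_of_isHomLift hb
  have : IsIso b := hb'.isIso hY
  obtain ⟨R, hR, hR'⟩ := hD (fpMk x x' (asIso b) hb')
  refine ⟨R, hR, fun V h hh => ?_⟩
  obtain ⟨a, g, hg⟩ := hR' h hh
  obtain ⟨h₁, h₂, eg⟩ := (isHomLift_iff_eqToHom _ _).1 hg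
  have hsnd := fp_map_snd g
  have hxx : 𝒳.p.obj x' = 𝒳.p.obj x :=
    (f.w_obj x').symm.trans (hb'.obj_eq.symm.trans (f.w_obj x))
  refine ⟨a, g.hom.fst, g.hom.snd, IsHomLift.of_fac' _ _ _ h₁ rfl (by simpa using eg),
    IsHomLift.of_fac' _ _ _ h₁ hxx ?_, ?_⟩
  · rw [hsnd]
    have eg' : 𝒳.p.map g.hom.fst = eqToHom h₁ ≫ h ≫ eqToHom h₂.symm := eg
    simp [FibCat.diag, eg']
  · exact g.hom.w.trans (Category.id_comp _)

/-- Homeomorphisms after every base change for gerbes. -/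
theorem isUnivHomeo_of_isGerbeOver (hX : AlgSt.IsAlgStack Scheme.fppfPrecoverage 𝒳)
    (hY : AlgSt.IsAlgStack Scheme.fppfPrecoverage 𝒴) {f : 𝒳 ⥤ᵇ 𝒴}
    (hf : Gerb.IsGerbeOver (QuotSh.J Scheme.fppfPrecoverage S) f) :
    AlgSt.IsUnivHomeo Scheme.fppfPrecoverage f := by
  intro 𝒵 hZ g
  obtain ⟨hs, hfl, hfp⟩ := surjective_flat_lfp_of_isGerbeOver hX hY hf
  have hP := isAlgStack_fp hY.isStack hY.diag hZ hX g f
  obtain ⟨h₁, h₂⟩ := IsFL.fpFst hX hY hZ g ⟨hfl, hfp⟩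
  have hff := isAlgStack_fp hY.isStack hY.diag hX hX f f
  have hi : AlgSt.IsUnivInjective Scheme.fppfPrecoverage f :=
    (isUnivInjective_iff_isSurjective_diag hX hY f).2
      (isSurjective_of_locSurjObj hX.isStack.1 hff.isStack.1 (locSurjObj_diag hX.isStack.1 hf.2))
  obtain ⟨U, V, x, y, a, α, -, hxs, hy, -, hsq⟩ := exists_scheme_square hP hZ (FibCat.fpFst g f)
  have : Flat a.left := left_prop_of_locP_yon ((hsq isSmoothLocalST_flat).1 h₁)
  have : LocallyOfFinitePresentation a.left := left_prop_of_locP_yon ((hsq isSmoothLocalST_lfp).1 h₂)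
  have : UniversallyOpen a.left := inferInstance
  exact ⟨continuous_map hZ _, isOpenMap_map_of_locQ hP hZ α hxs hy a.left.isOpenMap,
    hi 𝒵 hZ g, isSurjective_fpFst hX.isStack.1 hY.isStack.1 hZ.isStack.1 g hs⟩

/-- Universal homeomorphisms are quasi-compact. -/
theorem isQuasiCompactMor_of_isUnivHomeo (hX : AlgSt.IsAlgStack Scheme.fppfPrecoverage 𝒳)
    (hY : AlgSt.IsAlgStack Scheme.fppfPrecoverage 𝒴) {f : 𝒳 ⥤ᵇ 𝒴}
    (hf : AlgSt.IsUnivHomeo Scheme.fppfPrecoverage f) :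
    AlgSt.IsQuasiCompactMor Scheme.fppfPrecoverage f := by
  intro 𝒵 hZ hc g
  have := (isQuasiCompact_iff_compactSpace hZ).1 hc
  have := (hf 𝒵 hZ g).homeomorph.symm.compactSpace
  exact isQuasiCompact_of_compactSpace (isAlgStack_fp hY.isStack hY.diag hZ hX g f)

end Groth.StkGerb
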