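import Groth.Agent.AlgStBasic.StUniv
import Groth.Agent.AlgStBasic.StCompact
import Groth.Agent.AlgStBasic.SepRep

/-!
Universally closed morphisms of algebraic stacks, and separatedness through universally closed covers.
-/

set_option autoImplicit false
set_option backward.isDefEq.respectTransparency false
set_option backward.isDefEq.respectTransparency.types false

universe u

open CategoryTheory AlgebraicGeometry
open Groth.StkBase Groth.AlgStBasic

namespace Groth.StkGerb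

variable {S : Scheme.{u}} {𝒳 𝒴 𝒵 𝒳' 𝒴' : AlgSt.Cat S}

local notation "UC" => AlgSt.IsUnivClosed Scheme.fppfPrecoverage
local notation "Alg" => AlgSt.IsAlgStack Scheme.fppfPrecoverage

theorem repWith_univClosed_iff (hX : Alg 𝒳) (hY : Alg 𝒴) {f : 𝒳 ⥤ᵇ 𝒴}
    (hf : AlgSt.RepByAlgSp1 f) : AlgSt.RepByAlgSpWith AlgSp.IsUnivClosedMor f ↔ UC f :=
  ⟨fun h _ hZ g => isClosedMap_map_of_charts (isAlgStack_fp hY.isStack hY.diag hZ hX g f) hZ.isStack.1
      fun T y => exists_chartSq_fpFst f h g T y,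
    fun h => repWith_univSp_of_forall (R := fun φ => IsClosedMap φ)
      (fun _ _ _ _ ha hb e hψ => isClosedMap_of_square ha hb e hψ) (fun _ h => h) hX hY hf h⟩

theorem isClosedMap_map_of_isEquivOver (hX : Alg 𝒳) (hY : Alg 𝒴) {e : 𝒳 ⥤ᵇ 𝒴}
    (he : FibCat.IsEquivOver e) : IsClosedMap (AlgSt.Points.map e) :=
  (isHomeomorph_map_of_isEquivOver hX hY he).isClosedMap

theorem isUnivClosed_comp (hX : Alg 𝒳) (hY : Alg 𝒴) (hZ : Alg 𝒵) {f : 𝒳 ⥤ᵇ 𝒴} {g : 𝒴 ⥤ᵇ 𝒵}
    (hf : UC f) (hg : UC g) : UC (BasedFunctor.comp f g) := by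
  intro 𝒲 hW h C hC
  have hWY := isAlgStack_fp hZ.isStack hZ.diag hW hY h g
  have hT := isAlgStack_fp hY.isStack hY.diag hWY hX (FibCat.fpSnd h g) f
  let e := fpCompFun h f g
  have he := isEquivOver_fpCompFun h f g
  have key : AlgSt.Points.map (FibCat.fpFst h (BasedFunctor.comp f g)) '' C =
      AlgSt.Points.map (FibCat.fpFst h g) '' (AlgSt.Points.map (FibCat.fpFst (FibCat.fpSnd h g) f) ''
        (AlgSt.Points.map e ⁻¹' C)) := by
    conv_lhs => rw [← (bijective_map_of_isEquivOver he).2.image_preimage C]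
    rw [Set.image_image, Set.image_image]
    exact Set.image_congr fun x _ =>
      (map_comp e _ x).symm.trans (map_comp (FibCat.fpFst (FibCat.fpSnd h g) f) (FibCat.fpFst h g) x)
  rw [key]
  exact hg 𝒲 hW h _ (hf _ hWY _ _ (hC.preimage
    (continuous_map (isAlgStack_fp hZ.isStack hZ.diag hW hX h _) e)))

theorem isUnivClosed_of_isEquivOver (hX : Alg 𝒳) (hY : Alg 𝒴) {e : 𝒳 ⥤ᵇ 𝒴}
    (he : FibCat.IsEquivOver e) : UC e := by
  intro 𝒯 hT g
  have h₁ : FibCat.IsEquivOver (BasedFunctor.comp (fpPre (BasedFunctor.id 𝒯) e g (BasedFunctor.id 𝒴))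
      (FibCat.fpFst g (BasedFunctor.id 𝒴))) :=
    isEquivOver_comp (isEquivOver_fpPre (isEquivOver_id _) he _ _) (isEquivOver_fpFst_id g)
  exact isClosedMap_map_of_isEquivOver (isAlgStack_fp hY.isStack hY.diag hT hX g e) hT h₁

theorem isUnivClosed_of_iso (hY : Alg 𝒴) (hX : Alg 𝒳) {f f' : 𝒳 ⥤ᵇ 𝒴} (α : f ≅ f') (h : UC f) :
    UC f' := by
  intro 𝒯 hT g C hC
  let e := fpCongr (Iso.refl g) α
  have he := isEquivOver_fpCongr (Iso.refl g) α
  rw [← (bijective_map_of_isEquivOver he).2.image_preimage C, Set.image_image,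
    Set.image_congr (g := AlgSt.Points.map (FibCat.fpFst g f)) fun x _ => (map_comp e _ x).symm]
  exact h 𝒯 hT g _ (hC.preimage (continuous_map (isAlgStack_fp hY.isStack hY.diag hT hX g f') e))

theorem isUnivClosed_fpFst (hX : Alg 𝒳) (hY : Alg 𝒴) (hZ : Alg 𝒵) {f : 𝒳 ⥤ᵇ 𝒴} (g : 𝒵 ⥤ᵇ 𝒴)
    (hf : UC f) : UC (FibCat.fpFst g f) := by
  intro 𝒯 hT h C hC
  let e := fpUnpaste h g f
  have he := isEquivOver_fpUnpaste h g f
  rw [← (bijective_map_of_isEquivOver he).2.image_preimage C, Set.image_image,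
    Set.image_congr (g := AlgSt.Points.map (FibCat.fpFst (BasedFunctor.comp h g) f))
      fun x _ => (map_comp e _ x).symm]
  exact hf 𝒯 hT _ _ (hC.preimage (continuous_map
    (isAlgStack_fp hZ.isStack hZ.diag hT (isAlgStack_fp hY.isStack hY.diag hZ hX g f) h _) e))

theorem isUnivClosed_fpPre_left (hX' : Alg 𝒳') (hX : Alg 𝒳) (hY : Alg 𝒴)
    (hZ : Alg 𝒵) (a : 𝒳' ⥤ᵇ 𝒳) (F : 𝒳 ⥤ᵇ 𝒵) (G : 𝒴 ⥤ᵇ 𝒵) (ha : UC a) :
    UC (fpPre a (BasedFunctor.id 𝒴) F G) := by
  have hA := isAlgStack_fp hZ.isStack hZ.diag hX hY F G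
  have hA' := isAlgStack_fp hZ.isStack hZ.diag hX' hY (BasedFunctor.comp a F) G
  have hB := isAlgStack_fp hX.isStack hX.diag hX' hA a (FibCat.fpFst F G)
  have hB' := isAlgStack_fp hX.isStack hX.diag hA hX' (FibCat.fpFst F G) a
  refine isUnivClosed_of_iso hA hA' (nonempty_fpPre_left_iso a F G).some ?_
  refine isUnivClosed_comp hA' hB hA
    (isUnivClosed_of_isEquivOver hA' hB (isEquivOver_fpUnpaste a F G)) ?_
  exact isUnivClosed_of_iso hA hB (Iso.refl _) (isUnivClosed_comp hB hB' hA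
    (isUnivClosed_of_isEquivOver hB hB' (isEquivOver_fpSwap a (FibCat.fpFst F G)))
    (isUnivClosed_fpFst hX' hX hA (FibCat.fpFst F G) ha))

theorem isUnivClosed_fpPre (hX' : Alg 𝒳') (hX : Alg 𝒳) (hY' : Alg 𝒴') (hY : Alg 𝒴) (hZ : Alg 𝒵)
    (a : 𝒳' ⥤ᵇ 𝒳) (b : 𝒴' ⥤ᵇ 𝒴) (F : 𝒳 ⥤ᵇ 𝒵) (G : 𝒴 ⥤ᵇ 𝒵) (ha : UC a) (hb : UC b) :
    UC (fpPre a b F G) := by
  have hXY := isAlgStack_fp hZ.isStack hZ.diag hX hY F G
  have hX'Y' := isAlgStack_fp hZ.isStack hZ.diag hX' hY' (BasedFunctor.comp a F) (BasedFunctor.comp b G)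
  have hXY' := isAlgStack_fp hZ.isStack hZ.diag hX hY' F (BasedFunctor.comp b G)
  have hY'X := isAlgStack_fp hZ.isStack hZ.diag hY' hX (BasedFunctor.comp b G) F
  have hYX := isAlgStack_fp hZ.isStack hZ.diag hY hX G F
  have h2 : UC (fpPre (BasedFunctor.id 𝒳) b F G) :=
    isUnivClosed_of_iso hXY hXY' (nonempty_fpPre_swap_iso b F G).some
      (isUnivClosed_comp hXY' hYX hXY
        (isUnivClosed_comp hXY' hY'X hYX
          (isUnivClosed_of_isEquivOver hXY' hY'X (isEquivOver_fpSwap F (BasedFunctor.comp b G)))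
          (isUnivClosed_fpPre_left hY' hY hX hZ b G F hb))
        (isUnivClosed_of_isEquivOver hYX hXY (isEquivOver_fpSwap G F)))
  exact isUnivClosed_of_iso hXY hX'Y'
    (fpIsoMk (Iso.refl _) (Iso.refl _) fun z => by simp [fpPre])
    (isUnivClosed_comp hX'Y' hXY' hXY
      (isUnivClosed_fpPre_left hX' hX hY' hZ a F (BasedFunctor.comp b G) ha) h2)

/-- Universal closedness is cancelled by a surjection. -/
theorem isUnivClosed_of_comp (hX : Alg 𝒳) (hY : Alg 𝒴) (hZ : Alg 𝒵) {f : 𝒳 ⥤ᵇ 𝒴} {g : 𝒴 ⥤ᵇ 𝒵}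
    (hs : AlgSt.IsSurjective f) (h : UC (BasedFunctor.comp f g)) : UC g := by
  intro 𝒲 hW z C hC
  have hWY := isAlgStack_fp hZ.isStack hZ.diag hW hY z g
  let c := fpCompFun z f g
  have hsf : Function.Surjective (AlgSt.Points.map (FibCat.fpFst (FibCat.fpSnd z g) f)) :=
    isSurjective_fpFst hX.isStack.1 hY.isStack.1 hWY.isStack.1 _ hs
  let a := AlgSt.Points.map (FibCat.fpFst (FibCat.fpSnd z g) f)
  have hhomeo := isHomeomorph_map_of_isEquivOver
    (isAlgStack_fp hY.isStack hY.diag hWY hX (FibCat.fpSnd z g) f)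
    (isAlgStack_fp hZ.isStack hZ.diag hW hX z (BasedFunctor.comp f g)) (isEquivOver_fpCompFun z f g)
  have key : AlgSt.Points.map (FibCat.fpFst z g) '' C =
      AlgSt.Points.map (FibCat.fpFst z (BasedFunctor.comp f g)) ''
        (AlgSt.Points.map c '' (a ⁻¹' C)) := by
    conv_lhs => rw [← hsf.image_preimage C]
    rw [Set.image_image, Set.image_image]
    exact Set.image_congr fun x _ =>
      (map_comp (FibCat.fpFst (FibCat.fpSnd z g) f) (FibCat.fpFst z g) x).symm.trans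
        (map_comp c (FibCat.fpFst z (BasedFunctor.comp f g)) x)
  rw [key]
  exact h 𝒲 hW z _ (hhomeo.isClosedMap _ (hC.preimage (continuous_map hWY _)))

/-- Universal closedness of the diagonal descends along a universally closed surjection. -/
theorem univClosed_diag_of_surjective (hX : Alg 𝒳) (hY : Alg 𝒴) (hZ : Alg 𝒵) {f : 𝒳 ⥤ᵇ 𝒴}
    {g : 𝒴 ⥤ᵇ 𝒵} (hf : UC f) (hs : AlgSt.IsSurjective f)
    (h : AlgSt.RepByAlgSpWith AlgSp.IsUnivClosedMor (FibCat.diag (BasedFunctor.comp f g))) :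
    AlgSt.RepByAlgSpWith AlgSp.IsUnivClosedMor (FibCat.diag g) := by
  have hgg := isAlgStack_fp hZ.isStack hZ.diag hY hY g g
  have hcc := isAlgStack_fp hZ.isStack hZ.diag hX hX (BasedFunctor.comp f g) (BasedFunctor.comp f g)
  have hD := repByAlgSp1_diag_of_diag hY.isStack.1 hZ.isStack.1 hY.diag hZ.diag g
  refine (repWith_univClosed_iff hY hgg hD).2 (isUnivClosed_of_comp hX hY hgg hs ?_)
  exact isUnivClosed_of_iso hgg hX
    (show BasedFunctor.comp (FibCat.diag (BasedFunctor.comp f g)) (fpPre f f g g) ≅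
        BasedFunctor.comp f (FibCat.diag g) from
      fpIsoMk (Iso.refl _) (Iso.refl _) fun x => by simp [fpPre, FibCat.diag])
    (isUnivClosed_comp hX hcc hgg ((repWith_univClosed_iff hX hcc (repWith_repByAlgSp1 h)).1 h)
      (isUnivClosed_fpPre hX hY hX hY hZ f f g g hf hf))

/-- Separatedness descends along a universally closed surjection with universally closed diagonal. -/
theorem isSeparatedMor_of_comp_univClosed (hX : Alg 𝒳) (hY : Alg 𝒴) (hZ : Alg 𝒵) {f : 𝒳 ⥤ᵇ 𝒴}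
    {g : 𝒴 ⥤ᵇ 𝒵} (hf : UC f) (hs : AlgSt.IsSurjective f)
    (hΔf : AlgSt.RepByAlgSpWith AlgSp.IsUnivClosedMor (FibCat.diag f))
    (h : AlgSt.IsSeparatedMor (BasedFunctor.comp f g)) : AlgSt.IsSeparatedMor g := by
  let c := BasedFunctor.comp f g
  have hgg := isAlgStack_fp hZ.isStack hZ.diag hY hY g g
  have hcc := isAlgStack_fp hZ.isStack hZ.diag hX hX c c
  have hDc := repByAlgSp1_diag_of_diag hX.isStack.1 hZ.isStack.1 hX.diag hZ.diag c
  have hc : AlgSt.RepByAlgSpWith AlgSp.IsUnivClosedMor (FibCat.diag c) :=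
    repWith_mono (fun _ _ _ _ _ hφ => hφ.2.2) h
  have hsep : AlgSt.RepByAlgSpWith AlgSp.IsSeparatedMor (FibCat.diag c) :=
    repWith_mono (fun _ _ _ _ _ hφ => hφ.1) h
  have hP : DescendsAlongAtlas (AlgSp.IsUnivClosedMor (S := S)) :=
    descendsAlongAtlas_of_isLocalOnBase
      (isLocalOnBase_fppf_of_fpqc Groth.AlgSp2.isLocalOnBase_fpqc_isUnivClosedMor)
  have h₁ := univClosed_diag_of_surjective hX hY hZ hf hs hc
  have hD := repByAlgSp1_diag_of_diag hY.isStack.1 hZ.isStack.1 hY.diag hZ.diag g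
  have h₂ : AlgSt.RepByAlgSpWith AlgSp.IsUnivClosedMor
      (FibCat.diag (BasedFunctor.comp f (FibCat.diag g))) :=
    repWith_diag_of_iso
      (show BasedFunctor.comp (FibCat.diag c) (fpPre f f g g) ≅ BasedFunctor.comp f (FibCat.diag g) from
        fpIsoMk (Iso.refl _) (Iso.refl _) fun x => by simp [fpPre, FibCat.diag, c])
      (repWith_diag_comp hX.isStack.1 hcc.isStack.1 stableBaseChange_univClosed stableComp_univClosed hP
        (((tfae_separated hDc).out 0 3).1 hsep)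
        (repWith_diag_fpPre hX.isStack.1 hY.isStack.1 hX.isStack.1 hZ.isStack.1
          stableBaseChange_univClosed stableComp_univClosed hP f f g g hΔf hΔf))
  have h₃ := univClosed_diag_of_surjective hX hY hgg hf hs h₂
  have hs' := ((tfae_separated hD).out 0 3).2 h₃
  exact repWith_mono (fun _ _ φ hA hB hφ =>
    (⟨hφ.1.1, ⟨hφ.1.2, Groth.AlgSpBasic.isQuasiCompactMor_of_univClosed hA hB hφ.2⟩, hφ.2⟩ :
      AlgSp.IsProperMor φ))
    (repWith_inf stableBaseChange_univClosed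
      (repWith_inf stableBaseChange_locP hs' (repWith_lft_diag hY hZ g)) h₁)

end Groth.StkGerb
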