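import Groth.Agent.StkBase.Descent

/-!
Gluing of vertical morphisms and of natural transformations along covering sieves; a fully faithful, locally
essentially surjective functor between stacks is an equivalence over the base.
-/

set_option autoImplicit false
set_option backward.isDefEq.respectTransparency false
set_option backward.isDefEq.respectTransparency.types false

universe v₃ u₃ v₂ u₂ v u

open CategoryTheory
open Groth.StkBase

namespace Groth.StkGerb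

variable {C : Type u} [Category.{v} C]
variable {𝒳 : BasedCategory.{v₂, u₂} C} {𝒴 : BasedCategory.{v₃, u₃} C}

/-- Compatible morphisms out of the restrictions of `a` along a covering sieve glue. -/
theorem glue_hom (hX : FibCat.IsFibGrpd 𝒳.p) {a b : 𝒳.obj} (h : 𝒳.p.obj a = 𝒳.p.obj b) (R : Sieve (𝒳.p.obj a))
    (hR : (Stk.resSieve R 𝒳).Full) (m : ∀ ⦃a' : 𝒳.obj⦄ (l : a' ⟶ a), R (𝒳.p.map l) → (a' ⟶ b))
    (hm : ∀ ⦃a' : 𝒳.obj⦄ (l : a' ⟶ a) (hl : R (𝒳.p.map l)), 𝒳.p.map (m l hl) = 𝒳.p.map l ≫ eqToHom h)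
    (hc : ∀ ⦃a' a'' : 𝒳.obj⦄ (l : a' ⟶ a) (hl : R (𝒳.p.map l)) (k : a'' ⟶ a') (hkl : R (𝒳.p.map (k ≫ l))),
      k ≫ m l hl = m (k ≫ l) hkl) :
    ∃ χ : a ⟶ b, IsVert 𝒳.p χ ∧ ∀ ⦃a' : 𝒳.obj⦄ (l : a' ⟶ a) (hl : R (𝒳.p.map l)), l ≫ χ = m l hl := by
  obtain ⟨ia, hia⟩ := overFunctor_eval hX a rfl
  obtain ⟨ib, hib⟩ := overFunctor_eval hX b h.symm
  let Ga := overFunctor hX a rfl
  let Gb := overFunctor hX b h.symm
  let arr : ∀ x : (Stk.sieveCat R).obj, Ga.obj x.obj ⟶ a := fun x => Ga.map (toId x.obj) ≫ ia.hom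
  have harr : ∀ x : (Stk.sieveCat R).obj, 𝒳.p.map (arr x) = eqToHom (Ga.w_obj x.obj) ≫ x.obj.hom := fun x => by
    simp [arr, map_map, hia.map_eq, overCat_map, toId]
  have harrR : ∀ x, R (𝒳.p.map (arr x)) := fun x => by
    rw [harr]
    exact R.downward_closed x.property _
  have hcomp : ∀ x : (Stk.sieveCat R).obj, eqToHom ((Ga.w_obj x.obj).trans (Gb.w_obj x.obj).symm) ≫
      𝒳.p.map (Gb.map (toId x.obj)) = 𝒳.p.map (m (arr x) (harrR x) ≫ ib.inv) := fun x => by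
    simp [map_map, hm, harr, hib.inv.map_eq, overCat_map, toId]
  let c : ∀ x : (Stk.sieveCat R).obj, Ga.obj x.obj ⟶ Gb.obj x.obj := fun x => factor hX _ _ _ (hcomp x)
  have hc₁ : ∀ x, IsVert 𝒳.p (c x) := fun x => ⟨_, factor_map hX _ _ _ (hcomp x)⟩
  have hc₂ : ∀ x, c x ≫ Gb.map (toId x.obj) = m (arr x) (harrR x) ≫ ib.inv := fun x => factor_comp hX _ _ _ (hcomp x)
  have nat : ∀ ⦃x x' : (Stk.sieveCat R).obj⦄ (f : x ⟶ x'),
      Ga.map f.hom ≫ c x' = c x ≫ Gb.map f.hom := by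
    intro x x' f
    apply hom_eq_of_comp_eq hX (Gb.map (toId x'.obj))
    · simp [map_map, (hc₁ x).map_eq, (hc₁ x').map_eq]
    · have e : Ga.map f.hom ≫ arr x' = arr x := by
        simp only [arr]
        rw [← Category.assoc, ← Ga.toFunctor.map_comp, toId_naturality]
      have hR' : R (𝒳.p.map (Ga.map f.hom ≫ arr x')) := by rw [e]; exact harrR x
      have key : m (Ga.map f.hom ≫ arr x') hR' = m (arr x) (harrR x) := by congr 1
      rw [Category.assoc, Category.assoc, hc₂, ← Gb.toFunctor.map_comp, toId_naturality, hc₂, ← Category.assoc,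
        hc _ _ _ hR', key]
  let γ : (Stk.resSieve R 𝒳).obj Ga ⟶ (Stk.resSieve R 𝒳).obj Gb :=
    { toNatTrans := { app := c, naturality := nat }
      isHomLift' := fun x => (hc₁ x).isHomLift (Ga.w_obj x.obj) }
  obtain ⟨α, hα⟩ := (Stk.resSieve R 𝒳).map_surjective γ
  refine ⟨ia.inv ≫ α.toNatTrans.app (idObj _) ≫ ib.hom, hia.inv.comp ((isVert_app α _).comp hib), ?_⟩
  intro a' l hl
  let x : (Stk.sieveCat R).obj := ⟨Over.mk (𝒳.p.map l), hl⟩
  obtain ⟨k, hk, hkl⟩ := exists_vert_iso_of_lifts hX l (arr x) (Ga.w_obj x.obj).symm (by rw [harr]; simp [x])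
  have e : arr x ≫ (ia.inv ≫ α.toNatTrans.app (idObj _) ≫ ib.hom) = m (arr x) (harrR x) := by
    have happ : α.toNatTrans.app x.obj = c x := congrArg (fun t => t.toNatTrans.app x) hα
    simp only [arr, Category.assoc, Iso.hom_inv_id_assoc]
    rw [← Category.assoc, α.toNatTrans.naturality (toId x.obj), happ, hc₂, Category.assoc, Iso.inv_hom_id,
      Category.comp_id]
  have hR' : R (𝒳.p.map (k.hom ≫ arr x)) := by rw [hkl]; exact hl
  have key : ∀ l', l' = l → ∀ hl', m l' hl' = m l hl := by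
    rintro _ rfl _
    rfl
  refine Eq.trans ?_ (key _ hkl hR')
  rw [← hc _ (harrR x) _ hR', ← e, ← reassoc_of% hkl]

section Nat

variable {F G : 𝒳 ⥤ᵇ 𝒴}

/-- A natural family of vertical morphisms `F a ⟶ G a` defined for objects in a downward closed class which
locally contains every object extends to a natural transformation. -/
theorem exists_natTrans_of_local (J : GrothendieckTopology C) (hX : FibCat.IsFibGrpd 𝒳.p)
    (hY : Stk.IsPrestack J 𝒴) (Q : 𝒳.obj → Prop) (hQ : ∀ ⦃a' a : 𝒳.obj⦄, (a' ⟶ a) → Q a → Q a')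
    (hcov : ∀ a : 𝒳.obj, ∃ R ∈ J (𝒳.p.obj a), ∀ ⦃V : C⦄ (f : V ⟶ 𝒳.p.obj a), R f →
      ∃ (a' : 𝒳.obj) (l : a' ⟶ a), 𝒳.p.IsHomLift f l ∧ Q a')
    (g : ∀ a, Q a → (F.obj a ⟶ G.obj a)) (hg : ∀ a (h : Q a), IsVert 𝒴.p (g a h))
    (hnat : ∀ ⦃a' a : 𝒳.obj⦄ (k : a' ⟶ a) (h : Q a) (h' : Q a'), F.map k ≫ g a h = g a' h' ≫ G.map k) :
    ∃ α : F ⟶ G, ∀ a (h : Q a), α.toNatTrans.app a = g a h := by
  choose R hR hRQ using hcov
  have hlift : ∀ {a a' : 𝒳.obj} (l : a' ⟶ a), R a (𝒳.p.map l) → Q a' := by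
    intro a a' l hl
    obtain ⟨a'', l', hl', hQ''⟩ := hRQ a _ hl
    obtain ⟨h₁, h₂, e⟩ := (isHomLift_iff_eqToHom _ _).1 hl'
    obtain ⟨k, -, -⟩ := exists_vert_iso_of_lifts hX l l' h₁.symm (by rw [e]; simp)
    exact hQ k.hom hQ''
  have hex : ∀ a, ∃ χ : F.obj a ⟶ G.obj a, IsVert 𝒴.p χ ∧
      ∀ (a' : 𝒳.obj) (l : a' ⟶ a) (hl : R a (𝒳.p.map l)), F.map l ≫ χ = g a' (hlift l hl) ≫ G.map l := by
    intro a
    let S : Sieve (𝒴.p.obj (F.obj a)) := (R a).pullback (eqToHom (F.w_obj a))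
    have hS : S ∈ J _ := J.pullback_stable _ (hR a)
    have hdata : ∀ ⦃b : 𝒴.obj⦄ (l : b ⟶ F.obj a), S (𝒴.p.map l) →
        ∃ (a' : 𝒳.obj) (l₀ : a' ⟶ a) (i : b ≅ F.obj a'), R a (𝒳.p.map l₀) ∧ IsVert 𝒴.p i.hom ∧
          i.hom ≫ F.map l₀ = l := by
      intro b l hl
      obtain ⟨a', l₀, h₀, e₀⟩ := exists_lift' hX (x := a) (𝒴.p.map l ≫ eqToHom (F.w_obj a))
      obtain ⟨i, hi, hil⟩ := exists_vert_iso_of_lifts hY.1 l (F.map l₀) (((F.w_obj a').trans h₀).symm)
        (by rw [map_map, e₀]; simp)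
      refine ⟨a', l₀, i, ?_, hi, hil⟩
      rw [e₀]
      exact (R a).downward_closed hl _
    choose A L I hA hI hIL using hdata
    obtain ⟨χ, hχ, hχ'⟩ := glue_hom hY.1 ((F.w_obj a).trans (G.w_obj a).symm) S (hY.2 S hS).1
      (fun b l hl => (I l hl).hom ≫ g _ (hlift _ (hA l hl)) ≫ G.map (L l hl))
      (fun b l hl => by
        have e := congrArg 𝒴.p.map (hIL l hl)
        simp [map_map, (hI l hl).map_eq] at e
        simp [map_map, (hI l hl).map_eq, (hg _ _).map_eq, ← e])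
      (fun b b' l hl k hkl => by
        -- compare the two chosen lifts
        obtain ⟨w, ⟨hw₁, hw₂⟩, -⟩ := factor_unique hX (L l hl) (L (k ≫ l) hkl)
          (eqToHom ((F.w_obj _).symm.trans (hI (k ≫ l) hkl).obj_eq.symm) ≫ 𝒴.p.map k ≫
            eqToHom ((hI l hl).obj_eq.trans (F.w_obj _)))
          (by
            have e := congrArg 𝒴.p.map (hIL l hl)
            have e' := congrArg 𝒴.p.map (hIL (k ≫ l) hkl)
            simp [map_map, (hI l hl).map_eq, (hI (k ≫ l) hkl).map_eq] at e e'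
            rw [← cancel_mono (eqToHom (F.w_obj a).symm)]
            simp only [Category.assoc]
            rw [← e] at e'
            rw [← cancel_epi (eqToHom ((hI (k ≫ l) hkl).obj_eq.trans (F.w_obj _)))]
            simp [e'])
        have key : (I (k ≫ l) hkl).hom ≫ F.map w = k ≫ (I l hl).hom := by
          apply hom_eq_of_comp_eq hY.1 (F.map (L l hl))
          · simp [map_map, hw₁, (hI l hl).map_eq, (hI (k ≫ l) hkl).map_eq]
          · rw [Category.assoc, ← F.toFunctor.map_comp, hw₂, hIL, Category.assoc, hIL]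
        rw [← reassoc_of% key, reassoc_of% (hnat w (hlift _ (hA l hl)) (hlift _ (hA (k ≫ l) hkl))),
          ← G.toFunctor.map_comp, hw₂])
    refine ⟨χ, hχ, fun a' l hl => ?_⟩
    have hl' : S (𝒴.p.map (F.map l)) := by
      change R a _
      rw [map_map]
      simpa using (R a).downward_closed hl (eqToHom (F.w_obj a'))
    rw [hχ' (F.map l) hl']
    obtain ⟨w, ⟨hw₁, hw₂⟩, -⟩ := factor_unique hX (L (F.map l) hl') l
      (eqToHom ((F.w_obj a').symm.trans ((hI (F.map l) hl').obj_eq.trans (F.w_obj _))))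
      (by
        have e := congrArg 𝒴.p.map (hIL (F.map l) hl')
        simp [map_map, (hI (F.map l) hl').map_eq] at e
        rw [← cancel_mono (eqToHom (F.w_obj a).symm), ← cancel_epi (eqToHom (F.w_obj a'))]
        simp [← e])
    have key : (I (F.map l) hl').hom = F.map w := by
      apply hom_eq_of_comp_eq hY.1 (F.map (L (F.map l) hl'))
      · simp [map_map, hw₁, (hI (F.map l) hl').map_eq]
      · rw [hIL, ← F.toFunctor.map_comp, hw₂]
    rw [key, reassoc_of% (hnat w (hlift _ (hA _ hl')) (hlift l hl)), ← G.toFunctor.map_comp, hw₂]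
  choose χ hχ hχl using hex
  refine ⟨{ toNatTrans := { app := χ, naturality := ?_ }, isHomLift' := fun a => (hχ a).isHomLift (F.w_obj a) }, ?_⟩
  · intro a b f
    obtain ⟨b', l₁, h₁, e₁⟩ := exists_lift' hY.1 (x := G.obj b) (𝒴.p.map (G.map f))
    have hg₁ : eqToHom ((F.w_obj a).trans ((G.w_obj a).symm.trans h₁.symm)) ≫ 𝒴.p.map l₁ =
        𝒴.p.map (F.map f ≫ χ b) := by
      simp [map_map, e₁, (hχ b).map_eq]
    have hg₂ : eqToHom ((F.w_obj a).trans ((G.w_obj a).symm.trans h₁.symm)) ≫ 𝒴.p.map l₁ =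
        𝒴.p.map (χ a ≫ G.map f) := by
      simp [map_map, e₁, (hχ a).map_eq]
    rw [← factor_comp hY.1 l₁ (F.map f ≫ χ b) _ hg₁, ← factor_comp hY.1 l₁ (χ a ≫ G.map f) _ hg₂]
    congr 1
    let P : Sieve (𝒳.p.obj a) := R a ⊓ (R b).pullback (𝒳.p.map f)
    have hP : P ∈ J _ := J.intersection_covering (hR a) (J.pullback_stable _ (hR b))
    let S : Sieve (𝒴.p.obj (F.obj a)) := P.pullback (eqToHom (F.w_obj a))
    refine vert_hom_ext_of_local hY.1 S (hY.2 S (J.pullback_stable _ hP)).2 ⟨_, factor_map hY.1 _ _ _ hg₁⟩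
      ⟨_, factor_map hY.1 _ _ _ hg₂⟩ ?_
    intro c l hl
    obtain ⟨a', l₀, h₀, e₀⟩ := exists_lift' hX (x := a) (𝒴.p.map l ≫ eqToHom (F.w_obj a))
    obtain ⟨i, hi, hil⟩ := exists_vert_iso_of_lifts hY.1 l (F.map l₀) (((F.w_obj a').trans h₀).symm)
      (by rw [map_map, e₀]; simp)
    have hP₀ : P (𝒳.p.map l₀) := by rw [e₀]; exact P.downward_closed hl _
    have hb : R b (𝒳.p.map (l₀ ≫ f)) := by rw [Functor.map_comp]; exact hP₀.2
    rw [← hil, Category.assoc, Category.assoc, cancel_epi]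
    apply hom_eq_of_comp_eq hY.1 l₁
    · simp [map_map, factor_map]
    · rw [Category.assoc, Category.assoc, factor_comp, factor_comp, ← F.toFunctor.map_comp_assoc, hχl b a' _ hb,
        reassoc_of% (hχl a a' l₀ hP₀.1), G.toFunctor.map_comp]
  · intro a h
    refine vert_hom_ext_of_local hY.1 ((R a).pullback (eqToHom (F.w_obj a)))
      (hY.2 _ (J.pullback_stable _ (hR a))).2 (hχ a) (hg a h) ?_
    intro c l hl
    obtain ⟨a', l₀, h₀, e₀⟩ := exists_lift' hX (x := a) (𝒴.p.map l ≫ eqToHom (F.w_obj a))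
    obtain ⟨i, hi, hil⟩ := exists_vert_iso_of_lifts hY.1 l (F.map l₀) (((F.w_obj a').trans h₀).symm)
      (by rw [map_map, e₀]; simp)
    have hR₀ : R a (𝒳.p.map l₀) := by rw [e₀]; exact (R a).downward_closed hl _
    change l ≫ χ a = l ≫ g a h
    rw [← hil, Category.assoc, Category.assoc, hχl a a' l₀ hR₀, hnat l₀ h (hlift l₀ hR₀)]

end Nat

section Equiv

/-- A fully faithful functor from a stack to a prestack whose essential image locally contains everything is an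
equivalence over the base. -/
theorem isEquivOver_of_locally_surj (J : GrothendieckTopology C) (hX : Stk.IsStack J 𝒳) (hY : Stk.IsPrestack J 𝒴)
    (F : 𝒳 ⥤ᵇ 𝒴) [F.toFunctor.Full] [F.toFunctor.Faithful]
    (hloc : ∀ y : 𝒴.obj, ∃ R ∈ J (𝒴.p.obj y), ∀ ⦃V : C⦄ (f : V ⟶ 𝒴.p.obj y), R f →
      ∃ (x : 𝒳.obj) (g : F.obj x ⟶ y), 𝒴.p.IsHomLift f g) :
    FibCat.IsEquivOver F := by
  refine isEquivOver_of_fullyFaithful F inferInstance inferInstance fun y => ?_
  obtain ⟨R, hR, hR'⟩ := hloc y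
  let Gy := overFunctor hY.1 y rfl
  obtain ⟨iy, hiy⟩ := overFunctor_eval hY.1 y rfl
  obtain ⟨K, ⟨eK⟩⟩ := exists_lift_through F ((Stk.resSieve R 𝒴).obj Gy) (fun z => by
    obtain ⟨x, g, hg⟩ := hR' z.obj.hom z.property
    obtain ⟨h₁, h₂, e⟩ := (isHomLift_iff_eqToHom _ _).1 hg
    obtain ⟨i, hi, -⟩ := exists_vert_iso_of_lifts hY.1 g (Gy.map (toId z.obj) ≫ iy.hom)
      (h₁.trans (Gy.w_obj z.obj).symm) (by simp [e, map_map, hiy.map_eq, overCat_map, toId])
    exact ⟨x, i, hi⟩)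
  have : (Stk.resSieve R 𝒳).IsEquivalence := hX.2 R hR
  let K' := (Stk.resSieve R 𝒳).objPreimage K
  let iK : (Stk.resSieve R 𝒳).obj K' ≅ K := (Stk.resSieve R 𝒳).objObjPreimageIso K
  obtain ⟨hfull, hfaith⟩ := hY.2 R hR
  let e : BasedFunctor.comp K' F ≅ Gy := (Stk.resSieve R 𝒴).preimageIso
    ((whiskerRightIso iK F).trans eK : (Stk.resSieve R 𝒴).obj (BasedFunctor.comp K' F) ≅ (Stk.resSieve R 𝒴).obj Gy)
  exact ⟨K'.obj (idObj _), isoApp e (idObj _) ≪≫ iy, (isVert_isoApp e _).comp hiy⟩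

end Equiv

end Groth.StkGerb
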