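import Groth.Agent.StkGerb.GerbeApps

/-!
Quasi-compact morphisms of algebraic stacks: equivalences and products.
-/

set_option autoImplicit false
set_option backward.isDefEq.respectTransparency false
set_option backward.isDefEq.respectTransparency.types false

universe u

open CategoryTheory AlgebraicGeometry
open Groth.StkBase Groth.AlgStBasic

namespace Groth.StkGerb

variable {S : Scheme.{u}} {𝒳 𝒴 𝒵 𝒳' 𝒴' : AlgSt.Cat S}

local notation "QC" => AlgSt.IsQuasiCompactMor Scheme.fppfPrecoverage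

theorem isQuasiCompactMor_of_isEquivOver (hX : AlgSt.IsAlgStack Scheme.fppfPrecoverage 𝒳)
    (hY : AlgSt.IsAlgStack Scheme.fppfPrecoverage 𝒴) {e : 𝒳 ⥤ᵇ 𝒴} (he : FibCat.IsEquivOver e) :
    QC e := by
  intro 𝒯 hT hTc g
  have h₁ : FibCat.IsEquivOver (BasedFunctor.comp (fpPre (BasedFunctor.id 𝒯) e g (BasedFunctor.id 𝒴))
      (FibCat.fpFst g (BasedFunctor.id 𝒴))) :=
    isEquivOver_comp (isEquivOver_fpPre (isEquivOver_id _) he _ _) (isEquivOver_fpFst_id g)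
  obtain ⟨G, hG, -⟩ := isEquivOver_symm h₁
  exact isQuasiCompact_of_isEquivOver hT (isAlgStack_fp hY.isStack hY.diag hT hX g e) hG hTc

theorem isQuasiCompactMor_of_iso (hX : AlgSt.IsAlgStack Scheme.fppfPrecoverage 𝒳)
    (hY : AlgSt.IsAlgStack Scheme.fppfPrecoverage 𝒴) {f g : 𝒳 ⥤ᵇ 𝒴} (α : f ≅ g) (hf : QC f) : QC g :=
  isQuasiCompactMor_of_isSurjective hX hX hY (f := BasedFunctor.id 𝒳) (p := f) (q := g) α.symm
    (bijective_map_of_isEquivOver (isEquivOver_id 𝒳)).2 hf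

theorem isQuasiCompactMor_fpPre_left (hX' : AlgSt.IsAlgStack Scheme.fppfPrecoverage 𝒳')
    (hX : AlgSt.IsAlgStack Scheme.fppfPrecoverage 𝒳) (hY : AlgSt.IsAlgStack Scheme.fppfPrecoverage 𝒴)
    (hZs : Stk.IsStack (AlgSp.J S) 𝒵) (hZd : AlgSt.RepByAlgSp1 (FibCat.diag (FibCat.toSelf 𝒵)))
    (a : 𝒳' ⥤ᵇ 𝒳) (F : 𝒳 ⥤ᵇ 𝒵) (G : 𝒴 ⥤ᵇ 𝒵) (ha : QC a) :
    QC (fpPre a (BasedFunctor.id 𝒴) F G) := by
  have hA := isAlgStack_fp hZs hZd hX hY F G
  have hA' := isAlgStack_fp hZs hZd hX' hY (BasedFunctor.comp a F) G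
  have hB := isAlgStack_fp hX.isStack hX.diag hX' hA a (FibCat.fpFst F G)
  have hB' := isAlgStack_fp hX.isStack hX.diag hA hX' (FibCat.fpFst F G) a
  refine isQuasiCompactMor_of_iso hA' hA (nonempty_fpPre_left_iso a F G).some ?_
  refine isQuasiCompactMor_comp hA' hB hA (isQuasiCompactMor_of_isEquivOver hA' hB
    (isEquivOver_fpUnpaste a F G)) ?_
  exact isQuasiCompactMor_of_iso hB hA (Iso.refl _) (isQuasiCompactMor_comp hB hB' hA
    (isQuasiCompactMor_of_isEquivOver hB hB' (isEquivOver_fpSwap a (FibCat.fpFst F G)))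
    (isQuasiCompactMor_fpFst hX' hX hA (FibCat.fpFst F G) ha))

theorem isQuasiCompactMor_fpPre (hX' : AlgSt.IsAlgStack Scheme.fppfPrecoverage 𝒳')
    (hX : AlgSt.IsAlgStack Scheme.fppfPrecoverage 𝒳) (hY' : AlgSt.IsAlgStack Scheme.fppfPrecoverage 𝒴')
    (hY : AlgSt.IsAlgStack Scheme.fppfPrecoverage 𝒴) (hZs : Stk.IsStack (AlgSp.J S) 𝒵)
    (hZd : AlgSt.RepByAlgSp1 (FibCat.diag (FibCat.toSelf 𝒵))) (a : 𝒳' ⥤ᵇ 𝒳) (b : 𝒴' ⥤ᵇ 𝒴)
    (F : 𝒳 ⥤ᵇ 𝒵) (G : 𝒴 ⥤ᵇ 𝒵) (ha : QC a) (hb : QC b) : QC (fpPre a b F G) := by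
  have hXY := isAlgStack_fp hZs hZd hX hY F G
  have hX'Y' := isAlgStack_fp hZs hZd hX' hY' (BasedFunctor.comp a F) (BasedFunctor.comp b G)
  have hXY' := isAlgStack_fp hZs hZd hX hY' F (BasedFunctor.comp b G)
  have hY'X := isAlgStack_fp hZs hZd hY' hX (BasedFunctor.comp b G) F
  have hYX := isAlgStack_fp hZs hZd hY hX G F
  have h2 : QC (fpPre (BasedFunctor.id 𝒳) b F G) :=
    isQuasiCompactMor_of_iso hXY' hXY (nonempty_fpPre_swap_iso b F G).some
      (isQuasiCompactMor_comp hXY' hYX hXY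
        (isQuasiCompactMor_comp hXY' hY'X hYX
          (isQuasiCompactMor_of_isEquivOver hXY' hY'X (isEquivOver_fpSwap F (BasedFunctor.comp b G)))
          (isQuasiCompactMor_fpPre_left hY' hY hX hZs hZd b G F hb))
        (isQuasiCompactMor_of_isEquivOver hYX hXY (isEquivOver_fpSwap G F)))
  exact isQuasiCompactMor_of_iso hX'Y' hXY
    (fpIsoMk (Iso.refl _) (Iso.refl _) fun z => by simp [fpPre])
    (isQuasiCompactMor_comp hX'Y' hXY' hXY
      (isQuasiCompactMor_fpPre_left hX' hX hY' hZs hZd a F (BasedFunctor.comp b G) ha) h2)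

theorem isQuasiCompactMor_prodMapF (hX : AlgSt.IsAlgStack Scheme.fppfPrecoverage 𝒳)
    (hY : AlgSt.IsAlgStack Scheme.fppfPrecoverage 𝒴) {f : 𝒳 ⥤ᵇ 𝒴} (hf : QC f) :
    QC (prodMapF f f) := by
  have hXX := isAlgStack_prod hX hX
  have hYY := isAlgStack_prod hY hY
  let σ := selfIso (FibCat.toSelf 𝒳) (BasedFunctor.comp f (FibCat.toSelf 𝒴))
  have hM := isAlgStack_fp isStack_selfOver repByAlgSp1_diag_selfOver hX hX
    (BasedFunctor.comp f (FibCat.toSelf 𝒴)) (BasedFunctor.comp f (FibCat.toSelf 𝒴))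
  refine isQuasiCompactMor_of_iso hXX hYY (f := BasedFunctor.comp (fpCongr σ σ)
    (fpPre f f (FibCat.toSelf 𝒴) (FibCat.toSelf 𝒴))) ?_ (isQuasiCompactMor_comp hXX hM hYY
      (isQuasiCompactMor_of_isEquivOver hXX hM (isEquivOver_fpCongr σ σ))
      (isQuasiCompactMor_fpPre hX hY hX hY isStack_selfOver repByAlgSp1_diag_selfOver f f _ _ hf hf))
  exact fpIsoMk (Iso.refl _) (Iso.refl _) fun x =>
    self_ext ((isVert_map (isVert_id _)).comp (fp_isVert _))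
      ((fp_isVert _).comp (isVert_map (isVert_id _)))

/-- Quasi-compactness of the diagonal descends along gerbes. -/
theorem isQuasiCompactMor_diag_toSelf_of_isGerbeOver (hX : AlgSt.IsAlgStack Scheme.fppfPrecoverage 𝒳)
    (hY : AlgSt.IsAlgStack Scheme.fppfPrecoverage 𝒴) {f : 𝒳 ⥤ᵇ 𝒴}
    (hf : Gerb.IsGerbeOver (QuotSh.J Scheme.fppfPrecoverage S) f)
    (hΔ : QC (FibCat.diag (FibCat.toSelf 𝒳))) : QC (FibCat.diag (FibCat.toSelf 𝒴)) := by
  have hXX := isAlgStack_prod hX hX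
  have hYY := isAlgStack_prod hY hY
  exact isQuasiCompactMor_of_isSurjective hX hY hYY (exists_diag_square (e := f)).some.symm
    (surjective_flat_lfp_of_isGerbeOver hX hY hf).1
    (isQuasiCompactMor_comp hX hXX hYY hΔ (isQuasiCompactMor_prodMapF hX hY
      (isQuasiCompactMor_of_isUnivHomeo hX hY (isUnivHomeo_of_isGerbeOver hX hY hf))))

end Groth.StkGerb
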