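import Groth.Agent.StkGerb.Gerbe
import Mathlib.Algebra.Category.Grp.Limits
import Mathlib.CategoryTheory.Sites.Whiskering

/-!
The banding sheaf of a gerbe with commutative automorphism groups.
-/

set_option autoImplicit false
set_option backward.isDefEq.respectTransparency false
set_option backward.isDefEq.respectTransparency.types false

universe v₂ u₂ w v u

open CategoryTheory CategoryTheory.Limits Opposite
open Groth.StkBase

namespace Groth.StkGerb

variable {C : Type u} [Category.{v} C] {J : GrothendieckTopology C} {𝒳 : BasedCategory.{v₂, u₂} C}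

namespace Band

theorem autO_ext {x : 𝒳.obj} {α β : Gerb.AutO x} (h : α.hom.1 = β.hom.1) : α = β :=
  Iso.ext (Subtype.ext h)

theorem autO_mul_val {x : 𝒳.obj} (α β : Gerb.AutO x) : (α * β).hom.1 = β.hom.1 ≫ α.hom.1 := rfl

/-- Automorphisms over the identity restrict along every morphism. -/
theorem exists_res (hX : FibCat.IsFibGrpd 𝒳.p) {z y : 𝒳.obj} (a : z ⟶ y) (α : Gerb.AutO y) :
    ∃ γ : Gerb.AutO z, γ.hom.1 ≫ a = a ≫ α.hom.1 := by
  have e : 𝟙 (𝒳.p.obj z) ≫ 𝒳.p.map a = 𝒳.p.map (a ≫ α.hom.1) := by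
    simp [(isVert_autO α).map_eq]
  obtain ⟨γ, hγ⟩ := exists_autO hX (factor hX a (a ≫ α.hom.1) _ e)
    ⟨rfl, by simpa using factor_map hX a (a ≫ α.hom.1) _ e⟩
  exact ⟨γ, by rw [hγ, factor_comp]⟩

theorem res_unique (hX : FibCat.IsFibGrpd 𝒳.p) {z y : 𝒳.obj} (a : z ⟶ y) {γ γ' : Gerb.AutO z}
    (h : γ.hom.1 ≫ a = γ'.hom.1 ≫ a) : γ = γ' :=
  autO_ext (hom_eq_of_comp_eq hX a (by rw [(isVert_autO γ).map_eq, (isVert_autO γ').map_eq]) h)

/-- Restriction of automorphisms along a morphism. -/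
noncomputable def res (hX : FibCat.IsFibGrpd 𝒳.p) {z y : 𝒳.obj} (a : z ⟶ y) : Gerb.AutO y →* Gerb.AutO z where
  toFun α := (exists_res hX a α).choose
  map_one' := res_unique hX a (by
    rw [(exists_res hX a 1).choose_spec, autO_one_val, autO_one_val, Category.comp_id, Category.id_comp])
  map_mul' α β := res_unique hX a (by
    rw [(exists_res hX a (α * β)).choose_spec, autO_mul_val, autO_mul_val, Category.assoc,
      (exists_res hX a α).choose_spec, reassoc_of% (exists_res hX a β).choose_spec])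

theorem res_spec (hX : FibCat.IsFibGrpd 𝒳.p) {z y : 𝒳.obj} (a : z ⟶ y) (α : Gerb.AutO y) :
    (res hX a α).hom.1 ≫ a = a ≫ α.hom.1 :=
  (exists_res hX a α).choose_spec

theorem res_eq (hX : FibCat.IsFibGrpd 𝒳.p) {z y : 𝒳.obj} (a : z ⟶ y) (α : Gerb.AutO y) (γ : Gerb.AutO z)
    (h : γ.hom.1 ≫ a = a ≫ α.hom.1) : res hX a α = γ :=
  res_unique hX a ((res_spec hX a α).trans h.symm)

theorem res_id (hX : FibCat.IsFibGrpd 𝒳.p) {y : 𝒳.obj} (α : Gerb.AutO y) : res hX (𝟙 y) α = α :=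
  res_eq hX _ _ _ (by rw [Category.comp_id, Category.id_comp])

theorem res_comp (hX : FibCat.IsFibGrpd 𝒳.p) {w z y : 𝒳.obj} (k : w ⟶ z) (a : z ⟶ y) (α : Gerb.AutO y) :
    res hX (k ≫ a) α = res hX k (res hX a α) :=
  res_eq hX _ _ _ (by rw [reassoc_of% res_spec hX k (res hX a α), res_spec, Category.assoc])

/-- If the automorphism groups are commutative, restriction depends only on the underlying morphism of the base. -/
theorem res_congr (hX : FibCat.IsFibGrpd 𝒳.p) (hc : ∀ (x : 𝒳.obj) (α β : Gerb.AutO x), α * β = β * α)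
    {z y : 𝒳.obj} (a a' : z ⟶ y) (h : 𝒳.p.map a = 𝒳.p.map a') (α : Gerb.AutO y) :
    res hX a α = res hX a' α := by
  have e : 𝟙 (𝒳.p.obj z) ≫ 𝒳.p.map a = 𝒳.p.map a' := by simp [h]
  obtain ⟨δ, hδ⟩ := exists_autO hX (factor hX a a' _ e) ⟨rfl, by simpa using factor_map hX a a' _ e⟩
  have hδa : δ.hom.1 ≫ a = a' := by rw [hδ, factor_comp]
  refine (res_eq hX a' α (res hX a α) ?_).symm
  rw [← hδa, ← Category.assoc, ← autO_mul_val, hc, autO_mul_val, Category.assoc, res_spec, Category.assoc]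

theorem autO_ext_local (hP : Stk.IsPrestack J 𝒳) {y : 𝒳.obj} {R : Sieve (𝒳.p.obj y)} (hR : R ∈ J _)
    {β β' : Gerb.AutO y}
    (h : ∀ ⦃z : 𝒳.obj⦄ (a : z ⟶ y), R (𝒳.p.map a) → res hP.1 a β = res hP.1 a β') : β = β' :=
  autO_ext (vert_hom_ext_of_local hP.1 R (hP.2 R hR).2 (isVert_autO β) (isVert_autO β') fun z a ha => by
    rw [← res_spec hP.1 a β, ← res_spec hP.1 a β', h a ha])

theorem exists_autO_glue (hP : Stk.IsPrestack J 𝒳) {y : 𝒳.obj} (R : Sieve (𝒳.p.obj y)) (hR : R ∈ J _)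
    (γ : ∀ ⦃z : 𝒳.obj⦄ (a : z ⟶ y), R (𝒳.p.map a) → Gerb.AutO z)
    (hγ : ∀ ⦃z w : 𝒳.obj⦄ (a : z ⟶ y) (ha : R (𝒳.p.map a)) (k : w ⟶ z) (hka : R (𝒳.p.map (k ≫ a))),
      res hP.1 k (γ a ha) = γ (k ≫ a) hka) :
    ∃ β : Gerb.AutO y, ∀ ⦃z : 𝒳.obj⦄ (a : z ⟶ y) (ha : R (𝒳.p.map a)), res hP.1 a β = γ a ha := by
  obtain ⟨χ, hχ, hl⟩ := glue_hom hP.1 (rfl : 𝒳.p.obj y = 𝒳.p.obj y) R (hP.2 R hR).1
    (fun z a ha => (γ a ha).hom.1 ≫ a)
    (fun z a ha => by simp [(isVert_autO (γ a ha)).map_eq])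
    (fun z w a ha k hka => by rw [← hγ a ha k hka, ← Category.assoc, ← res_spec hP.1 k (γ a ha), Category.assoc])
  obtain ⟨β, hβ⟩ := exists_autO hP.1 χ hχ
  exact ⟨β, fun z a ha => res_eq hP.1 a β _ (by rw [hβ, hl a ha])⟩

/-- In a gerbe every object maps locally to every other object over a given morphism of the base. -/
theorem exists_to (hX : FibCat.IsFibGrpd 𝒳.p) (hG : Gerb.LocSurjHom J (FibCat.toSelf 𝒳)) {y x : 𝒳.obj}
    (f : 𝒳.p.obj y ⟶ 𝒳.p.obj x) :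
    ∃ R ∈ J (𝒳.p.obj y), ∀ ⦃z : 𝒳.obj⦄ (a : z ⟶ y), R (𝒳.p.map a) →
      ∃ b : z ⟶ x, 𝒳.p.map b = 𝒳.p.map a ≫ f := by
  obtain ⟨x₁, b₁, h₁, e₁⟩ := exists_lift' hX (x := x) f
  obtain ⟨R, hR, hR'⟩ := exists_conn hG (x := y) (x' := x₁) h₁.symm
  refine ⟨R, hR, fun z a ha => ?_⟩
  obtain ⟨z₀, φ, ψ, h₀, eφ, eψ⟩ := hR' _ ha
  obtain ⟨k, hk, hka⟩ := exists_vert_iso_of_lifts hX a φ h₀.symm (by rw [eφ]; simp)
  exact ⟨k.hom ≫ ψ ≫ b₁, by simp [hk.map_eq, eψ, e₁]⟩

variable (hX : FibCat.IsFibGrpd 𝒳.p)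

/-- Natural families of automorphisms of the objects over an object of the base. -/
noncomputable def sec (U : C) : Subgroup (∀ x : 𝒳.obj, (𝒳.p.obj x ⟶ U) → Gerb.AutO x) where
  carrier := {s | ∀ (x' x : 𝒳.obj) (φ : x' ⟶ x) (f : 𝒳.p.obj x ⟶ U),
    res hX φ (s x f) = s x' (𝒳.p.map φ ≫ f)}
  one_mem' := fun x' x φ f => by simp
  mul_mem' := fun {s t} hs ht x' x φ f => by simp [hs x' x φ f, ht x' x φ f]
  inv_mem' := fun {s} hs x' x φ f => by simp [hs x' x φ f]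

theorem sec_natural {U : C} (s : sec hX U) {x' x : 𝒳.obj} (φ : x' ⟶ x) (f : 𝒳.p.obj x ⟶ U) :
    res hX φ (s.1 x f) = s.1 x' (𝒳.p.map φ ≫ f) := s.2 x' x φ f

/-- Restriction of natural families. -/
noncomputable def secMap {U V : C} (g : V ⟶ U) : sec hX U →* sec hX V where
  toFun s := ⟨fun x f => s.1 x (f ≫ g), fun x' x φ f =>
    (sec_natural hX s φ (f ≫ g)).trans (congrArg (s.1 x') (Category.assoc _ _ _).symm)⟩
  map_one' := rfl
  map_mul' _ _ := rfl

@[simp] theorem secMap_apply {U V : C} (g : V ⟶ U) (s : sec hX U) (x : 𝒳.obj) (f : 𝒳.p.obj x ⟶ V) :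
    (secMap hX g s).1 x f = s.1 x (f ≫ g) := rfl

theorem sec_ext {U : C} {s t : sec hX U} (h : ∀ x f, s.1 x f = t.1 x f) : s = t :=
  Subtype.ext (funext fun x => funext fun f => h x f)

variable {hX}

theorem evalId_bijective (hP : Stk.IsPrestack J 𝒳) (hG : Gerb.LocSurjHom J (FibCat.toSelf 𝒳))
    (hc : ∀ (x : 𝒳.obj) (α β : Gerb.AutO x), α * β = β * α) (x : 𝒳.obj) :
    Function.Bijective fun s : sec hP.1 (𝒳.p.obj x) => s.1 x (𝟙 _) := by
  constructor
  · intro s t h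
    refine sec_ext _ fun y f => ?_
    obtain ⟨R, hR, hR'⟩ := exists_to hP.1 hG f
    refine autO_ext_local hP hR fun z a ha => ?_
    obtain ⟨b, hb⟩ := hR' a ha
    rw [sec_natural, sec_natural, ← hb, ← Category.comp_id (𝒳.p.map b), ← sec_natural, ← sec_natural]
    exact congrArg _ h
  · intro α
    have hex : ∀ (y : 𝒳.obj) (f : 𝒳.p.obj y ⟶ 𝒳.p.obj x), ∃ β : Gerb.AutO y,
        ∀ (z : 𝒳.obj) (a : z ⟶ y) (b : z ⟶ x), 𝒳.p.map b = 𝒳.p.map a ≫ f →
          res hP.1 a β = res hP.1 b α := by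
      intro y f
      obtain ⟨R, hR, hR'⟩ := exists_to hP.1 hG f
      choose b hb using hR'
      obtain ⟨β, hβ⟩ := exists_autO_glue hP R hR (fun z a ha => res hP.1 (b a ha) α)
        (fun z w a ha k hka => by
          rw [← res_comp]
          exact res_congr hP.1 hc _ _ (by rw [Functor.map_comp, hb, hb, Functor.map_comp, Category.assoc]) α)
      refine ⟨β, fun z a b' hb' => autO_ext_local hP (J.pullback_stable (𝒳.p.map a) hR) fun w k hk => ?_⟩
      have hka : R (𝒳.p.map (k ≫ a)) := by rw [Functor.map_comp]; exact hk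
      rw [← res_comp, hβ _ hka, ← res_comp]
      exact res_congr hP.1 hc _ _ (by rw [Functor.map_comp, hb, hb', Functor.map_comp, Category.assoc]) α
    choose s hs using hex
    have key : ∀ (y : 𝒳.obj) (f : 𝒳.p.obj y ⟶ 𝒳.p.obj x) (β : Gerb.AutO y),
        (∀ (z : 𝒳.obj) (a : z ⟶ y) (b : z ⟶ x), 𝒳.p.map b = 𝒳.p.map a ≫ f →
          res hP.1 a β = res hP.1 b α) → β = s y f := by
      intro y f β hβ
      obtain ⟨R, hR, hR'⟩ := exists_to hP.1 hG f
      refine autO_ext_local hP hR fun z a ha => ?_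
      obtain ⟨b, hb⟩ := hR' a ha
      rw [hβ z a b hb, hs y f z a b hb]
    refine ⟨⟨s, fun y' y φ f => key y' _ _ fun z a b hb => ?_⟩, ?_⟩
    · rw [← res_comp]
      exact hs y f z _ b (by rw [hb, Functor.map_comp, Category.assoc])
    · exact (key x (𝟙 _) α fun z a b hb => res_congr hP.1 hc a b (by rw [hb, Category.comp_id]) α).symm

theorem exists_amalgamation (hP : Stk.IsPrestack J 𝒳) {U : C} (R : Sieve U) (hR : R ∈ J U)
    (x : ∀ ⦃V : C⦄ (g : V ⟶ U), R g → sec hP.1 V)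
    (hx : ∀ ⦃V W : C⦄ (g : V ⟶ U) (hg : R g) (h : W ⟶ V) (hhg : R (h ≫ g)),
      secMap hP.1 h (x g hg) = x (h ≫ g) hhg) :
    ∃! s : sec hP.1 U, ∀ ⦃V : C⦄ (g : V ⟶ U) (hg : R g), secMap hP.1 g s = x g hg := by
  have hxx : ∀ {V W : C} (g : V ⟶ U) (hg : R g) (h : W ⟶ V) (g' : W ⟶ U) (hg' : R g'),
      h ≫ g = g' → ∀ (z : 𝒳.obj) (k : 𝒳.p.obj z ⟶ W), (x g' hg').1 z k = (x g hg).1 z (k ≫ h) := by
    intro V W g hg h g' hg' e z k
    subst e
    rw [← hx g hg h hg']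
    rfl
  have hex : ∀ (y : 𝒳.obj) (f : 𝒳.p.obj y ⟶ U), ∃ β : Gerb.AutO y,
      ∀ ⦃z : 𝒳.obj⦄ (a : z ⟶ y) (ha : R (𝒳.p.map a ≫ f)),
        res hP.1 a β = (x _ ha).1 z (𝟙 _) := by
    intro y f
    refine exists_autO_glue hP (R.pullback f) (J.pullback_stable f hR) (fun z a ha => (x _ ha).1 z (𝟙 _)) ?_
    intro z w a ha k hka
    rw [sec_natural]
    exact ((hxx _ ha (𝒳.p.map k) _ hka (by rw [Functor.map_comp, Category.assoc]) w (𝟙 _)).trans (by simp)).symm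
  choose s hs using hex
  have key : ∀ (y : 𝒳.obj) (f : 𝒳.p.obj y ⟶ U) (β : Gerb.AutO y),
      (∀ ⦃z : 𝒳.obj⦄ (a : z ⟶ y) (ha : R (𝒳.p.map a ≫ f)), res hP.1 a β = (x _ ha).1 z (𝟙 _)) →
        β = s y f := fun y f β hβ =>
    autO_ext_local hP (J.pullback_stable f hR) fun z a ha => by rw [hβ a ha, hs y f a ha]
  refine ⟨⟨s, fun y' y φ f => key y' _ _ fun z a ha => ?_⟩, fun V g hg => sec_ext _ fun y k => ?_, ?_⟩
  · have h' : R (𝒳.p.map (a ≫ φ) ≫ f) := by rwa [Functor.map_comp, Category.assoc]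
    rw [← res_comp, hs y f _ h']
    congr 2
    simp
  · refine (key y (k ≫ g) _ fun z a ha => ?_).symm
    rw [sec_natural]
    exact ((hxx g hg (𝒳.p.map a ≫ k) _ ha (by rw [Category.assoc]) z (𝟙 _)).trans (by simp)).symm
  · intro t ht
    refine sec_ext _ fun y f => key y f _ fun z a ha => ?_
    rw [sec_natural, ← ht _ ha, secMap_apply, Category.id_comp]

end Band

/-- A gerbe with commutative automorphism groups is banded by a sheaf of commutative groups. -/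
theorem exists_banding {C : Type u} [Category.{v} C] (J : GrothendieckTopology C)
    (𝒳 : BasedCategory.{v, max u v} C) (hP : Stk.IsPrestack J 𝒳)
    (hG : Gerb.LocSurjHom J (FibCat.toSelf 𝒳))
    (hc : ∀ (x : 𝒳.obj) (α β : Gerb.AutO x), α * β = β * α) :
    ∃ G : Sheaf J GrpCat.{max u v}, (∀ (U : C) (a b : G.obj.obj (op U)), a * b = b * a) ∧
      Nonempty (Gerb.Banding 𝒳 G.obj) := by
  let P : Cᵒᵖ ⥤ GrpCat.{max u v} :=
    { obj := fun U => GrpCat.of (Band.sec hP.1 U.unop)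
      map := fun g => GrpCat.ofHom (Band.secMap hP.1 g.unop)
      map_id := fun U => GrpCat.hom_ext (MonoidHom.ext fun s => Band.sec_ext _ fun x f => by
        change s.1 x (f ≫ 𝟙 _) = s.1 x f
        rw [Category.comp_id])
      map_comp := fun g g' => GrpCat.hom_ext (MonoidHom.ext fun s => Band.sec_ext _ fun x f => by
        change s.1 x (f ≫ g'.unop ≫ g.unop) = s.1 x ((f ≫ g'.unop) ≫ g.unop)
        rw [Category.assoc]) }
  have hP' : Presheaf.IsSheaf J P := by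
    rw [Presheaf.isSheaf_iff_isSheaf_forget J P (forget GrpCat.{max u v}), isSheaf_iff_isSheaf_of_type]
    intro U R hR x hx
    refine Band.exists_amalgamation hP R hR x fun V W g hg h hhg => ?_
    exact (Presieve.compatible_iff_sieveCompatible x).1 hx g h hg |>.symm
  refine ⟨⟨P, hP'⟩, fun U a b => Band.sec_ext _ fun x f => hc x _ _, ⟨?_⟩⟩
  exact
    { iso := fun x => MulEquiv.ofBijective
        (MonoidHom.mk' (fun s : Band.sec hP.1 (𝒳.p.obj x) => s.1 x (𝟙 _)) fun _ _ => rfl)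
        (Band.evalId_bijective hP hG hc x)
      natural := fun {x' x} φ a => by
        change ((Band.secMap hP.1 (𝒳.p.map φ) a).1 x' (𝟙 _)).hom.1 ≫ φ = φ ≫ (a.1 x (𝟙 _)).hom.1
        rw [Band.secMap_apply, Category.id_comp, ← Category.comp_id (𝒳.p.map φ), ← Band.sec_natural,
          Band.res_spec] }

end Groth.StkGerb
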