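import Groth.Prelude.Def_StGerb2
import Groth.Agent.StkGerb.Glue
import Groth.Agent.StkBase.Descent2

/-!
Gerbes over a site: local connectedness, natural transformations determined at an object over a terminal object,
functors of gerbes bijective on automorphisms.
-/

set_option autoImplicit false
set_option backward.isDefEq.respectTransparency false
set_option backward.isDefEq.respectTransparency.types false

universe v₃ u₃ v₂ u₂ v u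

open CategoryTheory CategoryTheory.Limits
open Groth.StkBase

namespace Groth.StkGerb

variable {C : Type u} [Category.{v} C] {J : GrothendieckTopology C}
variable {𝒳 : BasedCategory.{v₂, u₂} C} {𝒴 : BasedCategory.{v₃, u₃} C}

/-- The automorphism over the identity given by a vertical endomorphism. -/
theorem exists_autO (hX : FibCat.IsFibGrpd 𝒳.p) {x : 𝒳.obj} (c : x ⟶ x) (hc : IsVert 𝒳.p c) :
    ∃ α : Gerb.AutO x, α.hom.1 = c := by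
  have := hc.isIso hX
  refine ⟨{ hom := ⟨c, hc.isHomLift rfl⟩, inv := ⟨inv c, ?_⟩, hom_inv_id := ?_, inv_hom_id := ?_ }, rfl⟩
  · exact (hc.inv (φ := asIso c)).isHomLift rfl
  · exact Subtype.ext (IsIso.hom_inv_id c)
  · exact Subtype.ext (IsIso.inv_hom_id c)

theorem isVert_autO {x : 𝒳.obj} (α : Gerb.AutO x) : IsVert 𝒳.p α.hom.1 := isVert_of_isHomLift α.hom.2

theorem autMap_val (F : 𝒳 ⥤ᵇ 𝒴) {x : 𝒳.obj} (α : Gerb.AutO x) : (Gerb.autMap F x α).hom.1 = F.map α.hom.1 := rfl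

theorem autO_one_val (x : 𝒳.obj) : ((1 : Gerb.AutO x)).hom.1 = 𝟙 x := rfl

/-- Two objects of a gerbe over one object of the base are locally connected. -/
theorem exists_conn (hG : Gerb.LocSurjHom J (FibCat.toSelf 𝒳)) {x x' : 𝒳.obj}
    (h : 𝒳.p.obj x = 𝒳.p.obj x') :
    ∃ R ∈ J (𝒳.p.obj x), ∀ ⦃V : C⦄ (f : V ⟶ 𝒳.p.obj x), R f →
      ∃ (x₀ : 𝒳.obj) (φ : x₀ ⟶ x) (ψ : x₀ ⟶ x') (h₀ : 𝒳.p.obj x₀ = V),
        𝒳.p.map φ = eqToHom h₀ ≫ f ∧ 𝒳.p.map ψ = eqToHom h₀ ≫ f ≫ eqToHom h := by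
  obtain ⟨R, hR, hR'⟩ := hG x x' (eqToHom h) (IsHomLift.eqToHom_domain_lift_id h rfl)
  refine ⟨R, hR, fun V f hf => ?_⟩
  obtain ⟨x₀, φ, ψ, hφ, hψ, -⟩ := hR' f hf
  obtain ⟨a₁, b₁, e₁⟩ := (isHomLift_iff_eqToHom _ _).1 hφ
  obtain ⟨a₂, b₂, e₂⟩ := (isHomLift_iff_eqToHom _ _).1 hψ
  exact ⟨x₀, φ, ψ, a₁, by simpa using e₁, by simpa using e₂⟩

/-- Every object of a gerbe is locally connected to a given object over a terminal object. -/
theorem exists_conn_center (hX : FibCat.IsFibGrpd 𝒳.p) (hG : Gerb.LocSurjHom J (FibCat.toSelf 𝒳)) (x₀ : 𝒳.obj)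
    (ht : IsTerminal (𝒳.p.obj x₀)) (a : 𝒳.obj) :
    ∃ R ∈ J (𝒳.p.obj a), ∀ ⦃V : C⦄ (f : V ⟶ 𝒳.p.obj a), R f →
      ∃ (a' : 𝒳.obj) (l : a' ⟶ a), 𝒳.p.IsHomLift f l ∧ Nonempty (a' ⟶ x₀) := by
  obtain ⟨x₁, d, h₁, e₁⟩ := exists_lift' hX (x := x₀) (ht.from (𝒳.p.obj a))
  obtain ⟨R, hR, hR'⟩ := exists_conn hG h₁.symm
  refine ⟨R, hR, fun V f hf => ?_⟩
  obtain ⟨a', φ, ψ, h, eφ, eψ⟩ := hR' f hf
  exact ⟨a', φ, IsHomLift.of_fac' _ _ _ h rfl (by simpa using eφ), ⟨ψ ≫ d⟩⟩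

/-- A natural transformation out of a gerbe is determined by, and constructed from, an equivariant value at an
object over a terminal object. -/
theorem exists_natTrans_of_center (hX : FibCat.IsFibGrpd 𝒳.p) (hG : Gerb.LocSurjHom J (FibCat.toSelf 𝒳))
    (hY : Stk.IsPrestack J 𝒴) (F G : 𝒳 ⥤ᵇ 𝒴) (x₀ : 𝒳.obj) (ht : IsTerminal (𝒳.p.obj x₀))
    (g₀ : F.obj x₀ ⟶ G.obj x₀) (hg₀ : IsVert 𝒴.p g₀)
    (heq : ∀ (z : 𝒳.obj) (d : z ⟶ x₀) (h : F.obj z ⟶ G.obj z), IsVert 𝒴.p h → F.map d ≫ g₀ = h ≫ G.map d →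
      ∀ β : z ⟶ z, IsVert 𝒳.p β → F.map β ≫ h = h ≫ G.map β) :
    ∃ α : F ⟶ G, α.toNatTrans.app x₀ = g₀ := by
  have hfac : ∀ (z : 𝒳.obj) (d : z ⟶ x₀), ∃ h : F.obj z ⟶ G.obj z, IsVert 𝒴.p h ∧ F.map d ≫ g₀ = h ≫ G.map d := by
    intro z d
    have e : eqToHom ((F.w_obj z).trans (G.w_obj z).symm) ≫ 𝒴.p.map (G.map d) = 𝒴.p.map (F.map d ≫ g₀) := by
      simp [map_map, hg₀.map_eq]
    exact ⟨factor hY.1 _ _ _ e, ⟨_, factor_map hY.1 _ _ _ e⟩, (factor_comp hY.1 _ _ _ e).symm⟩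
  choose h hh₁ hh₂ using hfac
  have indep : ∀ (z : 𝒳.obj) (d d' : z ⟶ x₀), h z d = h z d' := by
    intro z d d'
    have e : 𝟙 (𝒳.p.obj z) ≫ 𝒳.p.map d = 𝒳.p.map d' := ht.hom_ext _ _
    let β := factor hX d d' _ e
    have hβ : IsVert 𝒳.p β := ⟨rfl, by simpa using factor_map hX d d' _ e⟩
    apply hom_eq_of_comp_eq hY.1 (G.map d')
    · rw [(hh₁ z d).map_eq, (hh₁ z d').map_eq]
    · rw [← hh₂ z d', ← factor_comp hX d d' _ e, Functor.map_comp, Functor.map_comp, Category.assoc, hh₂ z d,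
        ← reassoc_of% (heq z d (h z d) (hh₁ z d) (hh₂ z d) β hβ)]
  let g : ∀ a : 𝒳.obj, Nonempty (a ⟶ x₀) → (F.obj a ⟶ G.obj a) := fun a q => h a (Classical.choice q)
  obtain ⟨α, hα⟩ := exists_natTrans_of_local J hX hY (fun a => Nonempty (a ⟶ x₀))
    (fun a' a k => fun ⟨d⟩ => ⟨k ≫ d⟩) (fun a => exists_conn_center hX hG x₀ ht a) g (fun a q => hh₁ _ _)
    (fun a' a k q q' => by
      dsimp only [g]
      rw [indep a' (Classical.choice q') (k ≫ Classical.choice q)]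
      apply hom_eq_of_comp_eq hY.1 (G.map (Classical.choice q))
      · simp [map_map, (hh₁ _ _).map_eq]
      · rw [Category.assoc, ← hh₂, Category.assoc, ← G.toFunctor.map_comp, ← hh₂, Functor.map_comp, Category.assoc])
  refine ⟨α, (hα x₀ ⟨𝟙 x₀⟩).trans ?_⟩
  dsimp only [g]
  rw [indep x₀ _ (𝟙 x₀)]
  have := hh₂ x₀ (𝟙 x₀)
  simpa using this.symm

section Equiv

/-- A functor between gerbes inducing bijections on automorphisms of the pullbacks of an object over a terminal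
object is an equivalence over the base. -/
theorem isEquivOver_of_bijective_center (h𝒳 : Gerb.IsGerbe J 𝒳) (h𝒴 : Gerb.IsGerbe J 𝒴) (F : 𝒳 ⥤ᵇ 𝒴)
    (s : 𝒳.obj) (ht : IsTerminal (𝒳.p.obj s))
    (hb : ∀ (x : 𝒳.obj), (x ⟶ s) → Function.Bijective (Gerb.autMap F x)) : FibCat.IsEquivOver F := by
  have hX : FibCat.IsFibGrpd 𝒳.p := h𝒳.1.1
  have hY : FibCat.IsFibGrpd 𝒴.p := h𝒴.1.1
  have hXp := isPrestack_of_isStack h𝒳.1
  have hYp := isPrestack_of_isStack h𝒴.1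
  -- objects lying in the image of the given covering sieve
  have liftQ : ∀ {a : 𝒳.obj} {R : Sieve (𝒳.p.obj a)}
      (_ : ∀ ⦃V : C⦄ (f : V ⟶ 𝒳.p.obj a), R f → ∃ (a' : 𝒳.obj) (l : a' ⟶ a),
        𝒳.p.IsHomLift f l ∧ Nonempty (a' ⟶ s)) {a' : 𝒳.obj} (l : a' ⟶ a), R (𝒳.p.map l) → Nonempty (a' ⟶ s) := by
    intro a R hR a' l hl
    obtain ⟨a'', l', hl', ⟨d⟩⟩ := hR _ hl
    obtain ⟨h₁, h₂, e⟩ := (isHomLift_iff_eqToHom _ _).1 hl'
    obtain ⟨k, -, -⟩ := exists_vert_iso_of_lifts hX l l' h₁.symm (by rw [e]; simp)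
    exact ⟨k.hom ≫ d⟩
  have hfaith : F.toFunctor.Faithful := by
    refine faithful_of_vert hX hY F fun a b χ χ' hχ hχ' e => ?_
    obtain ⟨R, hR, hR'⟩ := exists_conn_center hX h𝒳.2.2 s ht a
    refine vert_hom_ext_of_local hX R (hXp.2 R hR).2 hχ hχ' fun a' l hl => ?_
    obtain ⟨d⟩ := liftQ hR' l hl
    obtain ⟨b', n, hb', hn⟩ := exists_lift' hX (x := b) (𝒳.p.map l ≫ eqToHom hχ.obj_eq)
    have e₁ : eqToHom hb'.symm ≫ 𝒳.p.map n = 𝒳.p.map (l ≫ χ) := by simp [hn, hχ.map_eq]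
    have e₂ : eqToHom hb'.symm ≫ 𝒳.p.map n = 𝒳.p.map (l ≫ χ') := by simp [hn, hχ'.map_eq]
    have key : ∀ (c₁ c₂ : a' ⟶ b'), IsVert 𝒳.p c₁ → IsVert 𝒳.p c₂ → F.map c₁ = F.map c₂ → c₁ = c₂ := by
      intro c₁ c₂ v₁ v₂ hF
      have := v₂.isIso hX
      obtain ⟨α, hα⟩ := exists_autO hX (c₁ ≫ inv c₂) (v₁.comp (v₂.inv (φ := asIso c₂)))
      have : α = 1 := (hb a' d).1 (by
        rw [map_one]
        refine Iso.ext (Functor.Fiber.hom_ext ?_)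
        change F.map α.hom.1 = 𝟙 (F.obj a')
        rw [hα, F.toFunctor.map_comp, hF, ← F.toFunctor.map_comp, IsIso.hom_inv_id, F.toFunctor.map_id])
      rw [this, autO_one_val] at hα
      exact ((IsIso.comp_inv_eq c₂).1 hα.symm).trans (Category.id_comp c₂)
    rw [← factor_comp hX n _ _ e₁, ← factor_comp hX n _ _ e₂]
    congr 1
    refine key _ _ ⟨_, factor_map hX _ _ _ e₁⟩ ⟨_, factor_map hX _ _ _ e₂⟩ ?_
    apply hom_eq_of_comp_eq hY (F.map n)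
    · rw [map_map, map_map, factor_map, factor_map]
    · rw [← F.toFunctor.map_comp, ← F.toFunctor.map_comp, factor_comp, factor_comp, F.toFunctor.map_comp,
        F.toFunctor.map_comp, e]
  have hfull : F.toFunctor.Full := by
    have hvert : ∀ (a b : 𝒳.obj) (β : F.obj a ⟶ F.obj b), IsVert 𝒴.p β → ∃ χ : a ⟶ b, F.map χ = β := by
      intro a b β hβ
      have hab : 𝒳.p.obj a = 𝒳.p.obj b := (F.w_obj a).symm.trans (hβ.obj_eq.trans (F.w_obj b))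
      obtain ⟨R₁, hR₁, hR₁'⟩ := exists_conn_center hX h𝒳.2.2 s ht a
      obtain ⟨R₂, hR₂, hR₂'⟩ := exists_conn h𝒳.2.2 hab
      have hdata : ∀ ⦃a' : 𝒳.obj⦄ (l : a' ⟶ a), (R₁ ⊓ R₂) (𝒳.p.map l) →
          ∃ m : a' ⟶ b, 𝒳.p.map m = 𝒳.p.map l ≫ eqToHom hab ∧ F.map m = F.map l ≫ β := by
        intro a' l hl
        obtain ⟨d⟩ := liftQ hR₁' l hl.1
        obtain ⟨x₀, φ, ψ, h₀, eφ, eψ⟩ := hR₂' _ hl.2
        obtain ⟨k, hk, hkl⟩ := exists_vert_iso_of_lifts hX l φ h₀.symm (by rw [eφ]; simp)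
        let ψ' := k.hom ≫ ψ
        have hψ' : 𝒳.p.map ψ' = 𝒳.p.map l ≫ eqToHom hab := by simp [ψ', hk.map_eq, eψ]
        have e : 𝟙 (𝒴.p.obj (F.obj a')) ≫ 𝒴.p.map (F.map ψ') = 𝒴.p.map (F.map l ≫ β) := by
          simp [map_map, hψ', hβ.map_eq]
        obtain ⟨u, hu⟩ := exists_autO hY (factor hY _ _ _ e) ⟨rfl, by simpa using factor_map hY _ _ _ e⟩
        obtain ⟨α, hα⟩ := (hb a' d).2 u
        refine ⟨α.hom.1 ≫ ψ', ?_, ?_⟩
        · rw [Functor.map_comp, (isVert_autO α).map_eq, hψ']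
          simp
        · rw [F.toFunctor.map_comp, ← autMap_val, hα, hu, factor_comp]
      choose m hm₁ hm₂ using hdata
      obtain ⟨χ, hχ, hχl⟩ := glue_hom hX hab (R₁ ⊓ R₂) (hXp.2 _ (J.intersection_covering hR₁ hR₂)).1
        (fun a' l hl => m l hl) (fun a' l hl => hm₁ l hl)
        (fun a' a'' l hl k hkl => F.toFunctor.map_injective (by rw [F.toFunctor.map_comp, hm₂, hm₂, F.toFunctor.map_comp, Category.assoc]))
      refine ⟨χ, ?_⟩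
      let S : Sieve (𝒴.p.obj (F.obj a)) := (R₁ ⊓ R₂).pullback (eqToHom (F.w_obj a))
      refine vert_hom_ext_of_local hY S (hYp.2 S (J.pullback_stable _ (J.intersection_covering hR₁ hR₂))).2
        (isVert_map hχ) hβ fun c l hl => ?_
      obtain ⟨a', l₀, h₀, e₀⟩ := exists_lift' hX (x := a) (𝒴.p.map l ≫ eqToHom (F.w_obj a))
      obtain ⟨i, hi, hil⟩ := exists_vert_iso_of_lifts hY l (F.map l₀) (((F.w_obj a').trans h₀).symm)
        (by rw [map_map, e₀]; simp)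
      have hR₀ : (R₁ ⊓ R₂) (𝒳.p.map l₀) := by rw [e₀]; exact (R₁ ⊓ R₂).downward_closed hl _
      rw [← hil, Category.assoc, Category.assoc, ← F.toFunctor.map_comp, hχl l₀ hR₀, hm₂]
    refine ⟨fun {a b} φ => ?_⟩
    obtain ⟨b', l, hb', hl⟩ := exists_lift' hX (x := b)
      (eqToHom (F.w_obj a).symm ≫ 𝒴.p.map φ ≫ eqToHom (F.w_obj b))
    have e : eqToHom ((F.w_obj a).trans (hb'.symm.trans (F.w_obj b').symm)) ≫ 𝒴.p.map (F.map l) = 𝒴.p.map φ := by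
      simp [map_map, hl]
    obtain ⟨χ, hχ⟩ := hvert a b' (factor hY _ _ _ e) ⟨_, factor_map hY _ _ _ e⟩
    exact ⟨χ ≫ l, by rw [F.toFunctor.map_comp, hχ, factor_comp]⟩
  refine isEquivOver_of_locally_surj J h𝒳.1 hYp F fun y => ?_
  obtain ⟨x₁, d, h₁, e₁⟩ := exists_lift' hX (x := s) (ht.from (𝒴.p.obj y))
  obtain ⟨R, hR, hR'⟩ := exists_conn h𝒴.2.2 (x := y) (x' := F.obj x₁) (h₁.symm.trans (F.w_obj x₁).symm)
  refine ⟨R, hR, fun V f hf => ?_⟩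
  obtain ⟨y₀, φ, ψ, h₀, eφ, eψ⟩ := hR' f hf
  obtain ⟨x, l, hx, hl⟩ := exists_lift' hX (x := x₁) (𝒴.p.map ψ ≫ eqToHom (F.w_obj x₁))
  obtain ⟨i, hi, -⟩ := exists_vert_iso_of_lifts hY (F.map l) ψ ((F.w_obj x).trans hx) (by simp [map_map, hl])
  refine ⟨x, i.hom ≫ φ, IsHomLift.of_fac' _ _ _ (((F.w_obj x).trans hx).trans h₀) rfl ?_⟩
  simp [hi.map_eq, eφ]

end Equiv

end Groth.StkGerb
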