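import Groth.Prelude.Def_StGerb
import Groth.Agent.StkBase.FibProd

/-!
Gerbes over a target: composition, base change, descent, invariance under equivalence.
-/

set_option autoImplicit false
set_option backward.isDefEq.respectTransparency false
set_option backward.isDefEq.respectTransparency.types false

universe v₅ u₅ v₄ u₄ v₃ u₃ v₂ u₂ v u

open CategoryTheory
open Groth.StkBase

namespace Groth.StkGerb

variable {C : Type u} [Category.{v} C] {J : GrothendieckTopology C}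
variable {𝒳 : BasedCategory.{v₂, u₂} C} {𝒴 : BasedCategory.{v₃, u₃} C} {𝒵 : BasedCategory.{v₄, u₄} C}

/-- The arrows over which an object of the target comes from the source. -/
def objSieve (hX : FibCat.IsFibGrpd 𝒳.p) (F : 𝒳 ⥤ᵇ 𝒴) (y : 𝒴.obj) : Sieve (𝒴.p.obj y) where
  arrows V f := ∃ (x : 𝒳.obj) (g : F.obj x ⟶ y), 𝒴.p.IsHomLift f g
  downward_closed := by
    rintro V W f ⟨x, g, hg⟩ h
    obtain ⟨h₁, h₂, e⟩ := (isHomLift_iff_eqToHom _ _).1 hg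
    obtain ⟨x', l, hx', hl⟩ := exists_lift' hX (x := x) (h ≫ eqToHom (h₁.symm.trans (F.w_obj x)))
    exact ⟨x', F.map l ≫ g, IsHomLift.of_fac' _ _ _ ((F.w_obj x').trans hx') h₂ (by simp [map_map, hl, e])⟩

/-- The arrows over which a morphism between images lifts. -/
def homSieve (hX : FibCat.IsFibGrpd 𝒳.p) (F : 𝒳 ⥤ᵇ 𝒴) {x x' : 𝒳.obj} (b : F.obj x ⟶ F.obj x') :
    Sieve (𝒳.p.obj x) where
  arrows V f := ∃ (x₀ : 𝒳.obj) (φ : x₀ ⟶ x) (ψ : x₀ ⟶ x'),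
    𝒳.p.IsHomLift f φ ∧ 𝒳.p.IsHomLift f ψ ∧ F.map φ ≫ b = F.map ψ
  downward_closed := by
    rintro V W f ⟨x₀, φ, ψ, hφ, hψ, e⟩ h
    obtain ⟨h₁, h₂, e₁⟩ := (isHomLift_iff_eqToHom _ _).1 hφ
    obtain ⟨h₁', h₃, e₂⟩ := (isHomLift_iff_eqToHom _ _).1 hψ
    obtain ⟨x₁, l, hx₁, hl⟩ := exists_lift' hX (x := x₀) (h ≫ eqToHom h₁.symm)
    exact ⟨x₁, l ≫ φ, l ≫ ψ, IsHomLift.of_fac' _ _ _ hx₁ h₂ (by simp [hl, e₁]),
      IsHomLift.of_fac' _ _ _ hx₁ h₃ (by simp [hl, e₂]), by rw [F.toFunctor.map_comp, F.toFunctor.map_comp,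
        Category.assoc, e]⟩

theorem objSieve_mem {F : 𝒳 ⥤ᵇ 𝒴} (hX : FibCat.IsFibGrpd 𝒳.p) (h : Gerb.LocSurjObj J F) (y : 𝒴.obj) :
    objSieve hX F y ∈ J _ := by
  obtain ⟨R, hR, hR'⟩ := h y
  exact J.superset_covering (fun V f hf => hR' f hf) hR

theorem homSieve_mem {F : 𝒳 ⥤ᵇ 𝒴} (hX : FibCat.IsFibGrpd 𝒳.p) (h : Gerb.LocSurjHom J F) {x x' : 𝒳.obj}
    (b : F.obj x ⟶ F.obj x') (hb : IsVert 𝒴.p b) : homSieve hX F b ∈ J _ := by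
  obtain ⟨R, hR, hR'⟩ := h x x' b (hb.isHomLift (F.w_obj x))
  exact J.superset_covering (fun V f hf => hR' f hf) hR

theorem isGerbeOver_mk {F : 𝒳 ⥤ᵇ 𝒴} (hX : FibCat.IsFibGrpd 𝒳.p) (h₁ : ∀ y, objSieve hX F y ∈ J _)
    (h₂ : ∀ {x x' : 𝒳.obj} (b : F.obj x ⟶ F.obj x'), IsVert 𝒴.p b → homSieve hX F b ∈ J _) :
    Gerb.IsGerbeOver J F :=
  ⟨fun y => ⟨_, h₁ y, fun _ _ hf => hf⟩,
    fun _ _ b hb => ⟨_, h₂ b (isVert_of_isHomLift hb), fun _ _ hf => hf⟩⟩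

/-- Gerbes compose. -/
theorem isGerbeOver_comp (hX : FibCat.IsFibGrpd 𝒳.p) (hY : FibCat.IsFibGrpd 𝒴.p) (F : 𝒳 ⥤ᵇ 𝒴) (G : 𝒴 ⥤ᵇ 𝒵)
    (hF : Gerb.IsGerbeOver J F) (hG : Gerb.IsGerbeOver J G) : Gerb.IsGerbeOver J (BasedFunctor.comp F G) := by
  refine isGerbeOver_mk hX (fun z => ?_) fun {x x'} b hb => ?_
  · refine J.transitive (objSieve_mem hY hG.1 z) _ fun V f hf => ?_
    obtain ⟨y, g, hg⟩ := hf
    obtain ⟨h₁, h₂, e⟩ := (isHomLift_iff_eqToHom _ _).1 hg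
    refine J.superset_covering ?_ (J.pullback_stable (eqToHom (h₁.symm.trans (G.w_obj y))) (objSieve_mem hX hF.1 y))
    rintro W h ⟨x, k, hk⟩
    obtain ⟨a₁, a₂, ek⟩ := (isHomLift_iff_eqToHom _ _).1 hk
    exact ⟨x, G.map k ≫ g, IsHomLift.of_fac' _ _ _ (((BasedFunctor.comp F G).w_obj x).trans
      ((F.w_obj x).symm.trans a₁)) h₂ (by simp [map_map, ek, e])⟩
  · refine J.transitive (J.pullback_stable (eqToHom (F.w_obj x).symm) (homSieve_mem hY hG.2 b hb)) _ fun V f hf => ?_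
    obtain ⟨y₀, φ, ψ, hφ, hψ, eb⟩ := hf
    obtain ⟨p₁, q₁, eφ⟩ := (isHomLift_iff_eqToHom _ _).1 hφ
    obtain ⟨p₂, q₂, eψ⟩ := (isHomLift_iff_eqToHom _ _).1 hψ
    obtain ⟨x₁, l, hx₁, hl⟩ := exists_lift' hX (x := x) f
    obtain ⟨i, hi, hil⟩ := exists_vert_iso_of_lifts hY (F.map l) φ (((F.w_obj x₁).trans hx₁).trans p₁.symm)
      (by simp [map_map, hl, eφ])
    obtain ⟨x₂, l', hx₂, hl'⟩ := exists_lift' hX (x := x') (𝒴.p.map ψ ≫ eqToHom (F.w_obj x'))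
    obtain ⟨i', hi', hil'⟩ := exists_vert_iso_of_lifts hY (F.map l') ψ ((F.w_obj x₂).trans hx₂)
      (by simp [map_map, hl'])
    refine J.superset_covering ?_
      (J.pullback_stable (eqToHom hx₁.symm) (homSieve_mem hX hF.2 (i.hom ≫ i'.inv) (hi.comp hi'.inv)))
    rintro W h ⟨x₀, a, a', ha, ha', e⟩
    obtain ⟨r₁, r₂, ea⟩ := (isHomLift_iff_eqToHom _ _).1 ha
    obtain ⟨r₁', r₃, ea'⟩ := (isHomLift_iff_eqToHom _ _).1 ha'
    have hxx' : 𝒳.p.obj x' = 𝒳.p.obj x :=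
      (F.w_obj x').symm.trans (((G.w_obj _).symm.trans (hb.obj_eq.symm.trans (G.w_obj _))).trans (F.w_obj x))
    refine ⟨x₀, a ≫ l, a' ≫ l', IsHomLift.of_fac' _ _ _ r₁ rfl (by simp [ea, hl]),
      IsHomLift.of_fac' _ _ _ r₁ hxx' (by simp [ea', hl', eψ]), ?_⟩
    change G.map (F.map (a ≫ l)) ≫ b = G.map (F.map (a' ≫ l'))
    simp only [F.toFunctor.map_comp, ← hil, ← hil', G.toFunctor.map_comp, Category.assoc, eb]
    rw [← e]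
    simp

/-- Being a gerbe is preserved by base change. -/
theorem isGerbeOver_baseChange {𝒳' : BasedCategory.{v₅, u₅} C} {𝒴' : BasedCategory.{v₂, u₂} C}
    {𝒳₁ : BasedCategory.{v₃, u₃} C} (hX' : FibCat.IsFibGrpd 𝒳'.p) (hX : FibCat.IsFibGrpd 𝒳₁.p)
    (hY : FibCat.IsFibGrpd 𝒵.p) (hY' : FibCat.IsFibGrpd 𝒴'.p) (F : 𝒳₁ ⥤ᵇ 𝒵) (G : 𝒴' ⥤ᵇ 𝒵) (F' : 𝒳' ⥤ᵇ 𝒴')
    (G' : 𝒳' ⥤ᵇ 𝒳₁) (e : BasedFunctor.comp F' G ≅ BasedFunctor.comp G' F) (hc : FibCat.IsTwoCartOver F' G' e)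
    (hF : Gerb.IsGerbeOver J F) : Gerb.IsGerbeOver J F' := by
  refine isGerbeOver_mk hX' (fun y' => ?_) fun {x₁ x₂} b hb => ?_
  · refine J.superset_covering ?_ (J.pullback_stable (eqToHom (G.w_obj y').symm) (objSieve_mem hX hF.1 (G.obj y')))
    rintro V f ⟨a, g, hg⟩
    obtain ⟨h₁, h₂, eg⟩ := (isHomLift_iff_eqToHom _ _).1 hg
    obtain ⟨y₀, l, hy₀, hl⟩ := exists_lift' hY' (x := y') f
    obtain ⟨i, hi, -⟩ := exists_vert_iso_of_lifts hY (G.map l) g (((G.w_obj y₀).trans hy₀).trans h₁.symm)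
      (by simp [map_map, hl, eg])
    obtain ⟨x', φ, hφ⟩ := exists_vert_preimage hc (fpMk y₀ a i hi)
    refine ⟨x', φ.hom.hom.fst ≫ l, IsHomLift.of_fac' _ _ _ ((((isVert_fp_iff _).1 hφ).obj_eq).trans hy₀) rfl ?_⟩
    rw [Functor.map_comp, ((isVert_fp_iff _).1 hφ).map_eq, hl]
    simp
  · have h12 : 𝒳'.p.obj x₂ = 𝒳'.p.obj x₁ := (F'.w_obj x₂).symm.trans (hb.obj_eq.symm.trans (F'.w_obj x₁))
    let e₁ := isoApp e x₁
    let e₂ := isoApp e x₂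
    have hcv : IsVert 𝒵.p (e₁.inv ≫ G.map b ≫ e₂.hom) :=
      (isVert_isoApp e x₁).inv.comp ((isVert_map hb).comp (isVert_isoApp e x₂))
    refine J.superset_covering ?_ (J.pullback_stable (eqToHom (G'.w_obj x₁).symm)
      (homSieve_mem hX hF.2 (e₁.inv ≫ G.map b ≫ e₂.hom) hcv))
    rintro V f ⟨a₀, φ, ψ, hφ, hψ, ec⟩
    obtain ⟨p₁, q₁, eφ⟩ := (isHomLift_iff_eqToHom _ _).1 hφ
    obtain ⟨p₁', q₂, eψ⟩ := (isHomLift_iff_eqToHom _ _).1 hψ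
    obtain ⟨y₀, l, hy₀, hl⟩ := exists_lift' hY' (x := F'.obj x₁) (f ≫ eqToHom (F'.w_obj x₁).symm)
    obtain ⟨i, hi, hil⟩ := exists_vert_iso_of_lifts hY (G.map l ≫ e₁.hom) (F.map φ)
      (((G.w_obj y₀).trans hy₀).trans (p₁.symm.trans (F.w_obj a₀).symm))
      (by
        have := (isVert_isoApp e x₁).map_eq
        simp [e₁, map_map, hl, eφ, this])
    obtain ⟨x₀, θ, hθ⟩ := exists_vert_preimage hc (fpMk y₀ a₀ i hi)
    have hd : (G.map l ≫ G.map b) ≫ e₂.hom = i.hom ≫ F.map ψ := by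
      rw [← ec, reassoc_of% hil, Iso.hom_inv_id_assoc, Category.assoc]
    let f₁ : fpMk y₀ a₀ i hi ⟶ (FibCat.fpLift F' G' e).obj x₁ := fpHom l φ hil.symm
    let f₂ : fpMk y₀ a₀ i hi ⟶ (FibCat.fpLift F' G' e).obj x₂ := fpHom (l ≫ b) ψ
      (by change G.map (l ≫ b) ≫ e₂.hom = i.hom ≫ F.map ψ; rw [G.toFunctor.map_comp, hd])
    have := full_of_isEquivOver hc
    obtain ⟨a, ha⟩ := (FibCat.fpLift F' G' e).toFunctor.map_surjective (θ.hom ≫ f₁)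
    obtain ⟨a', ha'⟩ := (FibCat.fpLift F' G' e).toFunctor.map_surjective (θ.hom ≫ f₂)
    have hθv := (isVert_fp_iff _).1 hθ
    have ea : F'.map a = θ.hom.hom.fst ≫ l := congrArg (fun t => t.hom.fst) ha
    have ea' : F'.map a' = θ.hom.hom.fst ≫ l ≫ b := congrArg (fun t => t.hom.fst) ha'
    have hx₀ : 𝒳'.p.obj x₀ = V := (F'.w_obj x₀).symm.trans (hθv.obj_eq.trans hy₀)
    have pa : 𝒳'.p.map a = eqToHom hx₀ ≫ f := by
      have := congrArg 𝒴'.p.map ea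
      rw [map_map, Functor.map_comp, hθv.map_eq, hl] at this
      rw [← cancel_epi (eqToHom (F'.w_obj x₀)), ← cancel_mono (eqToHom (F'.w_obj x₁).symm)]
      simpa using this
    have pa' : 𝒳'.p.map a' = eqToHom hx₀ ≫ f ≫ eqToHom h12.symm := by
      have := congrArg 𝒴'.p.map ea'
      rw [map_map, Functor.map_comp, Functor.map_comp, hθv.map_eq, hl, hb.map_eq] at this
      rw [← cancel_epi (eqToHom (F'.w_obj x₀)), ← cancel_mono (eqToHom (F'.w_obj x₂).symm)]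
      simpa using this
    exact ⟨x₀, a, a', IsHomLift.of_fac' _ _ _ hx₀ rfl (by simpa using pa),
      IsHomLift.of_fac' _ _ _ hx₀ h12 (by simpa using pa'), by rw [ea, ea', Category.assoc]⟩

/-- Being a gerbe descends along a locally surjective base change. -/
theorem isGerbeOver_descent {𝒳' : BasedCategory.{v₅, u₅} C} {𝒴' : BasedCategory.{v₂, u₂} C}
    {𝒳₁ : BasedCategory.{v₃, u₃} C} (hX' : FibCat.IsFibGrpd 𝒳'.p) (hX : FibCat.IsFibGrpd 𝒳₁.p)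
    (hY : FibCat.IsFibGrpd 𝒵.p) (hY' : FibCat.IsFibGrpd 𝒴'.p) (F : 𝒳₁ ⥤ᵇ 𝒵) (G : 𝒴' ⥤ᵇ 𝒵) (F' : 𝒳' ⥤ᵇ 𝒴')
    (G' : 𝒳' ⥤ᵇ 𝒳₁) (e : BasedFunctor.comp F' G ≅ BasedFunctor.comp G' F) (hc : FibCat.IsTwoCartOver F' G' e)
    (hG : Gerb.LocSurjObj J G) (hF' : Gerb.IsGerbeOver J F') : Gerb.IsGerbeOver J F := by
  refine isGerbeOver_mk hX (fun y => ?_) fun {x₁ x₂} b hb => ?_
  · refine J.transitive (objSieve_mem hY' hG y) _ fun V f hf => ?_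
    obtain ⟨y', g, hg⟩ := hf
    obtain ⟨h₁, h₂, eg⟩ := (isHomLift_iff_eqToHom _ _).1 hg
    refine J.superset_covering ?_ (J.pullback_stable (eqToHom (h₁.symm.trans (G.w_obj y'))) (objSieve_mem hX' hF'.1 y'))
    rintro W h ⟨x', k, hk⟩
    obtain ⟨a₁, a₂, ek⟩ := (isHomLift_iff_eqToHom _ _).1 hk
    refine ⟨G'.obj x', (isoApp e x').inv ≫ G.map k ≫ g, IsHomLift.of_fac' _ _ _
      (((BasedFunctor.comp G' F).w_obj x').trans ((F'.w_obj x').symm.trans a₁)) h₂ ?_⟩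
    rw [Functor.map_comp, Functor.map_comp, (isVert_isoApp e x').inv.map_eq, map_map, ek, eg]
    simp
  · have h12 : 𝒳₁.p.obj x₂ = 𝒳₁.p.obj x₁ := (F.w_obj x₂).symm.trans (hb.obj_eq.symm.trans (F.w_obj x₁))
    refine J.transitive (J.pullback_stable (eqToHom (F.w_obj x₁).symm) (objSieve_mem hY' hG (F.obj x₁))) _
      fun V f hf => ?_
    obtain ⟨y', g, hg⟩ := hf
    obtain ⟨p₁, q₁, eg⟩ := (isHomLift_iff_eqToHom _ _).1 hg
    obtain ⟨a₁, l₁, ha₁, hl₁⟩ := exists_lift' hX (x := x₁) f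
    obtain ⟨a₂, l₂, ha₂, hl₂⟩ := exists_lift' hX (x := x₂) (f ≫ eqToHom h12.symm)
    obtain ⟨i₁, hi₁, hil₁⟩ := exists_vert_iso_of_lifts hY g (F.map l₁) ((p₁.trans ha₁.symm).trans (F.w_obj a₁).symm)
      (by simp [map_map, hl₁, eg])
    obtain ⟨i₂, hi₂, hil₂⟩ := exists_vert_iso_of_lifts hY (g ≫ b) (F.map l₂)
      ((p₁.trans ha₂.symm).trans (F.w_obj a₂).symm) (by simp [map_map, hl₂, eg, hb.map_eq])
    obtain ⟨w₁, θ₁, hθ₁⟩ := exists_vert_preimage hc (fpMk y' a₁ i₁ hi₁)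
    obtain ⟨w₂, θ₂, hθ₂⟩ := exists_vert_preimage hc (fpMk y' a₂ i₂ hi₂)
    have v₁ := (isVert_fp_iff _).1 hθ₁
    have v₂ := (isVert_fp_iff _).1 hθ₂
    have hb' : IsVert 𝒴'.p (θ₁.hom.hom.fst ≫ θ₂.inv.hom.fst) := v₁.comp ((isVert_fp_iff _).1 hθ₂.inv)
    have hw : 𝒳'.p.obj w₁ = V := (F'.w_obj w₁).symm.trans (v₁.obj_eq.trans ((G.w_obj y').symm.trans p₁))
    refine J.superset_covering ?_ (J.pullback_stable (eqToHom hw.symm) (homSieve_mem hX' hF'.2 _ hb'))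
    rintro W h ⟨z, α, β, hα, hβ, eαβ⟩
    obtain ⟨r₁, r₂, eα⟩ := (isHomLift_iff_eqToHom _ _).1 hα
    obtain ⟨r₁', r₃, eβ⟩ := (isHomLift_iff_eqToHom _ _).1 hβ
    have hcomm₁ : G.map θ₁.hom.hom.fst ≫ i₁.hom = (isoApp e w₁).hom ≫ F.map θ₁.hom.hom.snd := θ₁.hom.hom.w
    have hcomm₂ : G.map θ₂.hom.hom.fst ≫ i₂.hom = (isoApp e w₂).hom ≫ F.map θ₂.hom.hom.snd := θ₂.hom.hom.w
    have nα : G.map (F'.map α) ≫ (isoApp e w₁).hom = (isoApp e z).hom ≫ F.map (G'.map α) := isoApp_naturality e α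
    have nβ : G.map (F'.map β) ≫ (isoApp e w₂).hom = (isoApp e z).hom ≫ F.map (G'.map β) := isoApp_naturality e β
    have hz : F'.map α ≫ θ₁.hom.hom.fst = F'.map β ≫ θ₂.hom.hom.fst := by
      rw [← eαβ]
      have : θ₂.inv.hom.fst ≫ θ₂.hom.hom.fst = 𝟙 _ := congrArg (fun t => t.hom.fst) θ₂.inv_hom_id
      simp only [Category.assoc, this]
      erw [Category.comp_id]
    refine ⟨G'.obj z, G'.map α ≫ θ₁.hom.hom.snd ≫ l₁, G'.map β ≫ θ₂.hom.hom.snd ≫ l₂, ?_, ?_, ?_⟩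
    · refine IsHomLift.of_fac' _ _ _ ((G'.w_obj z).trans r₁) rfl ?_
      have hv : IsVert 𝒳₁.p θ₁.hom.hom.snd := isVert_map (F := FibCat.fpSnd G F) hθ₁
      rw [Functor.map_comp, Functor.map_comp, hv.map_eq, map_map, eα, hl₁]
      simp
    · refine IsHomLift.of_fac' _ _ _ ((G'.w_obj z).trans r₁) h12 ?_
      have hv : IsVert 𝒳₁.p θ₂.hom.hom.snd := isVert_map (F := FibCat.fpSnd G F) hθ₂
      rw [Functor.map_comp, Functor.map_comp, hv.map_eq, map_map, eβ, hl₂]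
      simp
    · rw [← cancel_epi (isoApp e z).hom]
      simp only [F.toFunctor.map_comp, Category.assoc]
      rw [← reassoc_of% nα, ← reassoc_of% nβ, ← reassoc_of% hcomm₁, ← reassoc_of% hcomm₂, reassoc_of% hil₁, hil₂,
        ← G.toFunctor.map_comp_assoc, hz, G.toFunctor.map_comp_assoc]

section Self

/-- The conditions for the structure functor. -/
theorem isGerbeOver_toSelf (hX : FibCat.IsFibGrpd 𝒳.p)
    (h₁ : ∀ U : C, ∃ R ∈ J U, ∀ ⦃V : C⦄ (f : V ⟶ U), R f → ∃ x : 𝒳.obj, 𝒳.p.obj x = V)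
    (h₂ : ∀ {x x' : 𝒳.obj} (h : 𝒳.p.obj x = 𝒳.p.obj x'), ∃ R ∈ J (𝒳.p.obj x), ∀ ⦃V : C⦄ (f : V ⟶ 𝒳.p.obj x),
      R f → ∃ (x₀ : 𝒳.obj) (φ : x₀ ⟶ x) (ψ : x₀ ⟶ x') (h₀ : 𝒳.p.obj x₀ = V),
        𝒳.p.map φ = eqToHom h₀ ≫ f ∧ 𝒳.p.map ψ = eqToHom h₀ ≫ f ≫ eqToHom h) :
    Gerb.IsGerbeOver J (FibCat.toSelf 𝒳) := by
  refine ⟨fun U => ?_, fun x x' b hb => ?_⟩
  · obtain ⟨R, hR, hR'⟩ := h₁ U
    refine ⟨R, hR, fun V f hf => ?_⟩
    obtain ⟨x, hx⟩ := hR' f hf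
    exact ⟨x, eqToHom hx ≫ f, IsHomLift.of_fac' (FibCat.selfOver C).p f _ hx rfl
      (by rw [eqToHom_refl, Category.comp_id]; rfl)⟩
  · obtain ⟨hx', eb⟩ := isVert_of_isHomLift hb
    obtain ⟨R, hR, hR'⟩ := h₂ (x := x) (x' := x') hx'
    refine ⟨R, hR, fun V f hf => ?_⟩
    obtain ⟨x₀, φ, ψ, h₀, eφ, eψ⟩ := hR' f hf
    have eb' : b = eqToHom hx' := eb
    refine ⟨x₀, φ, ψ, IsHomLift.of_fac' _ _ _ h₀ rfl (by simpa using eφ),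
      IsHomLift.of_fac' _ _ _ h₀ hx'.symm (by simpa using eψ), ?_⟩
    change 𝒳.p.map φ ≫ b = 𝒳.p.map ψ
    rw [eb', eφ, eψ]
    exact Category.assoc _ _ _

/-- Being a gerbe over the base passes along an equivalence over the base. -/
theorem isGerbeOver_toSelf_of_equiv (hX : FibCat.IsFibGrpd 𝒳.p) (F : 𝒳 ⥤ᵇ 𝒴) (hF : FibCat.IsEquivOver F)
    (h : Gerb.IsGerbeOver J (FibCat.toSelf 𝒳)) : Gerb.IsGerbeOver J (FibCat.toSelf 𝒴) := by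
  refine isGerbeOver_toSelf (isFibGrpd_of_isEquivOver hF hX) (fun U => ?_) fun {y y'} hyy' => ?_
  · obtain ⟨R, hR, hR'⟩ := h.1 U
    refine ⟨R, hR, fun V f hf => ?_⟩
    obtain ⟨x, g, hg⟩ := hR' f hf
    exact ⟨F.obj x, (F.w_obj x).trans (IsHomLift.domain_eq (FibCat.selfOver C).p f g)⟩
  · obtain ⟨x, i, hi⟩ := exists_vert_preimage hF y
    obtain ⟨x', i', hi'⟩ := exists_vert_preimage hF y'
    have e₁ : 𝒳.p.obj x = 𝒴.p.obj y := (F.w_obj x).symm.trans hi.obj_eq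
    have e₂ : 𝒳.p.obj x' = 𝒴.p.obj y' := (F.w_obj x').symm.trans hi'.obj_eq
    obtain ⟨R, hR, hR'⟩ := h.2 x x' (eqToHom (e₁.trans (hyy'.trans e₂.symm)))
      (IsHomLift.eqToHom_domain_lift_id (e₁.trans (hyy'.trans e₂.symm)) rfl)
    refine ⟨R.pullback (eqToHom e₁.symm), J.pullback_stable _ hR, fun V f hf => ?_⟩
    obtain ⟨x₀, φ, ψ, hφ, hψ, -⟩ := hR' _ hf
    obtain ⟨a₁, b₁, eφ⟩ := (isHomLift_iff_eqToHom _ _).1 hφ
    obtain ⟨a₁', b₂, eψ⟩ := (isHomLift_iff_eqToHom _ _).1 hψ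
    refine ⟨F.obj x₀, F.map φ ≫ i.hom, F.map ψ ≫ i'.hom, (F.w_obj x₀).trans a₁, ?_, ?_⟩
    · simp [map_map, eφ, hi.map_eq]
    · simp [map_map, eψ, hi'.map_eq]

end Self

end Groth.StkGerb
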