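import Groth.Agent.StkGerb.Glue
import Groth.Agent.StkGerb.Over
import Mathlib.CategoryTheory.Sites.InducedTopology

/-!
A stack in groupoids fibred in groupoids over another stack is a stack over the site of the latter with the topology
inherited from the base.
-/

set_option autoImplicit false
set_option backward.isDefEq.respectTransparency false
set_option backward.isDefEq.respectTransparency.types false

universe v₃ u₃ v₂ u₂ v u

open CategoryTheory
open Groth.StkBase

namespace Groth.StkGerb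

variable {C : Type u} [Category.{v} C] {J : GrothendieckTopology C}
variable {E : Type u₂} [Category.{v₂} E] {q : E ⥤ C}

section Top

/-- A sieve on a category fibred in groupoids is the preimage of its image. -/
theorem functorPullback_functorPushforward (hq : FibCat.IsFibGrpd q) {y : E} (S : Sieve y) :
    (S.functorPushforward q).functorPullback q = S := by
  ext y₀ g
  constructor
  · rintro ⟨z, g₀, h, hg₀, e⟩
    have e' : h ≫ q.map g₀ = q.map g := e.symm
    rw [← factor_comp hq g₀ g h e']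
    exact S.downward_closed hg₀ _
  · exact fun hg => ⟨y₀, g, 𝟙 _, hg, (Category.id_comp _).symm⟩

/-- The sieves whose image is covering. -/
def pushTop (J : GrothendieckTopology C) (hq : FibCat.IsFibGrpd q) : GrothendieckTopology E where
  sieves y := {S | S.functorPushforward q ∈ J (q.obj y)}
  top_mem' y := by
    refine J.superset_covering ?_ (J.top_mem (q.obj y))
    intro V f _
    exact ⟨y, 𝟙 y, f, trivial, by simp⟩
  pullback_stable' := by
    intro y y' S k hS
    refine J.superset_covering ?_ (J.pullback_stable (q.map k) hS)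
    rintro V f ⟨z, g, h, hg, e⟩
    obtain ⟨y₁, l, h₁, hl⟩ := exists_lift' hq (x := y') f
    have e' : (eqToHom h₁ ≫ h) ≫ q.map g = q.map (l ≫ k) := by
      rw [Functor.map_comp, hl, Category.assoc, Category.assoc, e]
    refine ⟨y₁, l, eqToHom h₁.symm, ?_, by simp [hl]⟩
    change S (l ≫ k)
    rw [← factor_comp hq g (l ≫ k) _ e']
    exact S.downward_closed hg _
  transitive' := by
    intro y S hS T hT
    refine J.transitive hS _ ?_
    rintro V f ⟨z, g, h, hg, rfl⟩
    refine J.superset_covering ?_ (J.pullback_stable h (hT hg))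
    rintro W j ⟨z', g', h', hg', e⟩
    exact ⟨z', g' ≫ g, h', hg', by rw [Functor.map_comp, ← Category.assoc, e, Category.assoc]⟩

theorem mem_restrictedTopology (hq : FibCat.IsFibGrpd q) {y : E} {R : Sieve (q.obj y)} (hR : R ∈ J _) :
    R.functorPullback q ∈ q.restrictedTopology J y := by
  apply Functor.mem_restrictedTopology_of_functorPushforward_mem
  refine J.superset_covering ?_ hR
  intro V f hf
  obtain ⟨y₁, l, h₁, hl⟩ := exists_lift' hq (x := y) f
  refine ⟨y₁, l, eqToHom h₁.symm, ?_, by simp [hl]⟩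
  change R (q.map l)
  rw [hl]
  exact R.downward_closed hf _

theorem exists_of_mem_restrictedTopology (hq : FibCat.IsFibGrpd q) {y : E} {S : Sieve y}
    (hS : S ∈ q.restrictedTopology J y) : ∃ R ∈ J (q.obj y), S = R.functorPullback q := by
  have hle : q.restrictedTopology J ≤ pushTop J hq := by
    apply Precoverage.toGrothendieck_le_iff_le_toPrecoverage.2
    intro z P hP
    rw [GrothendieckTopology.mem_toPrecoverage_iff]
    rw [Precoverage.mem_comap_iff, GrothendieckTopology.mem_toPrecoverage_iff,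
      Sieve.generate_map_eq_functorPushforward] at hP
    exact hP
  exact ⟨_, hle y hS, (functorPullback_functorPushforward hq S).symm⟩

end Top

section Stack

/-- The structure functor of a sieve on morphisms. -/
theorem sieveCat_p_map {D : Type u₂} [Category.{v₂} D] {U : D} (R : Sieve U) {a b : (Stk.sieveCat R).obj}
    (f : a ⟶ b) : (Stk.sieveCat R).p.map f = f.hom.left := rfl

variable {𝒳' : BasedCategory.{v₃, u₃} C} {𝒴 : BasedCategory.{v₂, u₂} C}

/-- A stack fibred in groupoids over a prestack is a stack over it. -/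
theorem isStack_over (hX : Stk.IsStack J 𝒳') (hY : Stk.IsPrestack J 𝒴) (F' : 𝒳' ⥤ᵇ 𝒴)
    (hF' : FibCat.IsFibGrpd F'.toFunctor) :
    Stk.IsStack (𝒴.p.restrictedTopology J) (BasedCategory.ofFunctor F'.toFunctor) := by
  refine ⟨hF', fun y S hS => ?_⟩
  obtain ⟨R, hR, rfl⟩ := exists_of_mem_restrictedTopology hY.1 hS
  have hXp := isPrestack_of_isStack hX
  let 𝒳₀ : BasedCategory.{v₃, u₃} 𝒴.obj := BasedCategory.ofFunctor F'.toFunctor
  change (Stk.resSieve (R.functorPullback 𝒴.p) 𝒳₀).IsEquivalence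
  -- the sieve member below a lift
  have below : ∀ (G : FibCat.overCat y ⥤ᵇ 𝒳₀) {a' : 𝒳'.obj} (l : a' ⟶ G.obj (idObj y)),
      R (eqToHom (F'.w_obj a') ≫ 𝒳'.p.map l ≫
        eqToHom ((F'.w_obj (G.obj (idObj y))).symm.trans (congrArg 𝒴.p.obj (G.w_obj (idObj y))))) →
      ∃ (z : (Stk.sieveCat (R.functorPullback 𝒴.p)).obj) (k : a' ≅ G.obj z.obj),
        IsVert F'.toFunctor k.hom ∧ k.hom ≫ G.map (toId z.obj) = l := by
    intro G a' l hl
    let z : (Stk.sieveCat (R.functorPullback 𝒴.p)).obj :=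
      ⟨Over.mk (F'.map l ≫ eqToHom (G.w_obj (idObj y))), by
        change R (𝒴.p.map (F'.map l ≫ eqToHom (G.w_obj (idObj y))))
        rw [Functor.map_comp, map_map, eqToHom_map]
        simpa using hl⟩
    obtain ⟨k, hk, hk'⟩ := exists_vert_iso_of_lifts hF' l (G.map (toId z.obj)) (G.w_obj z.obj).symm
      (by
        have := map_map G (toId z.obj)
        change F'.map _ = _ at this
        rw [this]
        simp [z, overCat_map, toId])
    exact ⟨z, k, hk, hk'⟩
  have hp : ∀ (G : FibCat.overCat y ⥤ᵇ 𝒳₀), 𝒳'.p.obj (G.obj (idObj y)) = 𝒴.p.obj y := fun G =>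
    (F'.w_obj _).symm.trans (congrArg 𝒴.p.obj (G.w_obj (idObj y)))
  have : (Stk.resSieve (R.functorPullback 𝒴.p) 𝒳₀).Faithful := by
    refine ⟨fun {G G'} α β h => natTrans_ext_idObj hF' ?_⟩
    have vα : IsVert 𝒳'.p (α.toNatTrans.app (idObj y)) := by
      have := isVert_app α (idObj y)
      obtain ⟨h₁, h₂⟩ := this
      have e := map_map F' (α.toNatTrans.app (idObj y))
      change F'.map _ = eqToHom h₁ at h₂
      rw [h₂, eqToHom_map] at e
      refine ⟨(hp G).trans (hp G').symm, ?_⟩
      rw [← cancel_epi (eqToHom (F'.w_obj (G.obj (idObj y)))), ← cancel_mono (eqToHom (F'.w_obj (G'.obj (idObj y))).symm)]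
      simpa using e.symm
    have vβ : IsVert 𝒳'.p (β.toNatTrans.app (idObj y)) := by
      have := isVert_app β (idObj y)
      obtain ⟨h₁, h₂⟩ := this
      have e := map_map F' (β.toNatTrans.app (idObj y))
      change F'.map _ = eqToHom h₁ at h₂
      rw [h₂, eqToHom_map] at e
      refine ⟨(hp G).trans (hp G').symm, ?_⟩
      rw [← cancel_epi (eqToHom (F'.w_obj (G.obj (idObj y)))), ← cancel_mono (eqToHom (F'.w_obj (G'.obj (idObj y))).symm)]
      simpa using e.symm
    refine vert_hom_ext_of_local hX.1 (R.pullback (eqToHom (hp G))) (hXp.2 _ (J.pullback_stable _ hR)).2 vα vβ ?_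
    intro a' l hl
    obtain ⟨z, k, hk, rfl⟩ := below G l (by
      have := R.downward_closed hl (eqToHom (F'.w_obj a'))
      simpa using this)
    have hz : α.toNatTrans.app z.obj = β.toNatTrans.app z.obj := congrArg (fun t => t.toNatTrans.app z) h
    rw [Category.assoc, Category.assoc]
    refine congrArg (k.hom ≫ ·) ?_
    rw [α.toNatTrans.naturality, β.toNatTrans.naturality, hz]
  have : (Stk.resSieve (R.functorPullback 𝒴.p) 𝒳₀).Full := by
    refine ⟨fun {G G'} γ => ?_⟩
    let R' : Sieve (𝒳'.p.obj (G.obj (idObj y))) := R.pullback (eqToHom (hp G))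
    have hdata : ∀ ⦃a' : 𝒳'.obj⦄ (l : a' ⟶ G.obj (idObj y)), R' (𝒳'.p.map l) →
        ∃ m : a' ⟶ G'.obj (idObj y), F'.map m = F'.map l ≫ eqToHom ((G.w_obj (idObj y)).trans (G'.w_obj (idObj y)).symm) ∧
          ∀ (z : (Stk.sieveCat (R.functorPullback 𝒴.p)).obj) (k : a' ⟶ G.obj z.obj), k ≫ G.map (toId z.obj) = l →
            k ≫ γ.toNatTrans.app z ≫ G'.map (toId z.obj) = m := by
      intro a' l hl
      obtain ⟨z, k, hk, hkl⟩ := below G l (by
        have := R.downward_closed hl (eqToHom (F'.w_obj a'))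
        simpa [R'] using this)
      have hF : ∀ (z : (Stk.sieveCat (R.functorPullback 𝒴.p)).obj) (k : a' ⟶ G.obj z.obj),
          F'.map (k ≫ γ.toNatTrans.app z ≫ G'.map (toId z.obj)) =
            F'.map (k ≫ G.map (toId z.obj)) ≫ eqToHom ((G.w_obj (idObj y)).trans (G'.w_obj (idObj y)).symm) := by
        intro z k
        have e₁ : F'.map (γ.toNatTrans.app z) = _ := (isVert_app γ z).map_eq
        have e₂ : F'.map (G'.map (toId z.obj)) = _ := map_map G' (toId z.obj)
        have e₃ : F'.map (G.map (toId z.obj)) = _ := map_map G (toId z.obj)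
        simp only [F'.toFunctor.map_comp, e₁, e₂, e₃, Category.assoc, eqToHom_trans, eqToHom_trans_assoc]
      refine ⟨k.hom ≫ γ.toNatTrans.app z ≫ G'.map (toId z.obj), by rw [hF, hkl], fun z' k' hk' => ?_⟩
      -- the two members define the same arrow
      let f₀ : z.obj.left ⟶ z'.obj.left :=
        eqToHom ((G.w_obj z.obj).symm.trans hk.obj_eq.symm) ≫ F'.map k' ≫ eqToHom (G.w_obj z'.obj)
      have hf₀ : f₀ ≫ z'.obj.hom = z.obj.hom := by
        have e₁ := congrArg F'.toFunctor.map hk'
        have e₂ := congrArg F'.toFunctor.map hkl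
        have a₁ : F'.map (G.map (toId z'.obj)) = _ := map_map G (toId z'.obj)
        have a₂ : F'.map (G.map (toId z.obj)) = _ := map_map G (toId z.obj)
        rw [F'.toFunctor.map_comp, a₁] at e₁
        rw [F'.toFunctor.map_comp, a₂, hk.map_eq, ← e₁] at e₂
        simp [overCat_map, toId] at e₂
        simp only [f₀, Category.assoc]
        rw [← cancel_epi (eqToHom (hk.obj_eq.trans (G.w_obj z.obj))), ← cancel_mono (eqToHom (G.w_obj (idObj y)).symm)]
        simpa using e₂.symm
      let f : z ⟶ z' := ObjectProperty.homMk (Over.homMk f₀ hf₀)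
      have hkk : k.hom ≫ G.map f.hom = k' := by
        apply hom_eq_of_comp_eq hF' (G.map (toId z'.obj))
        · have a : F'.map (G.map f.hom) = _ := map_map G f.hom
          rw [F'.toFunctor.map_comp, a, hk.map_eq]
          simp [f, f₀, overCat_map]
        · rw [Category.assoc, ← G.toFunctor.map_comp, toId_naturality, hkl, hk']
      have nat : G.map f.hom ≫ γ.toNatTrans.app z' = γ.toNatTrans.app z ≫ G'.map f.hom := γ.toNatTrans.naturality f
      rw [← hkk, Category.assoc]
      refine congrArg (k.hom ≫ ·) ?_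
      rw [reassoc_of% nat, ← G'.toFunctor.map_comp, toId_naturality]
      rfl
    choose m hm₁ hm₂ using hdata
    obtain ⟨χ, hχ, hχl⟩ := glue_hom hX.1 ((hp G).trans (hp G').symm) R' (hXp.2 R' (J.pullback_stable _ hR)).1
      (fun a' l hl => m l hl)
      (fun a' l hl => by
        have e := congrArg 𝒴.p.map (hm₁ l hl)
        rw [map_map, Functor.map_comp, map_map, eqToHom_map] at e
        rw [← cancel_epi (eqToHom (F'.w_obj a')), ← cancel_mono (eqToHom (F'.w_obj (G'.obj (idObj y))).symm)]
        simpa using e)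
      (fun a' a'' l hl k hkl => by
        obtain ⟨z, k₀, -, hk₀⟩ := below G l (by
          have := R.downward_closed hl (eqToHom (F'.w_obj a'))
          simpa [R'] using this)
        rw [← hm₂ l hl z k₀.hom hk₀, ← hm₂ (k ≫ l) hkl z (k ≫ k₀.hom) (by rw [Category.assoc, hk₀]),
          Category.assoc])
    have hFχ : IsVert F'.toFunctor χ := by
      refine ⟨(G.w_obj (idObj y)).trans (G'.w_obj (idObj y)).symm, ?_⟩
      refine vert_hom_ext_of_local hY.1 (R'.pullback (eqToHom (F'.w_obj _)))
        (hY.2 _ (J.pullback_stable _ (J.pullback_stable _ hR))).2 (isVert_map hχ) (isVert_eqToHom _) ?_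
      intro y₀ g hg
      obtain ⟨a', l, ha', hl⟩ := exists_lift' hX.1 (x := G.obj (idObj y)) (𝒴.p.map g ≫ eqToHom (F'.w_obj _))
      obtain ⟨i, hi, hil⟩ := exists_vert_iso_of_lifts hY.1 g (F'.map l) (((F'.w_obj a').trans ha').symm)
        (by rw [map_map, hl]; simp)
      have hl' : R' (𝒳'.p.map l) := by rw [hl]; exact R'.downward_closed hg _
      rw [← hil, Category.assoc, Category.assoc, ← F'.toFunctor.map_comp, hχl l hl', hm₁ l hl']
    obtain ⟨α, hα⟩ := exists_natTrans_of_eval hF' G G' χ hFχ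
    refine ⟨α, natTrans_ext fun z => ?_⟩
    change α.toNatTrans.app z.obj = γ.toNatTrans.app z
    apply hom_eq_of_comp_eq hF' (G'.map (toId z.obj))
    · exact (isVert_app α z.obj).map_eq.trans (isVert_app γ z).map_eq.symm
    · have hl : R' (𝒳'.p.map (G.map (toId z.obj))) := by
        change R (_ ≫ _)
        have e : F'.map (G.map (toId z.obj)) = _ := map_map G (toId z.obj)
        have e' := congrArg 𝒴.p.map e
        rw [map_map] at e'
        simp [overCat_map, toId, eqToHom_map] at e'
        have hz : R (𝒴.p.map z.obj.hom) := z.property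
        have := R.downward_closed hz
          (eqToHom ((F'.w_obj (G.obj z.obj)).symm.trans (congrArg 𝒴.p.obj (G.w_obj z.obj))))
        convert this using 1
        rw [← cancel_epi (eqToHom (F'.w_obj (G.obj z.obj)))]
        rw [← cancel_mono (eqToHom (congrArg 𝒴.p.obj (G.w_obj (idObj y))).symm)]
        simpa using e'
      rw [← α.toNatTrans.naturality, hα, hχl _ hl, ← hm₂ _ hl z (𝟙 _) (Category.id_comp _)]
      exact Category.id_comp _
  have : (Stk.resSieve (R.functorPullback 𝒴.p) 𝒳₀).EssSurj := by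
    refine ⟨fun H => ?_⟩
    -- the sieve of the base inside the sieve upstairs
    let Gy := overFunctor hY.1 y rfl
    obtain ⟨iy, hiy⟩ := overFunctor_eval hY.1 y rfl
    let arr : ∀ w : (Stk.sieveCat R).obj, Gy.obj w.obj ⟶ y := fun w => Gy.map (toId w.obj) ≫ iy.hom
    have harr : ∀ w, 𝒴.p.map (arr w) = eqToHom (Gy.w_obj w.obj) ≫ w.obj.hom := fun w => by
      simp [arr, map_map, hiy.map_eq, overCat_map, toId]
    let T : (Stk.sieveCat R).obj ⥤ (Stk.sieveCat (R.functorPullback 𝒴.p)).obj :=
      { obj := fun w => ⟨Over.mk (arr w), by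
          change R (𝒴.p.map (arr w))
          rw [harr]
          exact R.downward_closed w.property _⟩
        map := fun {w w'} f => ObjectProperty.homMk (Over.homMk (Gy.map f.hom) (by
          change Gy.map f.hom ≫ Gy.map (toId w'.obj) ≫ iy.hom = Gy.map (toId w.obj) ≫ iy.hom
          rw [← Category.assoc, ← Gy.toFunctor.map_comp, toId_naturality]))
        map_id := fun w => ObjectProperty.hom_ext _ (Over.OverMorphism.ext (Gy.toFunctor.map_id _))
        map_comp := fun f g => ObjectProperty.hom_ext _ (Over.OverMorphism.ext (Gy.toFunctor.map_comp _ _)) }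
    let K : Stk.sieveCat R ⥤ᵇ 𝒳' :=
      { toFunctor := T ⋙ H.toFunctor
        w := by
          refine CategoryTheory.Functor.ext
            (fun w => (F'.w_obj _).symm.trans ((congrArg 𝒴.p.obj (H.w_obj (T.obj w))).trans (Gy.w_obj w.obj))) ?_
          intro w w' f
          change 𝒳'.p.map (H.map (T.map f)) = _
          have e : F'.map (H.map (T.map f)) = _ := map_map H (T.map f)
          have e' := congrArg 𝒴.p.map e
          rw [map_map] at e'
          rw [← cancel_epi (eqToHom (F'.w_obj (H.obj (T.obj w)))),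
            ← cancel_mono (eqToHom (F'.w_obj (H.obj (T.obj w'))).symm)]
          simp [T, map_map, eqToHom_map, overCat_map, sieveCat_p_map] at e'
          simp [T, sieveCat_p_map]
          exact e' }
    have : (Stk.resSieve R 𝒳').IsEquivalence := hX.2 R hR
    let K' := (Stk.resSieve R 𝒳').objPreimage K
    let eK : (Stk.resSieve R 𝒳').obj K' ≅ K := (Stk.resSieve R 𝒳').objObjPreimageIso K
    let a := K'.obj (idObj _)
    have ha : 𝒳'.p.obj a = 𝒴.p.obj y := K'.w_obj (idObj _)
    -- the comparison of a member with the chosen one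
    let bar : (Stk.sieveCat (R.functorPullback 𝒴.p)).obj → (Stk.sieveCat R).obj := fun z =>
      ⟨Over.mk (𝒴.p.map z.obj.hom), z.property⟩
    have hk : ∀ z : (Stk.sieveCat (R.functorPullback 𝒴.p)).obj, ∃ k : z ⟶ T.obj (bar z), IsVert 𝒴.p k.hom.left := by
      intro z
      obtain ⟨k, hk, hk'⟩ := exists_vert_iso_of_lifts hY.1 z.obj.hom (arr (bar z)) (Gy.w_obj (bar z).obj).symm
        (by simp [harr, bar])
      exact ⟨ObjectProperty.homMk (Over.homMk k.hom hk'), hk⟩
    choose kk hkk using hk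
    let v : ∀ z : (Stk.sieveCat (R.functorPullback 𝒴.p)).obj, H.obj z ⟶ a := fun z =>
      H.map (kk z) ≫ (isoApp eK (bar z)).inv ≫ K'.map (toId (bar z).obj)
    have hv : ∀ z, 𝒳'.p.map (v z) =
        eqToHom ((F'.w_obj (H.obj z)).symm.trans (congrArg 𝒴.p.obj (H.w_obj z))) ≫ 𝒴.p.map z.obj.hom ≫
          eqToHom ha.symm := by
      intro z
      have e : F'.map (H.map (kk z)) = _ := map_map H (kk z)
      have e' := congrArg 𝒴.p.map e
      rw [map_map] at e'
      simp [eqToHom_map, (hkk z).map_eq, overCat_map, sieveCat_p_map] at e'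
      have e₁ : 𝒳'.p.map (H.map (kk z)) = eqToHom ((F'.w_obj (H.obj z)).symm.trans ((congrArg 𝒴.p.obj (H.w_obj z)).trans
          ((hkk z).obj_eq.trans ((congrArg 𝒴.p.obj (H.w_obj (T.obj (bar z)))).symm.trans (F'.w_obj _))))) := by
        rw [← cancel_epi (eqToHom (F'.w_obj (H.obj z))), ← cancel_mono (eqToHom (F'.w_obj (H.obj (T.obj (bar z)))).symm)]
        simpa using e'
      have e₂ := (isVert_isoApp eK (bar z)).inv.map_eq
      simp only [v, Functor.map_comp, e₁, map_map K', overCat_map, toId]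
      erw [e₂]
      simp [bar]
    have vnat : ∀ ⦃z z'⦄ (f : z ⟶ z'), H.map f ≫ v z' = v z := by
      intro z z' f
      let fb : bar z ⟶ bar z' := ObjectProperty.homMk (Over.homMk (𝒴.p.map f.hom.left) (by
        change 𝒴.p.map f.hom.left ≫ 𝒴.p.map z'.obj.hom = 𝒴.p.map z.obj.hom
        rw [← Functor.map_comp, Over.w]))
      have ek : f ≫ kk z' = kk z ≫ T.map fb := by
        apply ObjectProperty.hom_ext
        apply Over.OverMorphism.ext
        apply hom_eq_of_comp_eq hY.1 (arr (bar z'))
        · change 𝒴.p.map (f.hom.left ≫ (kk z').hom.left) = 𝒴.p.map ((kk z).hom.left ≫ Gy.map fb.hom)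
          simp [map_map, (hkk z).map_eq, (hkk z').map_eq, overCat_map, fb, bar]
        · exact (Over.w (f ≫ kk z').hom).trans (Over.w (kk z ≫ T.map fb).hom).symm
      have nat : K.map fb ≫ (isoApp eK (bar z')).inv = (isoApp eK (bar z)).inv ≫ K'.map fb.hom := by
        rw [Iso.comp_inv_eq, Category.assoc]
        erw [isoApp_naturality eK fb, Iso.inv_hom_id_assoc]
      simp only [v]
      rw [← Category.assoc, ← H.toFunctor.map_comp, ek, H.toFunctor.map_comp, Category.assoc]
      refine congrArg (H.map (kk z) ≫ ·) ?_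
      erw [reassoc_of% nat]
      rw [← K'.toFunctor.map_comp, toId_naturality]
      rfl
    -- identify the image of the glued object
    clear_value v
    let RY : Sieve (𝒴.p.obj y) := R
    have hdata : ∀ ⦃y₀ : 𝒴.obj⦄ (l : y₀ ⟶ y) (hl : RY (𝒴.p.map l)),
        ∃ m : y₀ ⟶ F'.obj a, 𝒴.p.map m = 𝒴.p.map l ≫ eqToHom (ha.symm.trans (F'.w_obj a).symm) ∧
          ∀ (hz : (R.functorPullback 𝒴.p) (Over.mk l).hom),
            eqToHom (H.w_obj ⟨Over.mk l, hz⟩).symm ≫ F'.map (v ⟨Over.mk l, hz⟩) = m := by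
      intro y₀ l hl
      refine ⟨eqToHom (H.w_obj ⟨Over.mk l, hl⟩).symm ≫ F'.map (v ⟨Over.mk l, hl⟩), ?_, fun _ => rfl⟩
      erw [Functor.map_comp, map_map, hv, eqToHom_map]
      simp
    choose m hm₁ hm₂ using hdata
    obtain ⟨χ, hχ, hχl⟩ := glue_hom hY.1 (ha.symm.trans (F'.w_obj a).symm) RY (hY.2 R hR).1
      (fun y₀ l hl => m l hl) (fun y₀ l hl => hm₁ l hl)
      (fun y₀ y₁ l hl k hkl => by
        rw [← hm₂ l hl hl, ← hm₂ (k ≫ l) hkl hkl]
        let f : (⟨Over.mk (k ≫ l), hkl⟩ : (Stk.sieveCat (R.functorPullback 𝒴.p)).obj) ⟶ ⟨Over.mk l, hl⟩ :=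
          ObjectProperty.homMk (Over.homMk k rfl)
        have e : F'.map (H.map f) = _ := map_map H f
        rw [← vnat f, F'.toFunctor.map_comp, e]
        simp [f, sieveCat_p_map])
    obtain ⟨a₁, u, ha₁, hu⟩ := exists_lift' hF' (x := a) χ
    have : IsIso χ := hχ.isIso hY.1
    have : IsIso u := isIso_of_isIso_map hF' u (by rw [hu]; infer_instance)
    let G : FibCat.overCat y ⥤ᵇ 𝒳₀ := overFunctor (𝒳 := 𝒳₀) hF' a₁ ha₁
    obtain ⟨ia, hia⟩ := overFunctor_eval (𝒳 := 𝒳₀) hF' a₁ ha₁
    have hlift : ∀ z : (Stk.sieveCat (R.functorPullback 𝒴.p)).obj, ∃ c : G.obj z.obj ≅ H.obj z,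
        IsVert F'.toFunctor c.hom ∧ c.hom ≫ v z ≫ inv u = G.map (toId z.obj) ≫ ia.hom := by
      intro z
      obtain ⟨c, hc, hc'⟩ := exists_vert_iso_of_lifts hF' (G.map (toId z.obj) ≫ ia.hom) (v z ≫ inv u)
        ((G.w_obj z.obj).trans (H.w_obj z).symm)
        (by
          have e₁ : F'.map (G.map (toId z.obj)) = _ := map_map G (toId z.obj)
          have e₂ : F'.map ia.hom = _ := hia.map_eq
          have e₃ := hm₂ z.obj.hom z.property z.property
          have e₄ := hχl z.obj.hom z.property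
          rw [← e₄] at e₃
          have e₅ : F'.map (v z) = eqToHom (H.w_obj z) ≫ z.obj.hom ≫ χ := by
            rw [← cancel_epi (eqToHom (H.w_obj z).symm)]
            simp
            exact e₃
          rw [F'.toFunctor.map_comp, F'.toFunctor.map_comp, e₁, e₂, e₅, Functor.map_inv]
          simp [hu, overCat_map, toId])
      exact ⟨c, hc, hc'⟩
    choose c hc hc' using hlift
    refine ⟨G, ⟨isoMk c (fun {z z'} f => ?_) hc⟩⟩
    apply hom_eq_of_comp_eq hF' (v z' ≫ inv u)
    · have e₁ : F'.map (G.map f.hom) = _ := map_map G f.hom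
      have e₂ : F'.map (H.map f) = _ := map_map H f
      change F'.map (G.map f.hom ≫ (c z').hom) = F'.map ((c z).hom ≫ H.map f)
      rw [F'.toFunctor.map_comp, F'.toFunctor.map_comp, e₁, e₂, (hc z).map_eq, (hc z').map_eq]
      simp [overCat_map]
      rfl
    · rw [Category.assoc, Category.assoc, reassoc_of% (vnat f), hc' z, hc' z']
      exact (Category.assoc _ _ _).symm.trans (congrArg (· ≫ ia.hom)
        ((G.toFunctor.map_comp _ _).symm.trans (congrArg G.map (toId_naturality f.hom))))
  exact { }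

end Stack

end Groth.StkGerb

namespace Groth.StkGerb

variable {C : Type u} [Category.{v} C] {J : GrothendieckTopology C}
variable {𝒳' : BasedCategory.{v₃, u₃} C} {𝒴 : BasedCategory.{v₂, u₂} C}

/-- A gerbe over a target is a gerbe over the site of the target. -/
theorem isGerbe_over_site (hX : Stk.IsStack J 𝒳') (hY : Stk.IsPrestack J 𝒴) (F' : 𝒳' ⥤ᵇ 𝒴)
    (hF' : FibCat.IsFibGrpd F'.toFunctor) (hG : Gerb.IsGerbeOver J F') :
    Gerb.IsGerbe (𝒴.p.restrictedTopology J) (BasedCategory.ofFunctor F'.toFunctor) := by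
  refine ⟨isStack_over hX hY F' hF',
    isGerbeOver_toSelf (𝒳 := BasedCategory.ofFunctor F'.toFunctor) hF' (fun y => ?_) fun {x x'} h => ?_⟩
  · refine ⟨_, mem_restrictedTopology hY.1 (objSieve_mem hX.1 hG.1 y), ?_⟩
    rintro y₀ g ⟨x, l, hl⟩
    obtain ⟨h₁, h₂, e⟩ := (isHomLift_iff_eqToHom _ _).1 hl
    obtain ⟨i, -, -⟩ := exists_vert_iso_of_lifts hY.1 g l h₁.symm (by simp [e])
    obtain ⟨x₁, k, hx₁, -⟩ := exists_lift' hF' (x := x) i.hom
    exact ⟨x₁, hx₁⟩
  · have hh : F'.obj x = F'.obj x' := h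
    refine ⟨_, mem_restrictedTopology hY.1 (J.pullback_stable (eqToHom (F'.w_obj x))
      (homSieve_mem hX.1 hG.2 (eqToHom hh) (isVert_eqToHom hh))), ?_⟩
    rintro y₀ g ⟨x₀, φ, ψ, hφ, hψ, e⟩
    obtain ⟨h₁, h₂, eφ⟩ := (isHomLift_iff_eqToHom _ _).1 hφ
    obtain ⟨i, hi, hil⟩ := exists_vert_iso_of_lifts hY.1 g (F'.map φ) (h₁.symm.trans (F'.w_obj x₀).symm)
      (by simp [map_map, eφ])
    obtain ⟨x₁, k, hx₁, hk⟩ := exists_lift' hF' (x := x₀) i.hom
    refine ⟨x₁, k ≫ φ, k ≫ ψ, hx₁, ?_, ?_⟩
    · change F'.map (k ≫ φ) = eqToHom hx₁ ≫ g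
      rw [F'.toFunctor.map_comp, hk, Category.assoc, hil]
    · change F'.map (k ≫ ψ) = eqToHom hx₁ ≫ g ≫ eqToHom hh
      rw [F'.toFunctor.map_comp, ← e, ← hil, hk]
      simp

end Groth.StkGerb
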