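import Groth.Agent.StkGerb.GerbeFL
import Groth.Agent.StkGerb.Over
import Groth.Agent.AlgStDVR.Chart
import Groth.Agent.AlgStBasic.LocQDescend
import Groth.Agent.AlgSpBasic.Topology
import Groth.Agent.AlgStBasic.StCover
import Groth.Agent.AlgStBasic.LocalLift
import Groth.Agent.S0115

/-!
# Gerbes are smooth over their base

Over a member of an fppf family on which the gerbe has a section, a smooth chart of the base change is
receiving an fppf map from a scheme smooth over the member, hence is smooth over it.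
-/

set_option autoImplicit false
set_option backward.isDefEq.respectTransparency false
set_option backward.isDefEq.respectTransparency.types false

universe u

open CategoryTheory CategoryTheory.Limits AlgebraicGeometry
open Groth.StkBase Groth.AlgStBasic Groth.AlgSpBasic

namespace Groth.StkGerb

variable {S : Scheme.{u}} {𝒳 𝒴 : AlgSt.Cat S}

section Section

variable {P : AlgSt.Cat S} {V W V' : Over S}

/-- An fppf section of a stack over a scheme makes every smooth chart of the stack smooth over the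
scheme. -/
theorem smooth_left_of_section (hP : AlgSt.IsAlgStack Scheme.fppfPrecoverage P)
    (G : P ⥤ᵇ FibCat.overCat V) (s : FibCat.overCat V ⥤ᵇ P)
    (es : BasedFunctor.comp s G ≅ BasedFunctor.id _) (w : FibCat.overCat W ⥤ᵇ P) {p : W ⟶ V}
    (ew : BasedFunctor.comp w G ≅ AlgSt.overMap p)
    (hw : AlgSt.RepByAlgSpWith (AlgSp.LocP @Smooth) w)
    (h₁ : AlgSt.RepByAlgSpWith (AlgSp.LocP @Flat) s)
    (h₂ : AlgSt.RepByAlgSpWith (AlgSp.LocP @LocallyOfFinitePresentation) s)
    (h₃ : AlgSt.RepByAlgSpWith AlgSp.IsSurjectiveMor s) : Smooth p.left := by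
  have hW : AlgSt.IsAlgStack Scheme.fppfPrecoverage (FibCat.overCat W : AlgSt.Cat S) :=
    isAlgStack_overCat W
  have hV : AlgSt.IsAlgStack Scheme.fppfPrecoverage (FibCat.overCat V : AlgSt.Cat S) :=
    isAlgStack_overCat V
  have hA := isAlgStack_fp hP.isStack hP.diag hW hV w s
  obtain ⟨Z, z, hz, hzs⟩ := hA.atlas
  obtain ⟨c, ⟨γ⟩⟩ := exists_iso_overMap (BasedFunctor.comp z (FibCat.fpFst w s))
  obtain ⟨d, ⟨δ⟩⟩ := exists_iso_overMap (BasedFunctor.comp z (FibCat.fpSnd w s))
  have hcd : c ≫ p = d :=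
    Groth.AlgStDVR.eq_of_overMap_iso ((Groth.AlgStDVR.overMapComp c p).symm.trans
      ((whiskerRightIso γ.symm _).trans ((whiskerLeftIso _ ew.symm).trans
        ((whiskerRightIso (whiskerLeftIso z (FibCat.fpIso w s)) G).trans
          ((whiskerLeftIso (BasedFunctor.comp z (FibCat.fpSnd w s)) es).trans δ)))))
  have hdS : Smooth d.left :=
    left_prop_of_repWith_overMap (P := @Smooth) (repWith_of_iso δ
      (repWith_comp' (isFibGrpd_overCat Z) hA.isStack.1 stableBaseChange_locP stableComp_locP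
        descendsAlongAtlas_locP hz (repWith_fpSnd w s hw)))
  have : Flat c.left :=
    left_prop_of_repWith_overMap (P := @Flat) (repWith_of_iso γ
      (repWith_comp' (isFibGrpd_overCat Z) hA.isStack.1 stableBaseChange_locP stableComp_locP
        descendsAlongAtlas_locP
        (repWith_locP_of_smooth (P := @Flat) (fun _ _ f (_ : Smooth f) => inferInstance) hz)
        (repWith_fpFst s w h₁)))
  have : LocallyOfFinitePresentation c.left :=
    left_prop_of_repWith_overMap (P := @LocallyOfFinitePresentation) (repWith_of_iso γ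
      (repWith_comp' (isFibGrpd_overCat Z) hA.isStack.1 stableBaseChange_locP stableComp_locP
        descendsAlongAtlas_locP
        (repWith_locP_of_smooth (P := @LocallyOfFinitePresentation)
          (fun _ _ f (_ : Smooth f) => inferInstance) hz)
        (repWith_fpFst s w h₂)))
  have hsp : AlgSt.IsSurjective s :=
    (isSurjective_iff_repWith hV.isStack.1 hP.isStack.1 (repWith_repByAlgSp1 h₃)).2 h₃
  have : Surjective c.left := ⟨fun t => by
    obtain ⟨v, hv⟩ := hsp (AlgSt.Points.ofChart w t)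
    obtain ⟨q, hq, -⟩ := exists_points_fp hV.isStack.1 hP.isStack.1 hW.isStack.1 s w
      (AlgSt.Points.ofChart (BasedFunctor.id _) t) v (by rw [← ofChart_eq_map]; exact hv.symm)
    obtain ⟨r, rfl⟩ := surjective_ofChart hA.isStack.1 hzs q
    refine ⟨r, ?_⟩
    rw [← Groth.AlgStDVR.toPt_ofChart γ r, Groth.AlgStDVR.toPt, hq, ptToScheme_ofChart_id]⟩
  have : Smooth (c.left ≫ p.left) := by
    rw [← Over.comp_left, hcd]; exact hdS
  exact Groth.Agent.S0115.result c.left p.left

/-- A smooth chart of a gerbe over a scheme is smooth over it after base change to a scheme with a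
lift. -/
theorem smooth_pr (hP : AlgSt.IsAlgStack Scheme.fppfPrecoverage P) (F : P ⥤ᵇ FibCat.overCat V)
    (w : FibCat.overCat W ⥤ᵇ P) {k : W ⟶ V} (e₀ : BasedFunctor.comp w F ≅ AlgSt.overMap k)
    (hw : AlgSt.RepByAlgSpWith (AlgSp.LocP @Smooth) w)
    (h₁ : AlgSt.RepByAlgSpWith (AlgSp.LocP @Flat) (FibCat.diag F))
    (h₂ : AlgSt.RepByAlgSpWith (AlgSp.LocP @LocallyOfFinitePresentation) (FibCat.diag F))
    (h₃ : AlgSt.RepByAlgSpWith AlgSp.IsSurjectiveMor (FibCat.diag F))
    (g : V' ⟶ V) (σ : FibCat.overCat V' ⥤ᵇ P)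
    (eσ : BasedFunctor.comp σ F ≅ AlgSt.overMap g) :
    Smooth (pullback.snd k.left g.left) := by
  have hV' : AlgSt.IsAlgStack Scheme.fppfPrecoverage (FibCat.overCat V' : AlgSt.Cat S) :=
    isAlgStack_overCat V'
  have hV : AlgSt.IsAlgStack Scheme.fppfPrecoverage (FibCat.overCat V : AlgSt.Cat S) :=
    isAlgStack_overCat V
  have hQ := isAlgStack_fp hV.isStack hV.diag hV' hP (AlgSt.overMap g) F
  let e : BasedFunctor.comp (BasedFunctor.id (FibCat.overCat V')) (AlgSt.overMap g) ≅
      BasedFunctor.comp σ F := eσ.symm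
  have hs : Smooth (Groth.AlgStDVR.pr g k).left :=
    smooth_left_of_section hQ (FibCat.fpFst (AlgSt.overMap g) F)
      (FibCat.fpLift (BasedFunctor.id _) σ e) (Iso.refl _) (Groth.AlgStDVR.chart g k e₀)
      (p := Groth.AlgStDVR.pr g k) (Iso.refl _) (Groth.AlgStDVR.repWith_chart g k e₀ hw)
      (repWith_graph' σ e h₁) (repWith_graph' σ e h₂) (repWith_graph' σ e h₃)
  have : Smooth (pullback.fst g.left k.left) := hs
  rw [← pullbackSymmetry_hom_comp_fst]
  infer_instance

end Section

/-- A gerbe is smooth over its base. -/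
theorem locQ_smooth_of_isGerbeOver {f : 𝒳 ⥤ᵇ 𝒴} (hX : AlgSt.IsAlgStack Scheme.fppfPrecoverage 𝒳)
    (hY : AlgSt.IsAlgStack Scheme.fppfPrecoverage 𝒴)
    (hf : Gerb.IsGerbeOver (QuotSh.J Scheme.fppfPrecoverage S) f) :
    AlgSt.LocQ (AlgSp.LocP @Smooth) f := by
  obtain ⟨V, y, hy, hys⟩ := hY.atlas
  have hV : AlgSt.IsAlgStack Scheme.fppfPrecoverage (FibCat.overCat V : AlgSt.Cat S) :=
    isAlgStack_overCat V
  have hP := isAlgStack_fp hY.isStack hY.diag hV hX y f
  let F := FibCat.fpFst y f
  have hF : Gerb.IsGerbeOver (QuotSh.J Scheme.fppfPrecoverage S) F :=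
    isGerbeOver_baseChange hP.isStack.1 hX.isStack.1 hY.isStack.1 hV.isStack.1 f y F
      (FibCat.fpSnd y f) (FibCat.fpIso y f)
      (isEquivOver_of_iso (fpIsoMk (Iso.refl _) (Iso.refl _) fun x => by simp) (isEquivOver_id _)) hf
  obtain ⟨W, w, hw, hws⟩ := hP.atlas
  obtain ⟨k, ⟨e₀⟩⟩ := exists_iso_overMap (BasedFunctor.comp w F)
  obtain ⟨h₁, h₂, h₃⟩ := repWith_diag_of_isGerbeOver hP hV hF
  obtain ⟨R, hR, hR'⟩ := exists_lift_of_locSurjObj hP.isStack.1 hV.isStack.1 hF.1 V
    (BasedFunctor.id _)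
  obtain ⟨V', g, hg, hfl, hcov⟩ := exists_family_of_mem hR
  have hmem : Presieve.ofArrows (fun t => (V' t).left) (fun t => (g t).left) ∈
      Scheme.fppfPrecoverage V.left := by
    refine (Scheme.presieve₀_mem_precoverage_iff
      ⟨_, fun t => (V' t).left, fun t => (g t).left⟩).2 ⟨fun v => ?_, fun t => ⟨?_, ?_⟩⟩
    · exact hcov v
    · exact (hfl t).1
    · exact (hfl t).2
  have hk : Smooth k.left := by
    refine (MorphismProperty.IsLocalAtTarget.iff_of_forall_pullbackSnd (P := @Smooth) hmem).2 ?_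
    · rintro Z _ _ ⟨t⟩
      obtain ⟨σ, ⟨eσ⟩⟩ := hR' (g t) (hg t)
      exact smooth_pr hP F w e₀ hw h₁ h₂ h₃ (g t) σ eσ
  exact ⟨W, V, BasedFunctor.comp w (FibCat.fpSnd y f), y, k,
    (whiskerLeftIso w (FibCat.fpIso y f).symm).trans (whiskerRightIso e₀ y),
    repWith_comp' (isFibGrpd_overCat W) hP.isStack.1 stableBaseChange_locP stableComp_locP
      descendsAlongAtlas_locP hw (repWith_fpSnd y f hy),
    repWith_comp' (isFibGrpd_overCat W) hP.isStack.1 stableBaseChange_surjective stableComp_surjective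
      descendsAlongAtlas_surjective hws (repWith_fpSnd y f hys),
    hy, locP_yon_of_left hk⟩

end Groth.StkGerb
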