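import Groth.Agent.StkGerb.SchRetract
import Groth.Agent.AlgStBasic.LocQDescend
import Groth.Agent.AlgStBasic.StCompact
import Groth.Agent.AlgStBasic.LocalLift
import Groth.Agent.AlgStBasic.LocQApps
import Groth.Agent.AlgStBasic.StUniv

/-!
Flatness and local finite presentation of morphisms of algebraic stacks read on scheme charts: retracts
and descent along fppf families.
-/

set_option autoImplicit false
set_option backward.isDefEq.respectTransparency false
set_option backward.isDefEq.respectTransparency.types false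

universe u

open CategoryTheory CategoryTheory.Limits AlgebraicGeometry
open Groth.StkBase Groth.AlgStBasic Groth.AlgSpBasic

namespace Groth.StkGerb

variable {S : Scheme.{u}} {𝒳 𝒴 : AlgSt.Cat S}

/-- Flat and locally of finite presentation, read on charts. -/
def IsFL (f : 𝒳 ⥤ᵇ 𝒴) : Prop :=
  AlgSt.LocQ (AlgSp.LocP @Flat) f ∧ AlgSt.LocQ (AlgSp.LocP @LocallyOfFinitePresentation) f

/-- A property on charts is invariant under isomorphism of functors. -/
theorem locQ_of_iso {P : MorphismProperty (AlgSp.Sp S)} {f g : 𝒳 ⥤ᵇ 𝒴} (α : f ≅ g)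
    (h : AlgSt.LocQ P f) : AlgSt.LocQ P g := by
  obtain ⟨U, V, x, y, a, β, h'⟩ := h
  exact ⟨U, V, x, y, a, (whiskerLeftIso x α).symm.trans β, h'⟩

theorem IsFL.of_iso {f g : 𝒳 ⥤ᵇ 𝒴} (α : f ≅ g) (h : IsFL f) : IsFL g :=
  ⟨locQ_of_iso α h.1, locQ_of_iso α h.2⟩

theorem IsFL.comp {𝒵 : AlgSt.Cat S} {f : 𝒳 ⥤ᵇ 𝒴} {g : 𝒴 ⥤ᵇ 𝒵}
    (hX : AlgSt.IsAlgStack Scheme.fppfPrecoverage 𝒳) (hY : AlgSt.IsAlgStack Scheme.fppfPrecoverage 𝒴)
    (hZ : AlgSt.IsAlgStack Scheme.fppfPrecoverage 𝒵) (hf : IsFL f) (hg : IsFL g) :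
    IsFL (BasedFunctor.comp f g) :=
  ⟨locQ_comp isSmoothLocalST_flat stableComp_locP hX hY hZ hf.1 hg.1,
    locQ_comp isSmoothLocalST_lfp stableComp_locP hX hY hZ hf.2 hg.2⟩

theorem IsFL.fpFst {𝒵 : AlgSt.Cat S} {f : 𝒳 ⥤ᵇ 𝒴}
    (hX : AlgSt.IsAlgStack Scheme.fppfPrecoverage 𝒳) (hY : AlgSt.IsAlgStack Scheme.fppfPrecoverage 𝒴)
    (hZ : AlgSt.IsAlgStack Scheme.fppfPrecoverage 𝒵) (g : 𝒵 ⥤ᵇ 𝒴) (hf : IsFL f) :
    IsFL (FibCat.fpFst g f) :=
  ⟨locQ_fpFst isSmoothLocalST_flat stableBaseChange_locP hX hY hZ g hf.1,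
    locQ_fpFst isSmoothLocalST_lfp stableBaseChange_locP hX hY hZ g hf.2⟩

theorem isFL_of_repWith_smooth {f : 𝒳 ⥤ᵇ 𝒴} (hX : AlgSt.IsAlgStack Scheme.fppfPrecoverage 𝒳)
    (hY : AlgSt.IsAlgStack Scheme.fppfPrecoverage 𝒴) (hf : AlgSt.RepByAlgSpWith (AlgSp.LocP @Smooth) f) :
    IsFL f :=
  ⟨locQ_of_repWith stableBaseChange_locP descendsAlongAtlas_locP isSmoothLocalST_flat hX hY
      (repWith_locP_of_smooth (P := @Flat) (fun _ _ f (_ : Smooth f) => inferInstance) hf),
    locQ_of_repWith stableBaseChange_locP descendsAlongAtlas_locP isSmoothLocalST_lfp hX hY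
      (repWith_locP_of_smooth (P := @LocallyOfFinitePresentation)
        (fun _ _ f (_ : Smooth f) => inferInstance) hf)⟩

theorem isFL_of_repWith {f : 𝒳 ⥤ᵇ 𝒴} (hX : AlgSt.IsAlgStack Scheme.fppfPrecoverage 𝒳)
    (hY : AlgSt.IsAlgStack Scheme.fppfPrecoverage 𝒴) (h₁ : AlgSt.RepByAlgSpWith (AlgSp.LocP @Flat) f)
    (h₂ : AlgSt.RepByAlgSpWith (AlgSp.LocP @LocallyOfFinitePresentation) f) : IsFL f :=
  ⟨locQ_of_repWith stableBaseChange_locP descendsAlongAtlas_locP isSmoothLocalST_flat hX hY h₁,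
    locQ_of_repWith stableBaseChange_locP descendsAlongAtlas_locP isSmoothLocalST_lfp hX hY h₂⟩

theorem IsFL.repWith {f : 𝒳 ⥤ᵇ 𝒴} (hX : AlgSt.IsAlgStack Scheme.fppfPrecoverage 𝒳)
    (hY : AlgSt.IsAlgStack Scheme.fppfPrecoverage 𝒴) (hf : AlgSt.RepByAlgSp1 f) (h : IsFL f) :
    AlgSt.RepByAlgSpWith (AlgSp.LocP @Flat) f ∧
      AlgSt.RepByAlgSpWith (AlgSp.LocP @LocallyOfFinitePresentation) f :=
  ⟨repWith_of_locQ stableBaseChange_locP (isLocalOnBase_fppf_locP _) isSmoothLocalST_flat hX hY hf h.1,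
    repWith_of_locQ stableBaseChange_locP (isLocalOnBase_fppf_locP _) isSmoothLocalST_lfp hX hY hf h.2⟩

/-- A functor between slices is given by a morphism. -/
theorem exists_overMap_iso {U V : Over S} (Φ : FibCat.overCat U ⥤ᵇ (FibCat.overCat V : AlgSt.Cat S)) :
    ∃ k : U ⟶ V, Nonempty (Φ ≅ AlgSt.overMap k) := by
  refine ⟨eqToHom (Φ.w_obj (idObj U)).symm ≫ (Φ.obj (idObj U)).hom,
    (nonempty_overIso_iff (isFibGrpd_overCat V) _ _).2
      ⟨Over.homMk (eqToHom (Φ.w_obj (idObj U))) ?_, Φ.w_obj (idObj U), rfl⟩⟩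
  show eqToHom _ ≫ 𝟙 U ≫ _ = _
  simp

/-- Morphisms with isomorphic functors between slices are equal. -/
theorem eq_of_overMap_iso {U V : Over S} {k k' : U ⟶ V} (α : AlgSt.overMap k ≅ AlgSt.overMap k') :
    k = k' := by
  have h1 := Over.w (isoApp α (idObj U)).hom
  have h2 := (isVert_isoApp α (idObj U)).map_eq
  have h3 : (isoApp α (idObj U)).hom.left = 𝟙 U := h2
  rw [h3] at h1
  simpa [AlgSt.overMap] using h1.symm

theorem left_prop_of_repWith_overMap {P : MorphismProperty Scheme.{u}} [EtaleLocal P] {U V : Over S}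
    {k : U ⟶ V} (h : AlgSt.RepByAlgSpWith (AlgSp.LocP P) (AlgSt.overMap k)) : P k.left := by
  refine left_prop_of_locP_yon ?_
  let e : AlgSt.ofSch U ⥤ᵇ FibCat.fp (BasedFunctor.id (FibCat.overCat V)) (AlgSt.overMap k) :=
    BasedFunctor.comp (AlgSt.toOverCat U)
      (FibCat.fpLift (AlgSt.overMap k) (BasedFunctor.id _) (Iso.refl _))
  have he : FibCat.IsEquivOver e := by
    refine isEquivOver_comp (isEquivOver_toOverCat U) ?_
    refine ⟨FibCat.fpSnd (BasedFunctor.id (FibCat.overCat V)) (AlgSt.overMap k), ⟨Iso.refl _⟩,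
      ⟨fpIsoMk (FibCat.fpIso (BasedFunctor.id (FibCat.overCat V)) (AlgSt.overMap k)).symm (Iso.refl _)
        fun x => ?_⟩⟩
    simp
  have := prop_of_repWith_fp stableBaseChange_locP h (BasedFunctor.id _)
    ((AlgSp.ofScheme S).obj U) e he
  rw [← spMapOfOver_toOverCat k]
  exact this

theorem IsFL.left_prop {U V : Over S} {k : U ⟶ V} (h : IsFL (AlgSt.overMap k)) :
    Flat k.left ∧ LocallyOfFinitePresentation k.left := by
  obtain ⟨h₁, h₂⟩ := h.repWith (isAlgStack_overCat U) (isAlgStack_overCat V)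
    (repByAlgSp1_of_repByAlgSp (repByAlgSp_overCat U) (repByAlgSp_overCat V) _)
  exact ⟨left_prop_of_repWith_overMap h₁, left_prop_of_repWith_overMap h₂⟩

theorem isFL_overMap {U V : Over S} {k : U ⟶ V} (h₁ : Flat k.left)
    (h₂ : LocallyOfFinitePresentation k.left) : IsFL (AlgSt.overMap k) :=
  isFL_of_repWith (isAlgStack_overCat U) (isAlgStack_overCat V) (repWith_overMap k h₁)
    (repWith_overMap k h₂)

/-- A functor to a scheme is flat and lfp if it is so on a smooth atlas. -/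
theorem isFL_of_atlas {U V : Over S} {φ : 𝒳 ⥤ᵇ FibCat.overCat V} {x : FibCat.overCat U ⥤ᵇ 𝒳}
    (hx : AlgSt.RepByAlgSpWith (AlgSp.LocP @Smooth) x)
    (hxs : AlgSt.RepByAlgSpWith AlgSp.IsSurjectiveMor x) {k : U ⟶ V}
    (α : BasedFunctor.comp x φ ≅ AlgSt.overMap k) (h₁ : Flat k.left)
    (h₂ : LocallyOfFinitePresentation k.left) : IsFL φ := by
  have hid : AlgSt.RepByAlgSpWith (AlgSp.LocP @Smooth) (BasedFunctor.id (FibCat.overCat V : AlgSt.Cat S)) := by
    refine repWith_of_iso ?_ (repWith_overMap (P := @Smooth) (𝟙 V) (inferInstanceAs (Smooth (𝟙 V.left))))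
    exact (nonempty_overIso_iff (isFibGrpd_overCat V) _ _).2
      ⟨eqToHom (show Over.mk (𝟙 V ≫ 𝟙 V) = idObj V by rw [Category.comp_id]), isVert_eqToHom _⟩ |>.some
  exact ⟨⟨U, V, x, BasedFunctor.id _, k, α, hx, hxs, hid, locP_yon_of_left h₁⟩,
    ⟨U, V, x, BasedFunctor.id _, k, α, hx, hxs, hid, locP_yon_of_left h₂⟩⟩

/-- If an algebraic stack over `W` with a section is flat and lfp over `U`, so is `W`. -/
theorem flat_lfp_of_section_stack {W U : Over S} (hX : AlgSt.IsAlgStack Scheme.fppfPrecoverage 𝒳)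
    (φ : 𝒳 ⥤ᵇ FibCat.overCat W) (σ : FibCat.overCat W ⥤ᵇ 𝒳)
    (e : BasedFunctor.comp σ φ ≅ BasedFunctor.id _) (k : W ⟶ U)
    (h : IsFL (BasedFunctor.comp φ (AlgSt.overMap k))) :
    Flat k.left ∧ LocallyOfFinitePresentation k.left := by
  obtain ⟨Q₀, π, hπ, hπs⟩ := hX.atlas
  obtain ⟨m, ⟨μ⟩⟩ := exists_overMap_iso (BasedFunctor.comp π φ)
  obtain ⟨W', c, a, hc, hcs, ⟨β⟩⟩ := exists_smooth_cover_lift hπ hπs σ
  have hm : Flat (m ≫ k).left ∧ LocallyOfFinitePresentation (m ≫ k).left := by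
    refine IsFL.left_prop (IsFL.of_iso ?_ ((isFL_of_repWith_smooth (isAlgStack_overCat _) hX hπ).comp
      (isAlgStack_overCat _) hX (isAlgStack_overCat _) h))
    exact (whiskerRightIso μ (AlgSt.overMap k)).trans (nonempty_overMap_comp_iso m k).some
  have he : a ≫ m = c := by
    have e₁ : BasedFunctor.comp (AlgSt.overMap a) (AlgSt.overMap m) ≅ AlgSt.overMap c :=
      ((whiskerLeftIso (AlgSt.overMap a) μ).symm.trans (whiskerRightIso β φ)).trans
        (whiskerLeftIso (AlgSt.overMap c) e)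
    exact eq_of_overMap_iso ((nonempty_overMap_comp_iso a m).some.symm.trans e₁)
  have he' : a.left ≫ m.left = c.left := by rw [← Over.comp_left, he]
  let p := pullback.fst c.left m.left
  have hp : p ≫ c.left ≫ k.left = pullback.snd c.left m.left ≫ (m ≫ k).left := by
    rw [pullback.condition_assoc, Over.comp_left]
  have := hm.1
  have := hm.2
  have : Flat (p ≫ c.left ≫ k.left) := by rw [hp]; infer_instance
  have : LocallyOfFinitePresentation (p ≫ c.left ≫ k.left) := by rw [hp]; infer_instance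
  let s : W'.left ⟶ pullback c.left m.left := pullback.lift (𝟙 _) a.left (by rw [Category.id_comp, he'])
  have hs : s ≫ p = 𝟙 _ := pullback.lift_fst _ _ _
  have : Flat (c.left ≫ k.left) := flat_of_section p s hs _
  have : LocallyOfFinitePresentation (c.left ≫ k.left) := lfp_of_section p s hs _
  exact ⟨Groth.FlatMor2.flat_of_comp_surjective c.left k.left,
    Groth.GitQuot.FppfSource.locallyOfFinitePresentation_of_fppf c.left k.left⟩

/-- A morphism of schemes is flat and lfp if, after pullback along the members of a family which is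
jointly surjective, flat and lfp over the target, it is so over the target. -/
theorem flat_lfp_of_base_family {ι : Type u} {X U : Over S} (E : ι → Over S) (k : ∀ i, E i ⟶ U)
    (hk : ∀ i, Flat (k i).left ∧ LocallyOfFinitePresentation (k i).left)
    (hks : ∀ u : ↥U.left, ∃ (i : ι) (t : ↥(E i).left), (k i).left t = u) (g : X ⟶ U)
    (h : ∀ i, Flat (pullback.snd g.left (k i).left ≫ (k i).left) ∧
      LocallyOfFinitePresentation (pullback.snd g.left (k i).left ≫ (k i).left)) :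
    Flat g.left ∧ LocallyOfFinitePresentation g.left := by
  refine flat_lfp_of_family (fun i => pullback g.left (k i).left) (fun i => pullback.fst _ _)
    (fun i => ?_) (fun x => ?_) g.left (fun i => by rw [pullback.condition]; exact h i)
  · have := (hk i).1
    have := (hk i).2
    exact ⟨inferInstance, inferInstance⟩
  · obtain ⟨i, t, ht⟩ := hks (g.left x)
    obtain ⟨z, hz, -⟩ := Scheme.Pullback.exists_preimage_pullback x t ht.symm
    exact ⟨i, z, hz⟩

end Groth.StkGerb
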