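import Groth.Agent.StkGerb.AutRepFp
import Groth.Agent.StkGerb.ChartFL
import Groth.Agent.AlgStBasic.DiagCalc
import Groth.Agent.AlgStBasic.LocalLift
import Groth.Agent.StkGerb.Band
import Groth.Agent.S3020
import Groth.Prelude.Def_AlgSp3

/-!
# Stabilizers of points, as base changes of the diagonal
-/

set_option autoImplicit false
set_option backward.isDefEq.respectTransparency false
set_option backward.isDefEq.respectTransparency.types false

universe u

open CategoryTheory CategoryTheory.Limits AlgebraicGeometry Opposite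

namespace Groth.StkGerb

open Groth.StkBase Groth.AlgStBasic

variable {S : Scheme.{u}} {𝒳 : AlgSt.Cat S}

theorem stableBaseChange_isQuasiAffineMor :
    StableBaseChange (AlgSp.IsQuasiAffineMor (S := S)) := by
  intro X₁ Y₁ X₂ Y₂ _ _ _ _ a b a' b' sq ha Z hZ g
  obtain ⟨W, i, fst, sq', hW⟩ := ha hZ (g ≫ b)
  refine ⟨W, i, sq.lift fst ((AlgSp.yon S).map i ≫ g) (by rw [sq'.w, Category.assoc]), ?_, hW⟩
  refine IsPullback.of_right ?_ (sq.lift_snd _ _ _) sq
  rw [sq.lift_fst]
  exact sq'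

section Transport

variable {U : Over S} (x : FibCat.overCat U ⥤ᵇ 𝒳)

/-- The base change of the stack to the scheme of the point. -/
abbrev ptBC (U : Over S) (𝒳 : AlgSt.Cat S) : AlgSt.Cat S :=
  FibCat.fp (FibCat.toSelf (FibCat.overCat U : AlgSt.Cat S)) (FibCat.toSelf 𝒳)

/-- The point, as a section of the base change. -/
noncomputable def ptSec : FibCat.overCat U ⥤ᵇ ptBC U 𝒳 :=
  FibCat.fpLift (BasedFunctor.id _) x (selfIso _ _)

theorem fst_eq_id {t : (ptBC U 𝒳).obj} (δ : Gerb.AutO t) : δ.hom.1.hom.fst = 𝟙 t.obj.fst := by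
  refine Over.OverMorphism.ext ?_
  exact (isVert_of_isHomLift (p := (ptBC U 𝒳).p) δ.hom.2).map_eq.trans (eqToHom_refl _ _)

theorem autMap_fpSnd_bijective (hX : FibCat.IsFibGrpd 𝒳.p) (t : (ptBC U 𝒳).obj) :
    Function.Bijective (Gerb.autMap (FibCat.fpSnd (FibCat.toSelf (FibCat.overCat U : AlgSt.Cat S))
      (FibCat.toSelf 𝒳)) t) := by
  have hfix : ∀ δ : Gerb.AutO t, δ.hom.1.hom.fst = 𝟙 t.obj.fst := fst_eq_id
  constructor
  · intro α β h
    refine Band.autO_ext (fp_hom_ext ((hfix α).trans (hfix β).symm) ?_)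
    exact congrArg (fun γ => γ.hom.1) h
  · intro γ
    have hv : ∀ (c : t.obj.snd ⟶ t.obj.snd), 𝒳.p.IsHomLift (𝟙 (𝒳.p.obj t.obj.snd)) c →
        (FibCat.toSelf (FibCat.overCat U : AlgSt.Cat S)).map (𝟙 t.obj.fst) ≫ t.obj.iso.hom =
          t.obj.iso.hom ≫ (FibCat.toSelf 𝒳).map c := by
      intro c hc
      show (𝟙 t.obj.fst : t.obj.fst ⟶ _).left ≫ t.obj.iso.hom = t.obj.iso.hom ≫ 𝒳.p.map c
      rw [(isVert_of_isHomLift (p := 𝒳.p) hc).map_eq]
      exact (Category.id_comp _).trans (Category.comp_id _).symm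
    let f : t ⟶ t := fpHom (𝟙 t.obj.fst) γ.hom.1 (hv _ γ.hom.2)
    let f' : t ⟶ t := fpHom (𝟙 t.obj.fst) γ.inv.1 (hv _ γ.inv.2)
    have hf : (ptBC U 𝒳).p.IsHomLift (𝟙 ((ptBC U 𝒳).p.obj t)) f :=
      (isHomLift_iff_eqToHom _ _).2 ⟨rfl, rfl, by simp [f]; rfl⟩
    have hf' : (ptBC U 𝒳).p.IsHomLift (𝟙 ((ptBC U 𝒳).p.obj t)) f' :=
      (isHomLift_iff_eqToHom _ _).2 ⟨rfl, rfl, by simp [f']; rfl⟩
    refine ⟨{ hom := ⟨f, hf⟩
              inv := ⟨f', hf'⟩
              hom_inv_id := Functor.Fiber.hom_ext (fp_hom_ext (Category.comp_id _)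
                (congrArg Subtype.val γ.hom_inv_id))
              inv_hom_id := Functor.Fiber.hom_ext (fp_hom_ext (Category.comp_id _)
                (congrArg Subtype.val γ.inv_hom_id)) }, Band.autO_ext rfl⟩

/-- The automorphisms of the section are those of the point. -/
noncomputable def autRepSec (hX : FibCat.IsFibGrpd 𝒳.p) {A : (Over U)ᵒᵖ ⥤ GrpCat.{u}}
    (r : Gerb.AutRep x A) : Gerb.AutRep (ptSec x) A where
  iso T := (r.iso T).trans
    (MulEquiv.ofBijective (Gerb.autMap _ ((ptSec x).obj T)) (autMap_fpSnd_bijective hX _)).symm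
  natural {T' T} h a := by
    have e : ∀ (T : Over U) (a : A.obj (op T)),
        ((MulEquiv.ofBijective (Gerb.autMap _ ((ptSec x).obj T)) (autMap_fpSnd_bijective hX _)).symm
          (r.iso T a)).hom.1.hom.snd = (r.iso T a).hom.1 := fun T a =>
      congrArg (fun γ => γ.hom.1) ((MulEquiv.ofBijective (Gerb.autMap _ ((ptSec x).obj T))
        (autMap_fpSnd_bijective hX _)).apply_symm_apply (r.iso T a))
    refine fp_hom_ext ?_ ?_
    · exact ((congrArg (fun m => m ≫ h) (fst_eq_id _)).trans (Category.id_comp h)).trans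
        ((congrArg (fun m => h ≫ m) (fst_eq_id _)).trans (Category.comp_id h)).symm
    · change _ ≫ x.map h = x.map h ≫ _
      erw [e, e]
      exact r.natural h a

end Transport

/-- The stabilizer is a base change of the diagonal. -/
theorem repWith_toBaseHom_of_diag {P : MorphismProperty (AlgSp.Sp S)}
    (hX : FibCat.IsFibGrpd 𝒳.p)
    (h : AlgSt.RepByAlgSpWith P (FibCat.diag (FibCat.toSelf 𝒳))) {U : Over S}
    (x : FibCat.overCat U ⥤ᵇ 𝒳) (G : Over U.left) [GrpObj G]
    (r : Gerb.AutRep x (Gerb.ptsGrp U G)) :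
    AlgSt.RepByAlgSpWith P (AlgSt.overMap (toBaseHom U G)) := by
  let π := FibCat.fpFst (FibCat.toSelf (FibCat.overCat U : AlgSt.Cat S)) (FibCat.toSelf 𝒳)
  let ex : BasedFunctor.comp (ptSec x) π ≅ BasedFunctor.id (FibCat.overCat U) := Iso.refl _
  obtain ⟨Φ, hΦ, eΦ⟩ := exists_equiv_selfInter (ptSec x)
    (isFibGrpd_fp (isFibGrpd_overCat U) hX Groth.StkBase.isFibGrpd_selfOver) π ex G (autRepSec x hX r)
  have k := (repWith_precomp_equiv hΦ _).2
    (repWith_fpFst (ptSec x) (ptSec x)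
      (repWith_section_of_diag (ptSec x) ex (repWith_diag_fpFst _ h)))
  rwa [eΦ] at k

theorem isQuasiAffine_of_repWith_overMap {V U : Over S} {k : V ⟶ U} [IsAffine U.left]
    (h : AlgSt.RepByAlgSpWith AlgSp.IsQuasiAffineMor (AlgSt.overMap k)) :
    V.left.IsQuasiAffine := by
  let e : AlgSt.ofSch V ⥤ᵇ FibCat.fp (BasedFunctor.id (FibCat.overCat U)) (AlgSt.overMap k) :=
    BasedFunctor.comp (AlgSt.toOverCat V)
      (FibCat.fpLift (AlgSt.overMap k) (BasedFunctor.id _) (Iso.refl _))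
  have he : FibCat.IsEquivOver e := by
    refine isEquivOver_comp (isEquivOver_toOverCat V) ?_
    refine ⟨FibCat.fpSnd (BasedFunctor.id (FibCat.overCat U)) (AlgSt.overMap k), ⟨Iso.refl _⟩,
      ⟨fpIsoMk (FibCat.fpIso (BasedFunctor.id (FibCat.overCat U)) (AlgSt.overMap k)).symm (Iso.refl _)
        fun x => ?_⟩⟩
    simp
  have hk := prop_of_repWith_fp stableBaseChange_isQuasiAffineMor h (BasedFunctor.id _)
    ((AlgSp.ofScheme S).obj V) e he
  have hk' : AlgSp.IsQuasiAffineMor ((AlgSp.yon S).map k) := by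
    rw [← spMapOfOver_toOverCat k]
    exact hk
  obtain ⟨W, i, fst, sq, hW⟩ := hk' inferInstance (𝟙 ((AlgSp.yon S).obj U))
  have : IsIso fst := sq.isIso_fst_of_isIso
  obtain ⟨f, hf⟩ := (AlgSp.yon S).map_surjective (inv fst)
  have : IsIso ((AlgSp.yon S).map f) := by rw [hf]; infer_instance
  have : IsIso f := isIso_of_reflects_iso f (AlgSp.yon S)
  have : IsIso f.left := inferInstanceAs (IsIso ((Over.forget S).map f))
  have : CompactSpace W.left := hW.toCompactSpace
  have : CompactSpace V.left := (asIso f.left).hom.homeomorph.symm.compactSpace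
  exact Scheme.IsQuasiAffine.of_isImmersion f.left

end Groth.StkGerb
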