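import Groth.Agent.StkGerb.Over
import Groth.Agent.AlgStBasic.LocQApps
import Groth.Agent.AlgStBasic.StCompact
import Groth.Agent.AlgStBasic.LocalLift

/-!
Surjective, flat, locally finitely presented morphisms of algebraic stacks are locally surjective on
objects for the fppf topology.
-/

set_option autoImplicit false
set_option backward.isDefEq.respectTransparency false
set_option backward.isDefEq.respectTransparency.types false

universe u

open CategoryTheory AlgebraicGeometry
open Groth.StkBase Groth.AlgStBasic Groth.AlgSpBasic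

namespace Groth.StkGerb

variable {S : Scheme.{u}} {𝒳 𝒴 : AlgSt.Cat S}

/-- A surjective flat lfp morphism of algebraic stacks is fppf locally surjective on objects. -/
theorem locSurjObj_of_surjective_flat_lfp (hX : AlgSt.IsAlgStack Scheme.fppfPrecoverage 𝒳)
    (hY : AlgSt.IsAlgStack Scheme.fppfPrecoverage 𝒴) {g : 𝒳 ⥤ᵇ 𝒴}
    (h₁ : AlgSt.IsSurjective g) (h₂ : AlgSt.LocQ (AlgSp.LocP @Flat) g)
    (h₃ : AlgSt.LocQ (AlgSp.LocP @LocallyOfFinitePresentation) g) :
    Gerb.LocSurjObj (QuotSh.J Scheme.fppfPrecoverage S) g := by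
  obtain ⟨U, V, x, y, a, α, hx, hxs, hy, -, hP⟩ := exists_scheme_square hX hY g
  have ha₁ : Flat a.left := left_prop_of_locP_yon ((hP isSmoothLocalST_flat).1 h₂)
  have ha₂ : LocallyOfFinitePresentation a.left := left_prop_of_locP_yon ((hP isSmoothLocalST_lfp).1 h₃)
  let w := BasedFunctor.comp (AlgSt.overMap a) y
  have hw₁ : AlgSt.RepByAlgSpWith (AlgSp.LocP @Flat) w :=
    repWith_comp' (isFibGrpd_overCat _) (isFibGrpd_overCat _) stableBaseChange_locP stableComp_locP
      descendsAlongAtlas_locP (repWith_overMap (P := @Flat) a ha₁)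
      (repWith_locP_of_smooth (P := @Flat) (fun _ _ f (_ : Smooth f) => inferInstance) hy)
  have hw₂ : AlgSt.RepByAlgSpWith (AlgSp.LocP @LocallyOfFinitePresentation) w :=
    repWith_comp' (isFibGrpd_overCat _) (isFibGrpd_overCat _) stableBaseChange_locP stableComp_locP
      descendsAlongAtlas_locP (repWith_overMap (P := @LocallyOfFinitePresentation) a ha₂)
      (repWith_locP_of_smooth (P := @LocallyOfFinitePresentation) (fun _ _ f (_ : Smooth f) => inferInstance) hy)
  have hw₃ : AlgSt.RepByAlgSpWith AlgSp.IsSurjectiveMor w := by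
    refine repWith_surjective_of_range hY.isStack.1 (repWith_repByAlgSp1 hw₁) fun z => ?_
    obtain ⟨z', rfl⟩ := h₁ z
    obtain ⟨t, rfl⟩ := surjective_ofChart hX.isStack.1 hxs z'
    refine ⟨t, ?_⟩
    rw [show AlgSt.Points.ofChart w = AlgSt.Points.ofChart (BasedFunctor.comp x g) from
      (ofChart_eq_of_iso α).symm]
    rfl
  intro y₀
  let Y₀ := overFunctor hY.isStack.1 y₀ (U := 𝒴.p.obj y₀) rfl
  obtain ⟨R, hR, hR'⟩ := exists_lift_of_fppf_surjective hw₁ hw₂ hw₃ (𝒴.p.obj y₀) Y₀
  obtain ⟨i, hi⟩ := overFunctor_eval hY.isStack.1 y₀ (U := 𝒴.p.obj y₀) rfl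
  refine ⟨R, hR, fun T f hf => ?_⟩
  obtain ⟨z, ⟨β⟩⟩ := hR' f hf
  let γ := (whiskerLeftIso z α).trans β
  let c : g.obj (x.obj (z.obj (idObj T))) ⟶ (BasedFunctor.comp (AlgSt.overMap f) Y₀).obj (idObj T) :=
    (isoApp γ (idObj T)).hom
  refine ⟨x.obj (z.obj (idObj T)), c ≫ overPostMapHom f Y₀ ≫ i.hom, ?_⟩
  refine IsHomLift.of_fac' _ _ _
    ((g.w_obj _).trans ((x.w_obj _).trans (z.w_obj _))) rfl ?_
  rw [Functor.map_comp, Functor.map_comp, (isVert_isoApp γ (idObj T)).map_eq, overPostMapHom_p, hi.map_eq]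
  simp

end Groth.StkGerb
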