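import Groth.Prelude.Def_StGerb2
import Groth.Agent.StkBase.FibProd
import Groth.Agent.StkBase.Yoneda
import Groth.Prelude.Def_AlgSt3

/-!
For a section `x` of a morphism to a scheme, a scheme representing the automorphisms of `x` represents
the self-intersection of `x`.
-/

set_option autoImplicit false
set_option backward.isDefEq.respectTransparency false
set_option backward.isDefEq.respectTransparency.types false

universe u

open CategoryTheory AlgebraicGeometry Opposite
open Groth.StkBase

namespace Groth.StkGerb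

variable {S : Scheme.{u}} {U : Over S} {𝒳 : AlgSt.Cat S}

/-- A scheme over `U` as a scheme over `S`. -/
abbrev toBase (U : Over S) (G : Over U.left) : Over S := Over.mk (G.hom ≫ U.hom)

/-- Its structure morphism to `U`. -/
abbrev toBaseHom (U : Over S) (G : Over U.left) : toBase U G ⟶ U := Over.homMk G.hom

theorem exists_equiv_selfInter (x : FibCat.overCat U ⥤ᵇ 𝒳) (hX : FibCat.IsFibGrpd 𝒳.p)
    (π : 𝒳 ⥤ᵇ FibCat.overCat U) (ex : BasedFunctor.comp x π ≅ BasedFunctor.id (FibCat.overCat U))
    (G : Over U.left) [GrpObj G] (r : Gerb.AutRep x (Gerb.ptsGrp U G)) :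
    ∃ Φ : FibCat.overCat (toBase U G) ⥤ᵇ FibCat.fp x x,
      FibCat.IsEquivOver Φ ∧
        BasedFunctor.comp Φ (FibCat.fpFst x x) = AlgSt.overMap (toBaseHom U G) := by
  let P := toBaseHom U G
  let T : (FibCat.overCat (toBase U G)).obj → (FibCat.overCat U).obj := fun g => (Over.map P).obj g
  -- the point of `G` underlying an object
  let pt : ∀ g : (FibCat.overCat (toBase U G)).obj, (Gerb.ptsGrp U G).obj (op (T g)) :=
    fun g => Over.homMk g.hom.left (by
      show g.hom.left ≫ G.hom = (g.hom ≫ P).left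
      rfl)
  let α : ∀ g, Gerb.AutO (x.obj (T g)) := fun g => r.iso (T g) (pt g)
  let ι : ∀ g, x.obj (T g) ≅ x.obj (T g) := fun g =>
    (Functor.Fiber.fiberInclusion (p := 𝒳.p) (S := 𝒳.p.obj (x.obj (T g)))).mapIso (α g)
  have hι : ∀ g, IsVert 𝒳.p (ι g).hom := fun g => isVert_of_isHomLift (α g).hom.2
  have hnat : ∀ {g g'} (φ : g ⟶ g'), x.map ((Over.map P).map φ) ≫ (ι g').hom
      = (ι g).hom ≫ x.map ((Over.map P).map φ) := by
    intro g g' φ
    have h := r.natural ((Over.map P).map φ) (pt g')
    have e : (Gerb.ptsGrp U G).map ((Over.map P).map φ).op (pt g') = pt g := by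
      apply Over.OverMorphism.ext
      show φ.left.left ≫ g'.hom.left = g.hom.left
      rw [← Over.comp_left, Over.w φ]
    rw [e] at h
    exact h.symm
  let Φ : FibCat.overCat (toBase U G) ⥤ᵇ FibCat.fp x x :=
    FibCat.fpLift (AlgSt.overMap P) (AlgSt.overMap P)
      (isoMk (fun g => ι g) (fun φ => hnat φ) hι)
  refine ⟨Φ, ?_, rfl⟩
  have hΦ : ∀ g, (Φ.obj g).obj.iso.hom = (ι g).hom := fun g => rfl
  refine isEquivOver_of_fullyFaithful Φ ⟨fun {g g'} φ => ?_⟩ ⟨fun {g g'} φ ψ h => ?_⟩ (fun y => ?_)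
  · have hs : φ.hom.snd = φ.hom.fst := by
      apply Over.OverMorphism.ext
      have := fp_map_snd φ
      simp only [eqToHom_refl, Category.id_comp, Category.comp_id] at this
      exact this
    let a : T g ⟶ T g' := φ.hom.fst
    have w : x.map a ≫ (ι g').hom = (ι g).hom ≫ x.map a := by
      have := φ.hom.w
      rw [hs] at this
      exact this
    let q := (Gerb.ptsGrp U G).map a.op (pt g')
    have hq : (r.iso (T g) q).hom.1 ≫ x.map a = x.map a ≫ (ι g').hom := r.natural a (pt g')
    have hv : IsVert 𝒳.p (r.iso (T g) q).hom.1 := isVert_of_isHomLift (r.iso (T g) q).hom.2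
    have he : (r.iso (T g) q).hom.1 = (ι g).hom := by
      refine hom_eq_of_comp_eq hX (x.map a) ?_ (hq.trans w)
      rw [hv.map_eq, (hι g).map_eq]
    have hqg : q = pt g := (r.iso (T g)).injective (Aut.ext (Functor.Fiber.hom_ext he))
    have hw : a.left ≫ g'.hom = g.hom := by
      apply Over.OverMorphism.ext
      exact congrArg (fun z : Over.mk _ ⟶ G => z.left) hqg
    exact ⟨Over.homMk a.left hw, fp_hom_ext (Over.OverMorphism.ext rfl)
      (by rw [hs]; exact Over.OverMorphism.ext rfl)⟩
  · exact Over.OverMorphism.ext (congrArg (fun t => t.hom.fst.left) h)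
  · let a := y.obj.fst
    let b := y.obj.snd
    let i : x.obj a ≅ x.obj b := y.obj.iso
    have hi : IsVert 𝒳.p i.hom := fp_isVert y
    let m : a ≅ b := (isoApp ex a).symm ≪≫ π.toFunctor.mapIso i ≪≫ isoApp ex b
    have hm : IsVert (FibCat.overCat U).p m.hom :=
      (isVert_isoApp ex a).inv.comp ((isVert_map hi).comp (isVert_isoApp ex b))
    have hxm : IsVert 𝒳.p (x.map m.inv) := isVert_map hm.inv
    have hh : IsVert 𝒳.p (i.hom ≫ x.map m.inv) := hi.comp hxm
    let j : x.obj a ≅ x.obj a := i ≪≫ x.toFunctor.mapIso m.symm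
    let au : Gerb.AutO (x.obj a) :=
      { hom := ⟨j.hom, (show IsVert 𝒳.p j.hom from hh).isHomLift rfl⟩
        inv := ⟨j.inv, (IsVert.inv (φ := j) hh).isHomLift rfl⟩
        hom_inv_id := Functor.Fiber.hom_ext j.hom_inv_id
        inv_hom_id := Functor.Fiber.hom_ext j.inv_hom_id }
    let q : (Gerb.ptsGrp U G).obj (op a) := (r.iso a).symm au
    have hqp : q.left ≫ G.hom = a.hom.left := Over.w q
    let zh : a.left ⟶ toBase U G := Over.homMk q.left (by
      show q.left ≫ G.hom ≫ U.hom = a.left.hom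
      rw [← Category.assoc, hqp]
      exact Over.w a.hom)
    let z : (FibCat.overCat (toBase U G)).obj := Over.mk zh
    let θ : T z ≅ a := Over.isoMk (Iso.refl a.left) (by
      show 𝟙 _ ≫ a.hom = zh ≫ P
      rw [Category.id_comp]
      apply Over.OverMorphism.ext
      exact hqp.symm)
    refine ⟨z, fpObjIso θ (θ ≪≫ m) ?_, ?_⟩
    · have h := r.natural θ.hom q
      have e : (Gerb.ptsGrp U G).map θ.hom.op q = pt z := by
        apply Over.OverMorphism.ext
        show (𝟙 a.left : a.left ⟶ a.left).left ≫ q.left = q.left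
        simp
      rw [e, show r.iso a q = au from (r.iso a).apply_symm_apply au] at h
      have h' : (ι z).hom ≫ x.map θ.hom = x.map θ.hom ≫ i.hom ≫ x.map m.inv := h
      show x.map θ.hom ≫ i.hom = (ι z).hom ≫ x.map (θ.hom ≫ m.hom)
      rw [x.toFunctor.map_comp, reassoc_of% h', ← x.toFunctor.map_comp, Iso.inv_hom_id,
        x.toFunctor.map_id, Category.comp_id]
    · exact ⟨rfl, rfl⟩

end Groth.StkGerb
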