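import Groth.Agent.StkGerb.Surj
import Groth.Agent.AlgStBasic.StTopology
import Groth.Agent.AlgStBasic.PropDescend

/-!
Morphisms which are fppf locally surjective on objects: lifts of charts, surjectivity on points, and the
diagonal of a gerbe.
-/

set_option autoImplicit false
set_option backward.isDefEq.respectTransparency false
set_option backward.isDefEq.respectTransparency.types false

universe u

open CategoryTheory AlgebraicGeometry
open Groth.StkBase Groth.AlgStBasic Groth.AlgSpBasic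

namespace Groth.StkGerb

variable {S : Scheme.{u}} {𝒳 𝒴 𝒵 : AlgSt.Cat S}

/-- Charts lift fppf locally along a morphism which is locally surjective on objects. -/
theorem exists_lift_of_locSurjObj (hX : FibCat.IsFibGrpd 𝒳.p) (hY : FibCat.IsFibGrpd 𝒴.p)
    {g : 𝒳 ⥤ᵇ 𝒴} (hg : Gerb.LocSurjObj (QuotSh.J Scheme.fppfPrecoverage S) g)
    (W : Over S) (y : FibCat.overCat W ⥤ᵇ 𝒴) :
    ∃ R ∈ AlgSp.J S W, ∀ ⦃V : Over S⦄ (h : V ⟶ W), R.arrows h →
      ∃ z : FibCat.overCat V ⥤ᵇ 𝒳,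
        Nonempty (BasedFunctor.comp z g ≅ BasedFunctor.comp (AlgSt.overMap h) y) := by
  obtain ⟨R, hR, hR'⟩ := hg (y.obj (idObj W))
  refine ⟨_, (AlgSp.J S).pullback_stable (eqToHom (y.w_obj (idObj W)).symm) hR, fun V h hh => ?_⟩
  obtain ⟨a, c, hc⟩ := hR' _ hh
  obtain ⟨h₁, h₂, ec⟩ := (isHomLift_iff_eqToHom _ _).1 hc
  have ha : 𝒳.p.obj a = V := (g.w_obj a).symm.trans h₁
  obtain ⟨i, hi⟩ := overFunctor_eval hX a ha
  refine ⟨overFunctor hX a ha, (nonempty_iso_overPostMap_iff hY h y _).2 ⟨g.map i.hom ≫ c, ?_⟩⟩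
  rw [Functor.map_comp, map_map, hi.map_eq, ec]
  simp

/-- Lifts through a composite whose first part is a smooth atlas. -/
theorem exists_lift_comp_atlas {U : Over S} {x : FibCat.overCat U ⥤ᵇ 𝒳}
    (hx : AlgSt.RepByAlgSpWith (AlgSp.LocP @Smooth) x)
    (hxs : AlgSt.RepByAlgSpWith AlgSp.IsSurjectiveMor x)
    (hX : FibCat.IsFibGrpd 𝒳.p) (hY : FibCat.IsFibGrpd 𝒴.p)
    {g : 𝒳 ⥤ᵇ 𝒴} (hg : Gerb.LocSurjObj (QuotSh.J Scheme.fppfPrecoverage S) g)
    (W : Over S) (y : FibCat.overCat W ⥤ᵇ 𝒴) :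
    ∃ R ∈ AlgSp.J S W, ∀ ⦃V : Over S⦄ (h : V ⟶ W), R.arrows h →
      ∃ z : FibCat.overCat V ⥤ᵇ FibCat.overCat U,
        Nonempty (BasedFunctor.comp z (BasedFunctor.comp x g) ≅
          BasedFunctor.comp (AlgSt.overMap h) y) := by
  obtain ⟨R, hR, hR'⟩ := exists_lift_of_locSurjObj hX hY hg W y
  let R₂ : Sieve W :=
    { arrows := fun V h => ∃ z : FibCat.overCat V ⥤ᵇ FibCat.overCat U,
        Nonempty (BasedFunctor.comp z (BasedFunctor.comp x g) ≅ BasedFunctor.comp (AlgSt.overMap h) y)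
      downward_closed := by
        rintro V V' h ⟨z, ⟨α⟩⟩ k
        exact ⟨BasedFunctor.comp (AlgSt.overMap k) z, ⟨(whiskerLeftIso (AlgSt.overMap k) α).trans
          (whiskerRightIso (nonempty_overMap_comp_iso k h).some y)⟩⟩ }
  refine ⟨R₂, (AlgSp.J S).transitive hR R₂ fun V h hh => ?_, fun V h hh => hh⟩
  obtain ⟨z, ⟨α⟩⟩ := hR' h hh
  obtain ⟨R₁, hR₁, hR₁'⟩ := exists_lift_of_fppf_surjective
    (repWith_locP_of_smooth (P := @Flat) (fun _ _ f (_ : Smooth f) => inferInstance) hx)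
    (repWith_locP_of_smooth (P := @LocallyOfFinitePresentation)
      (fun _ _ f (_ : Smooth f) => inferInstance) hx) hxs V z
  refine (AlgSp.J S).superset_covering (fun V' k hk => ?_) hR₁
  obtain ⟨z', ⟨β⟩⟩ := hR₁' k hk
  exact ⟨z', ⟨((whiskerRightIso β g).trans (whiskerLeftIso (AlgSt.overMap k) α)).trans
    (whiskerRightIso (nonempty_overMap_comp_iso k h).some y)⟩⟩

/-- A covering sieve gives an fppf family of its members. -/
theorem exists_family_of_mem {W : Over S} {R : Sieve W} (hR : R ∈ AlgSp.J S W) :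
    ∃ (V : ↥W.left → Over S) (i : ∀ t, V t ⟶ W), (∀ t, R (i t)) ∧
      (∀ t, Flat (i t).left ∧ LocallyOfFinitePresentation (i t).left) ∧
      ∀ t : ↥W.left, ∃ (s : ↥W.left) (v : ↥(V s).left), (i s).left v = t := by
  obtain ⟨V, i, hi, hcov⟩ := exists_fppfCover_of_mem hR
  refine ⟨V, i, hi, fun t => ⟨left_prop_of_locP_yon (hcov.1 t).1, left_prop_of_locP_yon (hcov.1 t).2⟩,
    fun t => ?_⟩
  obtain ⟨s, z, hz⟩ := hcov.2 (AlgSp.Points.schemeHomeo W t)
  obtain ⟨v, rfl⟩ := (AlgSp.Points.schemeHomeo (V s)).surjective z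
  exact ⟨s, v, (AlgSp.Points.schemeHomeo W).injective
    ((AlgSp.Points.map_yon_map_apply _ _).symm.trans hz)⟩

/-- Local surjectivity on objects implies surjectivity on points. -/
theorem isSurjective_of_locSurjObj (hX : FibCat.IsFibGrpd 𝒳.p) (hY : FibCat.IsFibGrpd 𝒴.p)
    {g : 𝒳 ⥤ᵇ 𝒴} (hg : Gerb.LocSurjObj (QuotSh.J Scheme.fppfPrecoverage S) g) :
    AlgSt.IsSurjective g := fun p => by
  obtain ⟨T, -, y, t, rfl, -⟩ := exists_chart_through hY p
  obtain ⟨R, hR, hR'⟩ := exists_lift_of_locSurjObj hX hY hg T y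
  obtain ⟨V, i, hi, -, hs⟩ := exists_family_of_mem hR
  obtain ⟨s, v, rfl⟩ := hs t
  obtain ⟨z, ⟨α⟩⟩ := hR' (i s) (hi s)
  refine ⟨AlgSt.Points.ofChart z v, ?_⟩
  rw [← ofChart_overMap (i s) y v, ← ofChart_eq_of_iso α]
  rfl

/-- The diagonal of a gerbe is locally surjective on objects. -/
theorem locSurjObj_diag (hX : FibCat.IsFibGrpd 𝒳.p) {f : 𝒳 ⥤ᵇ 𝒴}
    (hf : Gerb.LocSurjHom (QuotSh.J Scheme.fppfPrecoverage S) f) :
    Gerb.LocSurjObj (QuotSh.J Scheme.fppfPrecoverage S) (FibCat.diag f) := by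
  intro p
  obtain ⟨R, hR, hR'⟩ := hf p.obj.fst p.obj.snd p.obj.iso.hom p.property
  refine ⟨R, hR, fun V h hh => ?_⟩
  obtain ⟨a, φ, ψ, hφ, hψ, e⟩ := hR' h hh
  obtain ⟨h₁, h₂, eφ⟩ := (isHomLift_iff_eqToHom _ _).1 hφ
  exact ⟨a, fpHom φ ψ (by simp [FibCat.diag]; exact e),
    IsHomLift.of_fac' _ _ _ h₁ h₂ (by exact eφ)⟩

end Groth.StkGerb
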