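import Groth.Prelude.Def_StCoarse
import Groth.Agent.StkGerb.Lifts
import Groth.Agent.S2268

/-!
Coarse moduli spaces through gerbes: over an algebraically closed field fppf coverings split.
-/

set_option autoImplicit false
set_option backward.isDefEq.respectTransparency false
set_option backward.isDefEq.respectTransparency.types false

universe u

open CategoryTheory AlgebraicGeometry Opposite
open Groth.StkBase Groth.AlgStBasic Groth.AlgSpBasic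

namespace Groth.StkGerb

variable {S : Scheme.{u}} {𝒳 𝒴 : AlgSt.Cat S}

/-- A covering sieve of the spectrum of an algebraically closed field is the maximal one. -/
theorem id_mem_of_algClosed (Ω : Type u) [Field Ω] [IsAlgClosed Ω]
    (t : Spec (CommRingCat.of Ω) ⟶ S) {R : Sieve (Over.mk t)} (hR : R ∈ AlgSp.J S (Over.mk t)) :
    R (𝟙 (Over.mk t)) := by
  obtain ⟨V, i, hi, hfl, hs⟩ := exists_family_of_mem hR
  obtain ⟨s, v, hv⟩ := hs (IsLocalRing.closedPoint Ω)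
  have := (hfl s).2
  have : Subsingleton ↥(Over.mk t).left := inferInstanceAs (Subsingleton (PrimeSpectrum Ω))
  have : Surjective (i s).left := ⟨fun p => ⟨v, Subsingleton.elim _ _⟩⟩
  obtain ⟨x, hx⟩ := (Groth.Agent.S2268.result (i s).left).1 inferInstance Ω (𝟙 _)
  have hw : x ≫ (V s).hom = t := by
    rw [← Over.w (i s), ← Category.assoc, hx]; exact Category.id_comp t
  have := R.downward_closed (hi s) (Over.homMk x hw : Over.mk t ⟶ V s)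
  rwa [show (Over.homMk x hw : Over.mk t ⟶ V s) ≫ i s = 𝟙 _ from Over.OverMorphism.ext hx] at this

theorem sec_eq_of_vert {M : AlgSp.Sp S} {A B : (AlgSt.ofSp M).obj} (c : A ⟶ B) {T : Over S}
    (hA : A.base = T) (hB : B.base = T) (h : c.hom = eqToHom (hA.trans hB.symm)) :
    M.obj.map (eqToHom hA.symm).op A.sec = M.obj.map (eqToHom hB.symm).op B.sec := by
  obtain ⟨A₀, a⟩ := A
  obtain ⟨B₀, b⟩ := B
  change A₀ = T at hA
  change B₀ = T at hB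
  subst hA
  subst hB
  obtain ⟨m, hm⟩ := c
  change m = 𝟙 _ at h
  subst h
  have e : M.obj.map (𝟙 _) b = a := hm
  simp at e
  simp [e]

theorem fibSec_eq_of_vert {M : AlgSp.Sp S} {π π' : 𝒳 ⥤ᵇ AlgSt.ofSp M} {T : Over S}
    {x y : 𝒳.p.Fiber T} (c : π.obj x.1 ⟶ π'.obj y.1) (hc : IsVert (AlgSt.ofSp M).p c) :
    AlgSt.fibSec π x = AlgSt.fibSec π' y :=
  sec_eq_of_vert c ((π.w_obj x.1).trans x.2) ((π'.w_obj y.1).trans y.2) hc.map_eq

theorem fibSec_eq_of_iso {M : AlgSp.Sp S} {π π' : 𝒳 ⥤ᵇ AlgSt.ofSp M} (α : π ≅ π') {T : Over S}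
    (x : 𝒳.p.Fiber T) : AlgSt.fibSec π x = AlgSt.fibSec π' x :=
  fibSec_eq_of_vert (isoApp α x.1).hom (isVert_isoApp α x.1)

/-- An object of the image fibre. -/
abbrev fibMap (F : 𝒳 ⥤ᵇ 𝒴) {T : Over S} (x : 𝒳.p.Fiber T) : 𝒴.p.Fiber T :=
  ⟨F.obj x.1, (F.w_obj x.1).trans x.2⟩

theorem fibSec_comp (F : 𝒳 ⥤ᵇ 𝒴) {M : AlgSp.Sp S} (π : 𝒴 ⥤ᵇ AlgSt.ofSp M) {T : Over S}
    (x : 𝒳.p.Fiber T) :
    AlgSt.fibSec (BasedFunctor.comp F π) x = AlgSt.fibSec π (fibMap F x) := rfl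

theorem nonempty_fibIso (hX : FibCat.IsFibGrpd 𝒳.p) {T : Over S} {x y : 𝒳.p.Fiber T}
    (c : x.1 ⟶ y.1) (hc : IsVert 𝒳.p c) : Nonempty (x ≅ y) := by
  have := hc.isIso hX
  exact ⟨{ hom := ⟨c, hc.isHomLift x.2⟩
           inv := ⟨inv c, (IsVert.inv (φ := asIso c) hc).isHomLift y.2⟩
           hom_inv_id := Functor.Fiber.hom_ext (IsIso.hom_inv_id c)
           inv_hom_id := Functor.Fiber.hom_ext (IsIso.inv_hom_id c) }⟩

variable {Ω : Type u} [Field Ω] [IsAlgClosed Ω] {t : Spec (CommRingCat.of Ω) ⟶ S}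

/-- Over an algebraically closed field objects lift along gerbes. -/
theorem exists_fib_lift {F : 𝒳 ⥤ᵇ 𝒴} (hF : Gerb.LocSurjObj (QuotSh.J Scheme.fppfPrecoverage S) F)
    (y : 𝒴.p.Fiber (Over.mk t)) :
    ∃ (x : 𝒳.p.Fiber (Over.mk t)) (c : F.obj x.1 ⟶ y.1), IsVert 𝒴.p c := by
  obtain ⟨R, hR, hR'⟩ := hF y.1
  have hid := id_mem_of_algClosed Ω t
    ((AlgSp.J S).pullback_stable (eqToHom y.2.symm) hR)
  obtain ⟨x, c, hc⟩ := hR' _ hid
  obtain ⟨h₁, h₂, e⟩ := (isHomLift_iff_eqToHom _ _).1 hc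
  exact ⟨⟨x, (F.w_obj x).symm.trans h₁⟩, c, h₁.trans y.2.symm, by simp [e]⟩

/-- Over an algebraically closed field isomorphisms lift along gerbes. -/
theorem nonempty_iso_of_fib_lift (hX : FibCat.IsFibGrpd 𝒳.p) {F : 𝒳 ⥤ᵇ 𝒴}
    (hF : Gerb.LocSurjHom (QuotSh.J Scheme.fppfPrecoverage S) F) {x x' : 𝒳.p.Fiber (Over.mk t)}
    (b : fibMap F x ⟶ fibMap F x') : Nonempty (x ≅ x') := by
  have hb : IsVert 𝒴.p b.1 := isVert_of_isHomLift b.2
  obtain ⟨R, hR, hR'⟩ := hF x.1 x'.1 b.1 (hb.isHomLift (F.w_obj x.1))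
  have hid := id_mem_of_algClosed Ω t
    ((AlgSp.J S).pullback_stable (eqToHom x.2.symm) hR)
  obtain ⟨a, φ, ψ, hφ, hψ, -⟩ := hR' _ hid
  obtain ⟨h₁, h₂, e⟩ := (isHomLift_iff_eqToHom _ _).1 hφ
  obtain ⟨h₁', h₂', e'⟩ := (isHomLift_iff_eqToHom _ _).1 hψ
  obtain ⟨i⟩ := nonempty_fibIso hX (x := ⟨a, h₁⟩) (y := x) φ ⟨h₁.trans x.2.symm, by simp [e]⟩
  obtain ⟨j⟩ := nonempty_fibIso hX (x := ⟨a, h₁⟩) (y := x') ψ ⟨h₁.trans x'.2.symm, by simp [e']⟩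
  exact ⟨i.symm.trans j⟩

end Groth.StkGerb
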