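import Groth.Prelude.Def_StGerb2
import Groth.Agent.StkGerb.Coarse
import Mathlib.CategoryTheory.Sites.LocallyInjective
import Mathlib.CategoryTheory.Sites.LocallySurjective

/-!
The sheaf over which a gerbe lives as the sheafified presheaf of isomorphism classes.
-/

set_option autoImplicit false
set_option backward.isDefEq.respectTransparency false
set_option backward.isDefEq.respectTransparency.types false

universe u

open CategoryTheory AlgebraicGeometry Opposite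
open Groth.StkBase Groth.AlgStBasic

namespace Groth.StkGerb

variable {S : Scheme.{u}} {𝒳 : AlgSt.Cat S} {M : AlgSp.Sp S}

theorem sec_eq_of_lift {A B : (AlgSt.ofSp M).obj} (c : A ⟶ B) {U V : Over S} (f : V ⟶ U)
    (hA : A.base = V) (hB : B.base = U) (h : c.hom = eqToHom hA ≫ f ≫ eqToHom hB.symm) :
    M.obj.map (eqToHom hA.symm).op A.sec = M.obj.map f.op (M.obj.map (eqToHom hB.symm).op B.sec) := by
  obtain ⟨A₀, a⟩ := A
  obtain ⟨B₀, b⟩ := B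
  change A₀ = V at hA
  change B₀ = U at hB
  subst hA
  subst hB
  obtain ⟨m, hm⟩ := c
  change m = _ at h
  simp at h
  subst h
  simp
  exact hm.symm

theorem exists_hom_of_sec_eq {A B : (AlgSt.ofSp M).obj} {U : Over S} (hA : A.base = U) (hB : B.base = U)
    (h : M.obj.map (eqToHom hA.symm).op A.sec = M.obj.map (eqToHom hB.symm).op B.sec) :
    ∃ i : A ⟶ B, IsVert (AlgSt.ofSp M).p i := by
  obtain ⟨A₀, a⟩ := A
  obtain ⟨B₀, b⟩ := B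
  change A₀ = U at hA
  change B₀ = U at hB
  subst hA
  subst hB
  simp at h
  exact ⟨⟨𝟙 _, by simp [h]⟩, rfl, rfl⟩

theorem fibSec_pullFib [FibCat.IsFibGrpd 𝒳.p] (π : 𝒳 ⥤ᵇ AlgSt.ofSp M) {U V : Over S} (f : V ⟶ U)
    (a : 𝒳.p.Fiber U) :
    AlgSt.fibSec π (Gerb.pullFib 𝒳 f a) = M.obj.map f.op (AlgSt.fibSec π a) := by
  refine sec_eq_of_lift (π.map (Gerb.pullHom 𝒳 a.1 (f ≫ eqToHom a.2.symm))) f
    ((π.w_obj _).trans (Gerb.pull_over 𝒳 a.1 _)) ((π.w_obj a.1).trans a.2) ?_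
  have := map_map π (Gerb.pullHom 𝒳 a.1 (f ≫ eqToHom a.2.symm))
  rw [Gerb.pullHom_map] at this
  simp at this
  exact this

theorem isoCl_eq_of_hom [FibCat.IsFibGrpd 𝒳.p] {U V : Over S} (f : V ⟶ U) (a : 𝒳.p.Fiber U)
    (x : 𝒳.p.Fiber V) (ψ : x.1 ⟶ a.1)
    (h : 𝒳.p.map ψ = eqToHom x.2 ≫ f ≫ eqToHom a.2.symm) :
    Quot.mk (Gerb.IsoRel 𝒳 V) x = Quot.mk (Gerb.IsoRel 𝒳 V) (Gerb.pullFib 𝒳 f a) := by
  obtain ⟨χ, hχ, -⟩ := Gerb.exists_hom_pull 𝒳 a.1 (f ≫ eqToHom a.2.symm) ψ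
    (IsHomLift.of_fac' _ _ _ x.2 rfl (by simp [h]))
  exact Quot.sound ⟨⟨χ, hχ⟩⟩

/-- The map from isomorphism classes to the base of a gerbe is locally bijective. -/
theorem exists_isoCl_locBij [FibCat.IsFibGrpd 𝒳.p] (π : 𝒳 ⥤ᵇ AlgSt.ofSp M)
    (hπ : Gerb.IsGerbeOver (QuotSh.J Scheme.fppfPrecoverage S) π) :
    ∃ c : Gerb.isoClPsh 𝒳 ⟶ M.obj,
      (∀ (U : Over S) (a : 𝒳.p.Fiber U), c.app (op U) (Quot.mk _ a) = AlgSt.fibSec π a) ∧
      Presheaf.IsLocallySurjective (QuotSh.J Scheme.fppfPrecoverage S) c ∧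
      Presheaf.IsLocallyInjective (QuotSh.J Scheme.fppfPrecoverage S) c := by
  have hwell : ∀ (U : Over S) (a b : 𝒳.p.Fiber U), Gerb.IsoRel 𝒳 U a b →
      AlgSt.fibSec π a = AlgSt.fibSec π b := fun U a b ⟨φ⟩ =>
    fibSec_eq_of_vert (π.map φ.1) (isVert_map (isVert_of_isHomLift φ.2))
  let c : Gerb.isoClPsh 𝒳 ⟶ M.obj :=
    { app := fun U => ↾Quot.lift (fun a => AlgSt.fibSec π a) (hwell U.unop)
      naturality := fun U V f => by
        ext a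
        obtain ⟨a⟩ := a
        exact fibSec_pullFib π f.unop a }
  refine ⟨c, fun U a => rfl, ⟨fun {U} s => ?_⟩, ⟨fun {U} a b h => ?_⟩⟩
  · obtain ⟨R, hR, hR'⟩ := hπ.1 ⟨U, s⟩
    refine (QuotSh.J Scheme.fppfPrecoverage S).superset_covering ?_ hR
    intro V f hf
    obtain ⟨x, g, hg⟩ := hR' f hf
    obtain ⟨h₁, h₂, e⟩ := (isHomLift_iff_eqToHom _ _).1 hg
    have hx : 𝒳.p.obj x = V := (π.w_obj x).symm.trans h₁
    refine ⟨Quot.mk _ (⟨x, hx⟩ : 𝒳.p.Fiber V), ?_⟩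
    have := sec_eq_of_lift g f h₁ h₂ e
    exact this.trans (congrArg (M.obj.map f.op) (by simp))
  · obtain ⟨a⟩ := a
    obtain ⟨b⟩ := b
    obtain ⟨xa, ha⟩ := a
    obtain ⟨xb, hb⟩ := b
    change AlgSt.fibSec π ⟨xa, ha⟩ = AlgSt.fibSec π ⟨xb, hb⟩ at h
    obtain ⟨i, hi⟩ := exists_hom_of_sec_eq ((π.w_obj xa).trans ha) ((π.w_obj xb).trans hb) h
    obtain ⟨R, hR, hR'⟩ := hπ.2 xa xb i (hi.isHomLift (π.w_obj xa))
    refine (QuotSh.J Scheme.fppfPrecoverage S).superset_covering ?_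
      ((QuotSh.J Scheme.fppfPrecoverage S).pullback_stable (eqToHom ha.symm) hR)
    intro V f hf
    obtain ⟨x, φ, ψ, hφ, hψ, -⟩ := hR' _ hf
    obtain ⟨h₁, h₂, e⟩ := (isHomLift_iff_eqToHom _ _).1 hφ
    obtain ⟨h₁', h₂', e'⟩ := (isHomLift_iff_eqToHom _ _).1 hψ
    exact (isoCl_eq_of_hom f ⟨xa, ha⟩ ⟨x, h₁⟩ φ (by simp [e])).symm.trans
      (isoCl_eq_of_hom f ⟨xb, hb⟩ ⟨x, h₁⟩ ψ (by simp [e']))

end Groth.StkGerb
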