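import Groth.Agent.StkGerb.Lifts
import Groth.Agent.StkGerb.ChartFL

/-!
A gerbe is surjective, flat and locally of finite presentation over its base, and so is its diagonal.
-/

set_option autoImplicit false
set_option backward.isDefEq.respectTransparency false
set_option backward.isDefEq.respectTransparency.types false

universe u

open CategoryTheory CategoryTheory.Limits AlgebraicGeometry
open Groth.StkBase Groth.AlgStBasic Groth.AlgSpBasic

namespace Groth.StkGerb

variable {S : Scheme.{u}} {𝒳 𝒴 : AlgSt.Cat S} {f : 𝒳 ⥤ᵇ 𝒴} {U : Over S}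
  {x : FibCat.overCat U ⥤ᵇ 𝒳}

/-- The pairs `U ×_𝒴 U` mapped to `𝒳 ×_𝒴 𝒳`. -/
abbrev chartPair (x : FibCat.overCat U ⥤ᵇ 𝒳) (f : 𝒳 ⥤ᵇ 𝒴) :
    FibCat.fp (BasedFunctor.comp x f) (BasedFunctor.comp x f) ⥤ᵇ FibCat.fp f f :=
  fpPre x x f f

/-- For a gerbe, `U ×_𝒴 U ⟶ U` is flat and lfp, and isomorphisms over it come from automorphisms over
an fppf family over `U`. -/
theorem exists_pair_family (hX : AlgSt.IsAlgStack Scheme.fppfPrecoverage 𝒳)
    (hY : AlgSt.IsAlgStack Scheme.fppfPrecoverage 𝒴)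
    (hf : Gerb.IsGerbeOver (QuotSh.J Scheme.fppfPrecoverage S) f)
    (hx : AlgSt.RepByAlgSpWith (AlgSp.LocP @Smooth) x) :
    IsFL (FibCat.fpFst (BasedFunctor.comp x f) (BasedFunctor.comp x f)) ∧
      ∃ (ι : Type u) (E : ι → Over S) (k : ∀ i, E i ⟶ U),
        (∀ i, Flat (k i).left ∧ LocallyOfFinitePresentation (k i).left) ∧
        (∀ v : ↥U.left, ∃ (i : ι) (t : ↥(E i).left), (k i).left t = v) ∧
        ∀ i, IsFL (BasedFunctor.comp
          (FibCat.fpFst (AlgSt.overMap (k i))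
            (FibCat.fpFst (BasedFunctor.comp x (FibCat.diag f)) (FibCat.diag f)))
          (AlgSt.overMap (k i))) := by
  have hU := isAlgStack_overCat (S := S) U
  let h := BasedFunctor.comp x f
  let D := FibCat.diag f
  let M := chartPair x f
  have hRR := isAlgStack_fp hY.isStack hY.diag hU hU h h
  have hff := isAlgStack_fp hY.isStack hY.diag hX hX f f
  obtain ⟨R₀, ρ, hρ, hρs⟩ := hRR.atlas
  have hR₀ := isAlgStack_overCat (S := S) R₀
  obtain ⟨r₀, ⟨μ⟩⟩ := exists_overMap_iso (BasedFunctor.comp ρ (FibCat.fpFst h h))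
  let δ₀ := BasedFunctor.comp ρ M
  have hP := isAlgStack_fp hff.isStack hff.diag hR₀ hX δ₀ D
  have hMD := isAlgStack_fp hff.isStack hff.diag hRR hX M D
  let φ := FibCat.fpFst δ₀ D
  have hφ : IsFL (BasedFunctor.comp φ (AlgSt.overMap r₀)) := by
    let E₁ := fpUnpaste ρ M D
    let q := BasedFunctor.comp (FibCat.fpFst M D) (FibCat.fpFst h h)
    have h₁ : AlgSt.RepByAlgSpWith (AlgSp.LocP @Smooth)
        (BasedFunctor.comp E₁ (FibCat.fpSnd ρ (FibCat.fpFst M D))) :=
      (repWith_precomp_equiv (isEquivOver_fpUnpaste ρ M D) _).2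
        (repWith_fpSnd ρ (FibCat.fpFst M D) hρ)
    have h₂ : AlgSt.RepByAlgSpWith (AlgSp.LocP @Smooth) q :=
      (repWith_precomp_equiv (isEquivOver_diagFp' x x f) q).1 (repWith_fpFst x x hx)
    refine ((isFL_of_repWith_smooth hP hMD h₁).comp hP hMD hU
      (isFL_of_repWith_smooth hMD hU h₂)).of_iso ?_
    refine (show _ ≅ BasedFunctor.comp φ (BasedFunctor.comp ρ (FibCat.fpFst h h)) from
      whiskerRightIso (whiskerLeftIso E₁ (FibCat.fpIso ρ (FibCat.fpFst M D)).symm)
        (FibCat.fpFst h h)).trans (whiskerLeftIso φ μ)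
  obtain ⟨Rs, hRs, hRs'⟩ := exists_lift_of_locSurjObj hX.isStack.1 hff.isStack.1
    (locSurjObj_diag hX.isStack.1 hf.2) R₀ δ₀
  obtain ⟨E, e, he, hefl, hes⟩ := exists_family_of_mem hRs
  choose y η using fun i => hRs' (e i) (he i)
  have hQ : ∀ i, IsFL (BasedFunctor.comp (FibCat.fpSnd (AlgSt.overMap (e i)) φ)
      (BasedFunctor.comp φ (AlgSt.overMap r₀))) := fun i =>
    (isFL_of_repWith (isAlgStack_fp hR₀.isStack hR₀.diag (isAlgStack_overCat (E i)) hP _ φ) hP
      (repWith_fpSnd _ φ (repWith_overMap (e i) (hefl i).1))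
      (repWith_fpSnd _ φ (repWith_overMap (e i) (hefl i).2))).comp
      (isAlgStack_fp hR₀.isStack hR₀.diag (isAlgStack_overCat (E i)) hP _ φ) hP hU hφ
  have hQ' : ∀ i, IsFL (BasedFunctor.comp (FibCat.fpFst (AlgSt.overMap (e i)) φ)
      (AlgSt.overMap (e i ≫ r₀))) := fun i => (hQ i).of_iso
    ((whiskerRightIso (FibCat.fpIso (AlgSt.overMap (e i)) φ).symm (AlgSt.overMap r₀)).trans
      (whiskerLeftIso (FibCat.fpFst (AlgSt.overMap (e i)) φ)
        (nonempty_overMap_comp_iso (e i) r₀).some))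
  have her : ∀ i, Flat (e i ≫ r₀).left ∧ LocallyOfFinitePresentation (e i ≫ r₀).left := by
    intro i
    let zP : FibCat.overCat (E i) ⥤ᵇ FibCat.fp δ₀ D :=
      FibCat.fpLift (AlgSt.overMap (e i)) (y i) (η i).some.symm
    let σ : FibCat.overCat (E i) ⥤ᵇ FibCat.fp (AlgSt.overMap (e i)) φ :=
      FibCat.fpLift (BasedFunctor.id _) zP (Iso.refl _)
    exact flat_lfp_of_section_stack
      (isAlgStack_fp hR₀.isStack hR₀.diag (isAlgStack_overCat (E i)) hP _ φ)
      (FibCat.fpFst (AlgSt.overMap (e i)) φ) σ (Iso.refl _) (e i ≫ r₀) (hQ' i)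
  obtain ⟨hr₁, hr₂⟩ := flat_lfp_of_family (fun i => (E i).left) (fun i => (e i).left) hefl hes
    r₀.left (fun i => by rw [← Over.comp_left]; exact her i)
  refine ⟨isFL_of_atlas hρ hρs μ hr₁ hr₂, _, E, fun i => e i ≫ r₀, her, fun v => ?_, fun i => ?_⟩
  · let p := AlgSt.Points.ofChart (BasedFunctor.id (FibCat.overCat U : AlgSt.Cat S)) v
    obtain ⟨t, ht⟩ := surjective_ofChart hRR.isStack.1 hρs (AlgSt.Points.map (FibCat.diag h) p)
    obtain ⟨i, w, hw⟩ := hes t
    refine ⟨i, w, bijective_ofChart_id.1 ?_⟩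
    rw [Over.comp_left, Scheme.Hom.comp_apply, hw]
    refine (show AlgSt.Points.ofChart (BasedFunctor.id (FibCat.overCat U : AlgSt.Cat S)) (r₀.left t) =
      AlgSt.Points.map (FibCat.fpFst h h) (AlgSt.Points.map (FibCat.diag h) p) from ?_).trans ?_
    · rw [← ht, ← ofChart_overMap r₀ (BasedFunctor.id _) t,
        show BasedFunctor.comp (AlgSt.overMap r₀) (BasedFunctor.id (FibCat.overCat U : AlgSt.Cat S)) =
          AlgSt.overMap r₀ from rfl, ← ofChart_eq_of_iso μ]
      rfl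
    · rw [← map_comp]
      exact map_id p
  · let j₀ := BasedFunctor.comp x D
    let k := e i ≫ r₀
    let η₀ : BasedFunctor.comp (y i) D ≅ BasedFunctor.comp (AlgSt.overMap (e i)) δ₀ := (η i).some
    -- the object underlying the lift is the first point
    let β : y i ≅ BasedFunctor.comp (AlgSt.overMap k) x :=
      (whiskerRightIso η₀ (FibCat.fpFst f f)).trans
        ((whiskerRightIso (whiskerLeftIso (AlgSt.overMap (e i)) μ) x).trans
          (whiskerRightIso (nonempty_overMap_comp_iso (e i) r₀).some x))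
    let τ : BasedFunctor.comp (AlgSt.overMap k) j₀ ≅ BasedFunctor.comp (AlgSt.overMap (e i)) δ₀ :=
      (whiskerRightIso β D).symm.trans η₀
    let T := BasedFunctor.comp (BasedFunctor.comp (fpPaste (AlgSt.overMap k) j₀ D)
      (fpCongr τ (Iso.refl D))) (fpUnpaste (AlgSt.overMap (e i)) δ₀ D)
    have hT : FibCat.IsEquivOver T := isEquivOver_comp (isEquivOver_comp (isEquivOver_fpPaste _ _ _)
      (isEquivOver_fpCongr _ _)) (isEquivOver_fpUnpaste _ _ _)
    have hA := isAlgStack_fp hff.isStack hff.diag hU hX j₀ D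
    have hB := isAlgStack_fp hU.isStack hU.diag (isAlgStack_overCat (E i)) hA (AlgSt.overMap k)
      (FibCat.fpFst j₀ D)
    have hQa := isAlgStack_fp hR₀.isStack hR₀.diag (isAlgStack_overCat (E i)) hP
      (AlgSt.overMap (e i)) φ
    refine ((isFL_of_repWith hB hP
      ((repWith_precomp_equiv hT _).2 (repWith_fpSnd _ φ (repWith_overMap (e i) (hefl i).1)))
      ((repWith_precomp_equiv hT _).2 (repWith_fpSnd _ φ (repWith_overMap (e i) (hefl i).2)))).comp
      hB hP hU hφ).of_iso ?_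
    exact whiskerLeftIso T
      ((whiskerRightIso (FibCat.fpIso (AlgSt.overMap (e i)) φ).symm (AlgSt.overMap r₀)).trans
        (whiskerLeftIso (FibCat.fpFst (AlgSt.overMap (e i)) φ)
          (nonempty_overMap_comp_iso (e i) r₀).some))

/-- The automorphisms of a chart of a gerbe are flat and lfp over it. -/
theorem isFL_chart_diag (hX : AlgSt.IsAlgStack Scheme.fppfPrecoverage 𝒳)
    (hY : AlgSt.IsAlgStack Scheme.fppfPrecoverage 𝒴)
    (hf : Gerb.IsGerbeOver (QuotSh.J Scheme.fppfPrecoverage S) f)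
    (hx : AlgSt.RepByAlgSpWith (AlgSp.LocP @Smooth) x) :
    IsFL (FibCat.fpFst (BasedFunctor.comp x (FibCat.diag f)) (FibCat.diag f)) := by
  obtain ⟨-, ι, E, k, hk, hks, hB⟩ := exists_pair_family hX hY hf hx
  have hU := isAlgStack_overCat (S := S) U
  have hff := isAlgStack_fp hY.isStack hY.diag hX hX f f
  let γ := FibCat.fpFst (BasedFunctor.comp x (FibCat.diag f)) (FibCat.diag f)
  have hA := isAlgStack_fp hff.isStack hff.diag hU hX (BasedFunctor.comp x (FibCat.diag f))
    (FibCat.diag f)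
  obtain ⟨G₀, π, hπ, hπs⟩ := hA.atlas
  have hG₀ := isAlgStack_overCat (S := S) G₀
  obtain ⟨γ₀, ⟨ν⟩⟩ := exists_overMap_iso (BasedFunctor.comp π γ)
  let g := BasedFunctor.comp π γ
  have hW : ∀ i, ∃ (W : Over S) (χ : FibCat.overCat W ⥤ᵇ FibCat.fp (AlgSt.overMap (k i)) g)
      (c : W ⟶ G₀) (d : W ⟶ E i),
      AlgSt.RepByAlgSpWith AlgSp.IsSurjectiveMor χ ∧
      Nonempty (BasedFunctor.comp χ (FibCat.fpSnd (AlgSt.overMap (k i)) g) ≅ AlgSt.overMap c) ∧
      (Flat c.left ∧ LocallyOfFinitePresentation c.left) ∧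
      (Flat (c ≫ γ₀).left ∧ LocallyOfFinitePresentation (c ≫ γ₀).left) := by
    intro i
    have hEi := isAlgStack_overCat (S := S) (E i)
    have hXi := isAlgStack_fp hU.isStack hU.diag hEi hG₀ (AlgSt.overMap (k i)) g
    have hBi := isAlgStack_fp hU.isStack hU.diag hEi hA (AlgSt.overMap (k i)) γ
    obtain ⟨W, χ, hχ, hχs⟩ := hXi.atlas
    obtain ⟨c, ⟨εc⟩⟩ := exists_overMap_iso (BasedFunctor.comp χ (FibCat.fpSnd (AlgSt.overMap (k i)) g))
    obtain ⟨d, ⟨εd⟩⟩ := exists_overMap_iso (BasedFunctor.comp χ (FibCat.fpFst (AlgSt.overMap (k i)) g))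
    have hW := isAlgStack_overCat (S := S) W
    let C := fpPre (BasedFunctor.id (FibCat.overCat (E i))) π (AlgSt.overMap (k i)) γ
    have hC : AlgSt.RepByAlgSpWith (AlgSp.LocP @Smooth) C :=
      repWith_fpPre_id_left π (AlgSt.overMap (k i)) γ hπ
    have hχ' := isFL_of_repWith_smooth hW hXi hχ
    have hCk := (isFL_of_repWith_smooth hXi hBi hC).comp hXi hBi hU (hB i)
    have hdk : IsFL (BasedFunctor.comp χ
        (BasedFunctor.comp (FibCat.fpFst (AlgSt.overMap (k i)) g) (AlgSt.overMap (k i)))) :=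
      hχ'.comp hW hXi hU hCk
    refine ⟨W, χ, c, d, hχs, ⟨εc⟩, ?_, ?_⟩
    · exact ((hχ'.comp hW hXi hG₀ (isFL_of_repWith hXi hG₀
        (repWith_fpSnd _ g (repWith_overMap (k i) (hk i).1))
        (repWith_fpSnd _ g (repWith_overMap (k i) (hk i).2)))).of_iso εc).left_prop
    · refine (hdk.of_iso ?_).left_prop
      exact (whiskerLeftIso χ (FibCat.fpIso (AlgSt.overMap (k i)) g)).trans
        (((whiskerRightIso εc g).trans (whiskerLeftIso (AlgSt.overMap c) ν)).trans
          (nonempty_overMap_comp_iso c γ₀).some)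
  choose W χ c d hχs hεc hc hcg using hW
  have hs : ∀ v : ↥G₀.left, ∃ (i : ι) (s : ↥(W i).left), (c i).left s = v := by
    intro v
    obtain ⟨i, t, ht⟩ := hks (γ₀.left v)
    let pv := AlgSt.Points.ofChart (BasedFunctor.id (FibCat.overCat G₀ : AlgSt.Cat S)) v
    let pt := AlgSt.Points.ofChart (BasedFunctor.id (FibCat.overCat (E i) : AlgSt.Cat S)) t
    obtain ⟨w, -, hw⟩ := exists_points_fp hG₀.isStack.1 hU.isStack.1
      (isFibGrpd_overCat (E i)) g (AlgSt.overMap (k i)) pt pv (by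
        rw [← ofChart_eq_map, ← ofChart_eq_map, ofChart_eq_of_iso ν,
          show AlgSt.overMap (k i) = BasedFunctor.comp (AlgSt.overMap (k i)) (BasedFunctor.id _) from rfl,
          show AlgSt.overMap γ₀ = BasedFunctor.comp (AlgSt.overMap γ₀) (BasedFunctor.id _) from rfl,
          ofChart_overMap, ofChart_overMap, ht])
    obtain ⟨s, rfl⟩ := surjective_ofChart (isFibGrpd_fp (isFibGrpd_overCat (E i))
      (isFibGrpd_overCat G₀) (isFibGrpd_overCat U)) (hχs i) w
    refine ⟨i, s, bijective_ofChart_id.1 ?_⟩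
    rw [← ofChart_overMap (c i) (BasedFunctor.id _) s,
      show BasedFunctor.comp (AlgSt.overMap (c i)) (BasedFunctor.id (FibCat.overCat G₀ : AlgSt.Cat S)) =
        AlgSt.overMap (c i) from rfl, ← ofChart_eq_of_iso (hεc i).some]
    exact hw
  obtain ⟨h₁, h₂⟩ := flat_lfp_of_family (fun i => (W i).left) (fun i => (c i).left) hc hs γ₀.left
    (fun i => by rw [← Over.comp_left]; exact hcg i)
  exact isFL_of_atlas hπ hπs ν h₁ h₂

/-- The diagonal of a gerbe is surjective, flat and locally of finite presentation. -/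
theorem repWith_diag_of_isGerbeOver (hX : AlgSt.IsAlgStack Scheme.fppfPrecoverage 𝒳)
    (hY : AlgSt.IsAlgStack Scheme.fppfPrecoverage 𝒴)
    (hf : Gerb.IsGerbeOver (QuotSh.J Scheme.fppfPrecoverage S) f) :
    AlgSt.RepByAlgSpWith (AlgSp.LocP @Flat) (FibCat.diag f) ∧
      AlgSt.RepByAlgSpWith (AlgSp.LocP @LocallyOfFinitePresentation) (FibCat.diag f) ∧
      AlgSt.RepByAlgSpWith AlgSp.IsSurjectiveMor (FibCat.diag f) := by
  obtain ⟨U, x, hx, hxs⟩ := hX.atlas
  have hU := isAlgStack_overCat (S := S) U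
  have hff := isAlgStack_fp hY.isStack hY.diag hX hX f f
  have hD := repByAlgSp1_diag_of_diag hX.isStack.1 hY.isStack.1 hX.diag hY.diag f
  let j₀ := BasedFunctor.comp x (FibCat.diag f)
  have hA := isAlgStack_fp hff.isStack hff.diag hU hX j₀ (FibCat.diag f)
  obtain ⟨h₁, h₂⟩ := (isFL_chart_diag hX hY hf hx).repWith hA hU (repByAlgSp1_fpFst _ j₀ hD)
  have hl := exists_lift_comp_atlas hx hxs hX.isStack.1 hff.isStack.1 (locSurjObj_diag hX.isStack.1 hf.2)
  refine ⟨repWith_of_locally stableBaseChange_locP (isLocalOnBase_fppf_locP _) hD hl h₁,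
    repWith_of_locally stableBaseChange_locP (isLocalOnBase_fppf_locP _) hD hl h₂, ?_⟩
  exact (isSurjective_iff_repWith hX.isStack.1 hff.isStack.1 hD).1
    (isSurjective_of_locSurjObj hX.isStack.1 hff.isStack.1 (locSurjObj_diag hX.isStack.1 hf.2))

/-- A gerbe is surjective, flat and locally of finite presentation over its base. -/
theorem surjective_flat_lfp_of_isGerbeOver (hX : AlgSt.IsAlgStack Scheme.fppfPrecoverage 𝒳)
    (hY : AlgSt.IsAlgStack Scheme.fppfPrecoverage 𝒴)
    (hf : Gerb.IsGerbeOver (QuotSh.J Scheme.fppfPrecoverage S) f) :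
    AlgSt.IsSurjective f ∧ AlgSt.LocQ (AlgSp.LocP @Flat) f ∧
      AlgSt.LocQ (AlgSp.LocP @LocallyOfFinitePresentation) f := by
  obtain ⟨U, x, hx, hxs⟩ := hX.atlas
  have hU := isAlgStack_overCat (S := S) U
  let h := BasedFunctor.comp x f
  have hh : AlgSt.RepByAlgSp1 h := (repByAlgSp1_diag_iff hY.isStack.1).1 hY.diag U h
  have hRR := isAlgStack_fp hY.isStack hY.diag hU hU h h
  obtain ⟨h₁, h₂⟩ := (exists_pair_family hX hY hf hx).1.repWith hRR hU (repByAlgSp1_fpFst h h hh)
  have hl := exists_lift_comp_atlas hx hxs hX.isStack.1 hY.isStack.1 hf.1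
  obtain ⟨k₁, k₂⟩ := isFL_of_repWith hU hY
    (repWith_of_locally stableBaseChange_locP (isLocalOnBase_fppf_locP _) hh hl h₁)
    (repWith_of_locally stableBaseChange_locP (isLocalOnBase_fppf_locP _) hh hl h₂)
  refine ⟨isSurjective_of_locSurjObj hX.isStack.1 hY.isStack.1 hf.1, ?_, ?_⟩
  · obtain ⟨U', V, x', y, a, α, h₁', h₂', hy, hP⟩ := k₁
    exact ⟨U', V, BasedFunctor.comp x' x, y, a, α,
      repWith_comp' (isFibGrpd_overCat _) (isFibGrpd_overCat _) stableBaseChange_locP stableComp_locP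
        descendsAlongAtlas_locP h₁' hx,
      repWith_comp' (isFibGrpd_overCat _) (isFibGrpd_overCat _) stableBaseChange_surjective
        stableComp_surjective descendsAlongAtlas_surjective h₂' hxs, hy, hP⟩
  · obtain ⟨U', V, x', y, a, α, h₁', h₂', hy, hP⟩ := k₂
    exact ⟨U', V, BasedFunctor.comp x' x, y, a, α,
      repWith_comp' (isFibGrpd_overCat _) (isFibGrpd_overCat _) stableBaseChange_locP stableComp_locP
        descendsAlongAtlas_locP h₁' hx,
      repWith_comp' (isFibGrpd_overCat _) (isFibGrpd_overCat _) stableBaseChange_surjective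
        stableComp_surjective descendsAlongAtlas_surjective h₂' hxs, hy, hP⟩

end Groth.StkGerb
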