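import Groth.Agent.StkGerb.LargestSmooth
import Groth.Agent.PropsBasic.LociBaseChange.Scheme

/-!
The largest open substack on which a morphism is smooth, and flat base change.
-/

set_option autoImplicit false
set_option backward.isDefEq.respectTransparency false
set_option backward.isDefEq.respectTransparency.types false

universe u

open CategoryTheory CategoryTheory.Limits AlgebraicGeometry Topology
open Groth.StkBase Groth.AlgStBasic

noncomputable section

namespace Groth.StkGerb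

section Scheme

variable {X Y X' Y' : Scheme.{u}}

theorem smOpen_eq_smoothLocus (f : X ⟶ Y) [LocallyOfFinitePresentation f] : smOpen f = f.smoothLocus := by
  refine le_antisymm (fun x hx => ?_) (le_smOpen f ?_)
  · have := smooth_smOpen f
    have h : (⟨x, hx⟩ : (smOpen f).toScheme) ∈ (smOpen f).ι ⁻¹ᵁ f.smoothLocus := by
      rw [Scheme.Hom.preimage_smoothLocus_eq (smOpen f).ι f, Scheme.Hom.smoothLocus_eq_top]
      trivial
    exact h
  · rw [← Scheme.Hom.smoothLocus_eq_top_iff, ← Scheme.Hom.preimage_smoothLocus_eq]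
    exact top_le_iff.mp fun p _ => p.2

variable {f : X ⟶ Y} {c : Y' ⟶ Y} {f' : X' ⟶ Y'} {g' : X' ⟶ X}

theorem mem_smOpen_of_flat (H : IsPullback g' f' f c) [Flat c]
    (hfp : LocallyOfFinitePresentation c ∨ LocallyOfFinitePresentation f) {x' : X'} (hx' : x' ∈ smOpen f') :
    g' x' ∈ smOpen f := by
  rcases hfp with hc | hf
  swap
  · have : LocallyOfFinitePresentation f' := MorphismProperty.of_isPullback H hf
    rw [smOpen_eq_smoothLocus] at hx' ⊢
    exact Groth.PropsBasic.Loci.mem_smoothLocus_of_flat H hx'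
  · have : Flat g' := MorphismProperty.of_isPullback H.flip ‹Flat c›
    have : LocallyOfFinitePresentation g' := MorphismProperty.of_isPullback H.flip hc
    have := smooth_smOpen f'
    let O' := smOpen f'
    let O : X.Opens := ⟨g' '' O', g'.isOpenMap _ O'.2⟩
    let χ : O'.toScheme ⟶ O.toScheme := IsOpenImmersion.lift O.ι (O'.ι ≫ g') (by
      rintro _ ⟨t, rfl⟩
      rw [Scheme.Opens.range_ι]
      exact ⟨t.1, t.2, rfl⟩)
    have hχ : χ ≫ O.ι = O'.ι ≫ g' := IsOpenImmersion.lift_fac _ _ _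
    have : Flat (χ ≫ O.ι) := by rw [hχ]; infer_instance
    have : Flat χ := MorphismProperty.of_postcomp (W := @Flat) (W' := @IsOpenImmersion) χ O.ι
      inferInstance this
    have : LocallyOfFinitePresentation (χ ≫ O.ι) := by rw [hχ]; infer_instance
    have : LocallyOfFinitePresentation χ := MorphismProperty.of_postcomp
      (W := @LocallyOfFinitePresentation) (W' := @IsOpenImmersion) χ O.ι inferInstance this
    have : Surjective χ := ⟨fun w => by
      obtain ⟨t, ht, e⟩ := w.2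
      refine ⟨⟨t, ht⟩, O.ι.isOpenEmbedding.injective ?_⟩
      rw [← Scheme.Hom.comp_apply, hχ]
      exact e⟩
    have : LocallyOfFinitePresentation (χ ≫ O.ι ≫ f) := by
      rw [← Category.assoc, hχ, Category.assoc, H.w, ← Category.assoc]
      infer_instance
    have : LocallyOfFinitePresentation (O.ι ≫ f) :=
      Groth.GitQuot.FppfSource.locallyOfFinitePresentation_of_fppf χ (O.ι ≫ f)
    have hsq : IsPullback (g' ∣_ O) ((g' ⁻¹ᵁ O).ι ≫ f') (O.ι ≫ f) c :=
      (isPullback_morphismRestrict g' O).paste_vert H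
    have hxO : x' ∈ g' ⁻¹ᵁ O := ⟨x', hx', rfl⟩
    have : LocallyOfFinitePresentation ((g' ⁻¹ᵁ O).ι ≫ f') := MorphismProperty.of_isPullback hsq ‹_›
    have h₁ : (⟨x', hxO⟩ : (g' ⁻¹ᵁ O).toScheme) ∈ ((g' ⁻¹ᵁ O).ι ≫ f').smoothLocus := by
      rw [← smOpen_eq_smoothLocus, ← preimage_smOpen]
      exact hx'
    have h₂ := Groth.PropsBasic.Loci.mem_smoothLocus_of_flat hsq h₁
    rw [← smOpen_eq_smoothLocus, ← preimage_smOpen] at h₂
    have e : O.ι ((g' ∣_ O) ⟨x', hxO⟩) = g' x' := by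
      rw [← Scheme.Hom.comp_apply, morphismRestrict_ι]
      rfl
    exact e ▸ h₂

theorem preimage_smOpen_of_isPullback (H : IsPullback g' f' f c) [Flat c]
    (hfp : LocallyOfFinitePresentation c ∨ LocallyOfFinitePresentation f) :
    g' ⁻¹ᵁ smOpen f = smOpen f' := by
  refine le_antisymm (le_smOpen _ ?_) fun x' hx' => mem_smOpen_of_flat H hfp hx'
  exact MorphismProperty.of_isPullback ((isPullback_morphismRestrict g' (smOpen f)).paste_vert H)
    (smooth_smOpen f)

end Scheme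

variable {S : Scheme.{u}} {𝒳 𝒴 𝒴' : AlgSt.Cat S}

theorem largest_smooth_baseChange (hX : AlgSt.IsAlgStack Scheme.fppfPrecoverage 𝒳)
    (hY : AlgSt.IsAlgStack Scheme.fppfPrecoverage 𝒴) (hY' : AlgSt.IsAlgStack Scheme.fppfPrecoverage 𝒴')
    (f : 𝒳 ⥤ᵇ 𝒴) (z : 𝒴' ⥤ᵇ 𝒴) (hz : AlgSt.LocQ (AlgSp.LocP @Flat) z)
    (hfp : AlgSt.LocQ (AlgSp.LocP @LocallyOfFinitePresentation) z ∨
      AlgSt.LocQ (AlgSp.LocP @LocallyOfFinitePresentation) f)
    (Q : 𝒳.obj → Prop) (hQ₁ : AlgSt.IsOpenSubstack 𝒳 Q Scheme.fppfPrecoverage)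
    (hQ₂ : AlgSt.LocQ (AlgSp.LocP @Smooth) (BasedFunctor.comp (AlgSt.subIncl 𝒳 Q) f))
    (hQ₃ : ∀ Q' : 𝒳.obj → Prop, AlgSt.IsOpenSubstack 𝒳 Q' Scheme.fppfPrecoverage →
      AlgSt.LocQ (AlgSp.LocP @Smooth) (BasedFunctor.comp (AlgSt.subIncl 𝒳 Q') f) → ∀ a, Q' a → Q a) :
    AlgSt.IsOpenSubstack (FibCat.fp z f) (fun b ↦ Q b.obj.snd) Scheme.fppfPrecoverage ∧
      AlgSt.LocQ (AlgSp.LocP @Smooth)
        (BasedFunctor.comp (AlgSt.subIncl (FibCat.fp z f) fun b ↦ Q b.obj.snd) (FibCat.fpFst z f)) ∧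
      ∀ Q' : (FibCat.fp z f).obj → Prop, AlgSt.IsOpenSubstack (FibCat.fp z f) Q' Scheme.fppfPrecoverage →
        AlgSt.LocQ (AlgSp.LocP @Smooth) (BasedFunctor.comp (AlgSt.subIncl (FibCat.fp z f) Q') (FibCat.fpFst z f)) →
        ∀ b, Q' b → Q b.obj.snd := by
  obtain ⟨V, y, hy, hys⟩ := exists_space_atlas hY
  obtain ⟨U, L, hL, hLs, hx₀, hxs₀⟩ := exists_chart_over hX hY f hy
  obtain ⟨T, Lz, hLz, -, hy'', hy''s⟩ := exists_chart_over hY' hY z hy
  let U' : AlgSp.Space S := (AlgSp.ofScheme S).obj U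
  let V' : AlgSp.Space S := (AlgSp.ofScheme S).obj V
  let T' : AlgSp.Space S := (AlgSp.ofScheme S).obj T
  obtain ⟨h, hh⟩ := (AlgSp.yon S).map_surjective (mapOf (BasedFunctor.comp L (FibCat.fpSnd f y)))
  obtain ⟨c, hc⟩ := (AlgSp.yon S).map_surjective (mapOf (BasedFunctor.comp Lz (FibCat.fpSnd z y)))
  obtain ⟨βa⟩ := nonempty_iso_mapOf (BasedFunctor.comp L (FibCat.fpSnd f y))
  obtain ⟨βc⟩ := nonempty_iso_mapOf (BasedFunctor.comp Lz (FibCat.fpSnd z y))
  rw [← hh] at βa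
  rw [← hc] at βc
  let C : AlgSt.ofSp T'.obj ⥤ᵇ AlgSt.ofSp V'.obj := AlgSt.ofSpMap ((AlgSp.yon S).map c)
  let y'' := BasedFunctor.comp Lz (FibCat.fpFst z y)
  let ε : BasedFunctor.comp C y ≅ BasedFunctor.comp y'' z :=
    (whiskerRightIso βc.symm y).trans (whiskerLeftIso Lz (FibCat.fpIso z y).symm)
  have : Flat c.left :=
    left_prop_of_locP_yon (hc ▸ (locQ_iff_all isSmoothLocalST_flat hY' hY).1 hz _ _ y Lz hy hLz)
  have hfp' : LocallyOfFinitePresentation c.left ∨ LocallyOfFinitePresentation h.left :=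
    hfp.imp (fun H => left_prop_of_locP_yon (hc ▸ (locQ_iff_all isSmoothLocalST_lfp hY' hY).1 H _ _ y Lz hy hLz))
      (fun H => left_prop_of_locP_yon (hh ▸ (locQ_iff_all isSmoothLocalST_lfp hX hY).1 H _ _ y L hy hL))
  -- the chart of the base change
  let W : Over S := pullback h c
  let p₁ : W ⟶ U := pullback.fst h c
  let p₂ : W ⟶ T := pullback.snd h c
  have sqO : IsPullback p₁ p₂ h c := IsPullback.of_hasPullback h c
  have sq := sqO.map (AlgSp.yon S)
  have sq' : IsPullback ((AlgSp.yon S).map p₁).hom ((AlgSp.yon S).map p₂).hom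
      ((AlgSp.yon S).map h).hom ((AlgSp.yon S).map c).hom :=
    (sq.map (sheafToPresheaf (AlgSp.J S) (Type (u + 1))) :)
  have sqL : IsPullback p₁.left p₂.left h.left c.left := sqO.map (Over.forget S)
  let e₁ := BasedFunctor.comp (pshFpLift sq'.w) (fpCongr βa.symm (Iso.refl C))
  have he₁ : FibCat.IsEquivOver e₁ :=
    isEquivOver_comp (isEquivOver_pshFpLift sq') (isEquivOver_fpCongr _ _)
  let M := fpPre L (BasedFunctor.id (AlgSt.ofSp T'.obj)) (FibCat.fpSnd f y) C
  let R := fpBaseChange z f y C y'' ε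
  have hR : FibCat.IsEquivOver R := isEquivOver_fpBaseChange z f y C y'' ε
  let L'' : AlgSt.ofSp ((AlgSp.ofScheme S).obj W).obj ⥤ᵇ FibCat.fp (FibCat.fpFst z f) y'' :=
    BasedFunctor.comp (BasedFunctor.comp e₁ M) R
  have hL'' : AlgSt.RepByAlgSpWith (AlgSp.LocP @Smooth) L'' :=
    (repWith_postcomp_equiv _ hR).2 ((repWith_precomp_equiv he₁ _).2 (repWith_fpPre_left L (FibCat.fpSnd f y) C hL))
  have hL''s : AlgSt.RepByAlgSpWith AlgSp.IsSurjectiveMor L'' :=
    (repWith_postcomp_equiv _ hR).2 ((repWith_precomp_equiv he₁ _).2 (repWith_fpPre_left L (FibCat.fpSnd f y) C hLs))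
  have hP := isAlgStack_fp hY.isStack hY.diag hY' hX z f
  have hF := isFibGrpd_fp (F := FibCat.fpFst z f) (G := y'') hP.isStack.1 (isFibGrpd_ofSp _) hY'.isStack.1
  let xW := BasedFunctor.comp L'' (FibCat.fpFst (FibCat.fpFst z f) y'')
  have hxW : AlgSt.RepByAlgSpWith (AlgSp.LocP @Smooth) xW :=
    repWith_comp' (isFibGrpd_ofSp _) hF stableBaseChange_locP stableComp_locP descendsAlongAtlas_locP hL''
      (repWith_fpFst y'' (FibCat.fpFst z f) hy'')
  have hxWs : AlgSt.RepByAlgSpWith AlgSp.IsSurjectiveMor xW :=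
    repWith_comp' (isFibGrpd_ofSp _) hF stableBaseChange_surjective stableComp_surjective
      descendsAlongAtlas_surjective hL''s (repWith_fpFst y'' (FibCat.fpFst z f) (hy''s hys))
  have hm : (AlgSp.yon S).map p₂ = mapOf (BasedFunctor.comp L'' (FibCat.fpSnd (FibCat.fpFst z f) y'')) := by
    rw [show BasedFunctor.comp L'' (FibCat.fpSnd (FibCat.fpFst z f) y'') =
      AlgSt.ofSpMap ((AlgSp.yon S).map p₂) from
        congrArg (BasedFunctor.comp (BasedFunctor.comp e₁ M)) (fpBaseChange_snd z f y C y'' ε)]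
    exact (mapOf_ofSpMap _).symm
  let x := BasedFunctor.comp (AlgSt.ofOverCat U) (BasedFunctor.comp L (FibCat.fpFst f y))
  let x' := BasedFunctor.comp (AlgSt.ofOverCat W) xW
  have hx' : AlgSt.RepByAlgSpWith (AlgSp.LocP @Smooth) x' :=
    (repWith_precomp_equiv (isEquivOver_ofOverCat W) _).2 hxW
  have hx's := surjective_ofChart hP.isStack.1 (x := x')
    ((repWith_precomp_equiv (isEquivOver_ofOverCat W) _).2 hxWs)
  have γ : BasedFunctor.comp x' (FibCat.fpSnd z f) ≅ BasedFunctor.comp (AlgSt.overMap p₁) x := Iso.refl _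
  have key := largest_smooth_eq hX hY hy L hL h hh
    ((repWith_precomp_equiv (isEquivOver_ofOverCat U) _).2 hx₀)
    (surjective_ofChart hX.isStack.1 ((repWith_precomp_equiv (isEquivOver_ofOverCat U) _).2 (hxs₀ hys)))
    hQ₁ hQ₂ hQ₃
  let 𝒯 := Set.range (AlgSt.Points.map (AlgSt.subIncl 𝒳 Q))
  have hmem : ∀ w, AlgSt.Points.map (FibCat.fpSnd z f) (AlgSt.Points.ofChart x' w) ∈ 𝒯 ↔
      w ∈ smOpen p₂.left := by
    intro w
    have e : AlgSt.Points.map (FibCat.fpSnd z f) (AlgSt.Points.ofChart x' w) =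
        AlgSt.Points.ofChart x (p₁.left w) := by
      rw [← ofChart_overMap, ofChart_eq_map, ← map_comp, ofChart_eq_map (BasedFunctor.comp (AlgSt.overMap p₁) x)]
      exact congrFun (map_eq_of_iso γ) _
    rw [e, ← preimage_smOpen_of_isPullback sqL hfp']
    exact Set.ext_iff.1 key _
  have himg : AlgSt.Points.map (FibCat.fpSnd z f) ⁻¹' 𝒯 =
      AlgSt.Points.ofChart x' '' (smOpen p₂.left : Set W.left) := by
    ext p
    obtain ⟨w, rfl⟩ := hx's p
    refine ⟨fun H => ⟨w, (hmem w).1 H, rfl⟩, ?_⟩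
    rintro ⟨w', hw', e⟩
    rw [Set.mem_preimage, ← e]
    exact (hmem w').2 hw'
  have hpred : (fun b ↦ Q b.obj.snd : (FibCat.fp z f).obj → Prop) =
      inPts (AlgSt.Points.ofChart x' '' (smOpen p₂.left : Set W.left)) := by
    funext b
    rw [← himg]
    exact propext ((isOpenSubstack_eq hX hQ₁ _).trans (inPts_map_iff hX hP (FibCat.fpSnd z f) 𝒯 b).symm)
  obtain ⟨α⟩ := nonempty_lift_iso (FibCat.fpFst z f) (U := (AlgSp.ofScheme S).obj W) L''
  rw [← hm] at α
  obtain ⟨h₁, h₂⟩ := isOpenSubstack_image_smOpen hP (f := FibCat.fpFst z f) (x := x')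
    (y := BasedFunctor.comp (AlgSt.ofOverCat T) y'') (h := p₂) (whiskerLeftIso (AlgSt.ofOverCat W) α :) hx'
    ((repWith_precomp_equiv (isEquivOver_ofOverCat T) y'').2 hy'')
  rw [hpred]
  refine ⟨h₁, h₂, fun Q' hQ' hQ'f b hb => ?_⟩
  show Q b.obj.snd
  rw [congrFun hpred b]
  refine (isOpenSubstack_le_iff hP hQ' h₁).2 (fun q hq => ?_) b hb
  rw [range_subIncl_inPts_eq]
  obtain ⟨w, rfl⟩ := hx's q
  exact ⟨w, preimage_le_smOpen hP hY' hy'' L'' hL'' p₂ hm hQ' hQ'f w hq, rfl⟩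

end Groth.StkGerb
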