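import Groth.Agent.AlgStBasic.OpenSub
import Groth.Agent.AlgStBasic.LocQApps
import Groth.Agent.StkGerb.ChartFL

/-!
The largest open substack on which a morphism of algebraic stacks is smooth, read on a chart.
-/

set_option autoImplicit false
set_option backward.isDefEq.respectTransparency false
set_option backward.isDefEq.respectTransparency.types false

universe u

open CategoryTheory CategoryTheory.Limits AlgebraicGeometry Topology
open Groth.StkBase Groth.AlgStBasic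

noncomputable section

namespace Groth.StkGerb

section Scheme

variable {X Y Z : Scheme.{u}}

/-- The union of the open sets on which a morphism is smooth. -/
def smOpen (f : X ⟶ Y) : X.Opens := sSup {O : X.Opens | Smooth (O.ι ≫ f)}

theorem smooth_restrict_of_le (f : X ⟶ Y) {O O' : X.Opens} (h : O ≤ O') [Smooth (O'.ι ≫ f)] :
    Smooth (O.ι ≫ f) := by
  rw [← X.homOfLE_ι h, Category.assoc]
  infer_instance

theorem le_smOpen (f : X ⟶ Y) {O : X.Opens} (h : Smooth (O.ι ≫ f)) : O ≤ smOpen f := le_sSup h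

theorem smooth_smOpen (f : X ⟶ Y) : Smooth ((smOpen f).ι ≫ f) := by
  let W : {O : X.Opens // Smooth (O.ι ≫ f)} → (smOpen f).toScheme.Opens := fun O => (smOpen f).ι ⁻¹ᵁ O.1
  have hW : TopologicalSpace.IsOpenCover W := by
    refine TopologicalSpace.IsOpenCover.mk (eq_top_iff.2 fun x _ => ?_)
    obtain ⟨O, hO, hx⟩ := TopologicalSpace.Opens.mem_sSup.1 x.2
    exact TopologicalSpace.Opens.mem_iSup.2 ⟨⟨O, hO⟩, hx⟩
  refine IsZariskiLocalAtSource.of_openCover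
    (Scheme.openCoverOfIsOpenCover _ W hW) fun O => ?_
  have : Smooth (O.1.ι ≫ f) := O.2
  let l : (W O).toScheme ⟶ O.1.toScheme :=
    IsOpenImmersion.lift O.1.ι ((W O).ι ≫ (smOpen f).ι) (by
      rintro _ ⟨t, rfl⟩
      rw [Scheme.Opens.range_ι]
      exact t.2)
  have hl : l ≫ O.1.ι = (W O).ι ≫ (smOpen f).ι := IsOpenImmersion.lift_fac _ _ _
  have : IsOpenImmersion (l ≫ O.1.ι) := by rw [hl]; infer_instance
  have : IsOpenImmersion l := IsOpenImmersion.of_comp l O.1.ι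
  show Smooth ((W O).ι ≫ (smOpen f).ι ≫ f)
  rw [← Category.assoc, ← hl, Category.assoc]
  infer_instance

theorem le_smOpen_iff (f : X ⟶ Y) {O : X.Opens} : O ≤ smOpen f ↔ Smooth (O.ι ≫ f) :=
  ⟨fun h => have := smooth_smOpen f; smooth_restrict_of_le f h, le_smOpen f⟩

/-- The smooth locus of a composite with a smooth first morphism. -/
theorem preimage_smOpen (a : X ⟶ Y) [Smooth a] (b : Y ⟶ Z) : a ⁻¹ᵁ smOpen b = smOpen (a ≫ b) := by
  refine le_antisymm (le_smOpen _ ?_) fun x hx => ?_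
  · have := smooth_smOpen b
    rw [← morphismRestrict_ι_assoc a (smOpen b) b]
    infer_instance
  · have := smooth_smOpen (a ≫ b)
    let O := smOpen (a ≫ b)
    let W : Y.Opens := ⟨a '' O, a.isOpenMap _ O.2⟩
    let χ : O.toScheme ⟶ W.toScheme := IsOpenImmersion.lift W.ι (O.ι ≫ a) (by
      rintro _ ⟨t, rfl⟩
      rw [Scheme.Opens.range_ι]
      exact ⟨t.1, t.2, rfl⟩)
    have hχ : χ ≫ W.ι = O.ι ≫ a := IsOpenImmersion.lift_fac _ _ _
    have : Smooth (χ ≫ W.ι) := by rw [hχ]; infer_instance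
    have : Smooth χ := MorphismProperty.of_postcomp (W := @Smooth) (W' := @IsOpenImmersion) χ W.ι
      inferInstance this
    have : Surjective χ := ⟨fun w => by
      obtain ⟨t, ht, e⟩ := w.2
      refine ⟨⟨t, ht⟩, W.ι.isOpenEmbedding.injective ?_⟩
      rw [← Scheme.Hom.comp_apply, hχ]
      exact e⟩
    have : Smooth (χ ≫ W.ι ≫ b) := by
      rw [← Category.assoc, hχ, Category.assoc]
      infer_instance
    exact le_smOpen b (Groth.AlgSp2.smooth_of_comp_surjective_smooth χ (W.ι ≫ b)) ⟨x, hx, rfl⟩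

end Scheme

variable {S : Scheme.{u}} {𝒳 𝒴 : AlgSt.Cat S}

/-- A chart of the preimage of an open substack. -/
def toInPts (hX : FibCat.IsFibGrpd 𝒳.p) {U : Over S} (x : FibCat.overCat U ⥤ᵇ 𝒳)
    (T : Set (AlgSt.Points 𝒳)) (h : ∀ t : ↥U.left, AlgSt.Points.ofChart x t ∈ T) :
    FibCat.overCat U ⥤ᵇ AlgSt.fullSub 𝒳 (inPts T) where
  toFunctor := ObjectProperty.lift _ x.toFunctor fun _ => (inPts_obj_iff hX x _).2 fun _ => h _
  w := x.w

theorem isSurjectiveMor_toInPts (hX : AlgSt.IsAlgStack Scheme.fppfPrecoverage 𝒳) {U : Over S}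
    {x : FibCat.overCat U ⥤ᵇ 𝒳} (T : Set (AlgSt.Points 𝒳)) (hT : IsOpen T)
    (h : ∀ t : ↥U.left, AlgSt.Points.ofChart x t ∈ T) (hs : T ⊆ Set.range (AlgSt.Points.ofChart x)) :
    AlgSt.RepByAlgSpWith AlgSp.IsSurjectiveMor (toInPts hX.isStack.1 x T h) := by
  have hA := (isOpenSubstack_inPts hX hT).2.1
  refine (isSurjective_iff_repWith (isFibGrpd_overCat U) hA.isStack.1
    ((repByAlgSp1_diag_iff hA.isStack.1).1 hA.diag _ _)).1 fun z => ?_
  obtain ⟨p, rfl⟩ := AlgSt.Points.mk_surjective z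
  obtain ⟨t, ht⟩ := hs (range_subIncl_inPts T ⟨AlgSt.Points.mk p, rfl⟩)
  obtain ⟨z', hz'⟩ : ∃ z', AlgSt.Points.map x z' =
      AlgSt.Points.map (AlgSt.subIncl 𝒳 (inPts T)) (AlgSt.Points.mk p) :=
    ⟨_, (ofChart_eq_map x t).symm.trans ht⟩
  obtain ⟨q, rfl⟩ := AlgSt.Points.mk_surjective z'
  refine ⟨AlgSt.Points.mk q, ?_⟩
  obtain ⟨r, a, b, -⟩ := (mk_eq_mk_iff hX.isStack.1).1 hz'
  let r' : AlgSt.FPt (AlgSt.fullSub 𝒳 (inPts T)) :=
    { K := r.K, str := r.str, obj := ⟨r.obj, inPts_of_hom b p.obj.property⟩, lies := r.lies }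
  exact AlgSt.Points.sound ⟨r', ObjectProperty.homMk a, ObjectProperty.homMk b, trivial⟩

/-- A chart square shows smoothness on the image of the smooth locus. -/
theorem isOpenSubstack_image_smOpen (hX : AlgSt.IsAlgStack Scheme.fppfPrecoverage 𝒳) {U V : Over S}
    {x : FibCat.overCat U ⥤ᵇ 𝒳} {y : FibCat.overCat V ⥤ᵇ 𝒴}
    {h : U ⟶ V} {f : 𝒳 ⥤ᵇ 𝒴} (α : BasedFunctor.comp x f ≅ BasedFunctor.comp (AlgSt.overMap h) y)
    (hx : AlgSt.RepByAlgSpWith (AlgSp.LocP @Smooth) x)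
    (hy : AlgSt.RepByAlgSpWith (AlgSp.LocP @Smooth) y) :
    AlgSt.IsOpenSubstack 𝒳 (inPts (AlgSt.Points.ofChart x '' (smOpen h.left : Set U.left)))
        Scheme.fppfPrecoverage ∧
      AlgSt.LocQ (AlgSp.LocP @Smooth) (BasedFunctor.comp
        (AlgSt.subIncl 𝒳 (inPts (AlgSt.Points.ofChart x '' (smOpen h.left : Set U.left)))) f) := by
  let O := smOpen h.left
  have := smooth_smOpen h.left
  let T := AlgSt.Points.ofChart x '' (O : Set U.left)
  have hT : IsOpen T := isOpenMap_ofChart_of_smooth hX.isStack.1 hx _ O.2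
  let O' : Over S := Over.mk (O.ι ≫ U.hom)
  let j : O' ⟶ U := Over.homMk O.ι
  let x' := BasedFunctor.comp (AlgSt.overMap j) x
  have h' : ∀ t : ↥O'.left, AlgSt.Points.ofChart x' t ∈ T := fun t => by
    rw [ofChart_overMap]
    exact ⟨_, t.2, rfl⟩
  have hs : T ⊆ Set.range (AlgSt.Points.ofChart x') := by
    rintro _ ⟨u, hu, rfl⟩
    exact ⟨⟨u, hu⟩, ofChart_overMap j x _⟩
  let B := toInPts hX.isStack.1 x' T h'
  have : (AlgSt.subIncl 𝒳 (inPts T)).toFunctor.Full := inferInstanceAs (ObjectProperty.ι _).Full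
  have : (AlgSt.subIncl 𝒳 (inPts T)).toFunctor.Faithful :=
    inferInstanceAs (ObjectProperty.ι _).Faithful
  have hB : AlgSt.RepByAlgSpWith (AlgSp.LocP @Smooth) B := by
    refine repWith_of_comp_fullyFaithful (AlgSt.subIncl 𝒳 (inPts T)) ?_
    exact (repWith_comp' (isFibGrpd_overCat _) (isFibGrpd_overCat _) stableBaseChange_locP stableComp_locP
      descendsAlongAtlas_locP (repWith_overMap (P := @Smooth) j (inferInstanceAs (Smooth O.ι))) hx :)
  refine ⟨isOpenSubstack_inPts hX hT, O', V, B, y, j ≫ h, ?_, hB,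
    isSurjectiveMor_toInPts hX T hT h' hs, hy, locP_yon_of_left (inferInstanceAs (Smooth (O.ι ≫ h.left)))⟩
  exact ((whiskerLeftIso (AlgSt.overMap j) α).trans
    (whiskerRightIso (nonempty_overMap_comp_iso j h).some y) :)

/-- The comparison of the chart products of a full substack and of the ambient stack. -/
def fpSub {𝒱 : AlgSt.Cat S} (Q : 𝒳.obj → Prop) (f : 𝒳 ⥤ᵇ 𝒴) (y : 𝒱 ⥤ᵇ 𝒴) :
    FibCat.fp (BasedFunctor.comp (AlgSt.subIncl 𝒳 Q) f) y ⥤ᵇ FibCat.fp f y :=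
  FibCat.fpLift (BasedFunctor.comp (FibCat.fpFst _ y) (AlgSt.subIncl 𝒳 Q))
    (FibCat.fpSnd (BasedFunctor.comp (AlgSt.subIncl 𝒳 Q) f) y) (FibCat.fpIso (BasedFunctor.comp (AlgSt.subIncl 𝒳 Q) f) y)

theorem fpSub_faithful {𝒱 : AlgSt.Cat S} (Q : 𝒳.obj → Prop) (f : 𝒳 ⥤ᵇ 𝒴) (y : 𝒱 ⥤ᵇ 𝒴) :
    (fpSub Q f y).toFunctor.Faithful :=
  ⟨fun {p q} a b e => fp_hom_ext (ObjectProperty.hom_ext _ (congrArg (fun t => t.hom.fst) e))
    (congrArg (fun t => t.hom.snd) e)⟩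

theorem fpSub_full {𝒱 : AlgSt.Cat S} (Q : 𝒳.obj → Prop) (f : 𝒳 ⥤ᵇ 𝒴) (y : 𝒱 ⥤ᵇ 𝒴) :
    (fpSub Q f y).toFunctor.Full :=
  ⟨fun {p q} a => ⟨fpHom (ObjectProperty.homMk a.hom.fst) a.hom.snd a.hom.w, rfl⟩⟩

/-- The largest open substack on which `f` is smooth lies inside the image of the smooth locus of a chart. -/
theorem preimage_le_smOpen (hX : AlgSt.IsAlgStack Scheme.fppfPrecoverage 𝒳)
    (hY : AlgSt.IsAlgStack Scheme.fppfPrecoverage 𝒴) {f : 𝒳 ⥤ᵇ 𝒴} {U V : Over S}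
    {y : AlgSt.ofSp ((AlgSp.ofScheme S).obj V).obj ⥤ᵇ 𝒴}
    (hy : AlgSt.RepByAlgSpWith (AlgSp.LocP @Smooth) y)
    (L : AlgSt.ofSp ((AlgSp.ofScheme S).obj U).obj ⥤ᵇ FibCat.fp f y)
    (hL : AlgSt.RepByAlgSpWith (AlgSp.LocP @Smooth) L) (h : U ⟶ V)
    (hh : (AlgSp.yon S).map h = mapOf (BasedFunctor.comp L (FibCat.fpSnd f y)))
    {Q : 𝒳.obj → Prop} (hQ : AlgSt.IsOpenSubstack 𝒳 Q Scheme.fppfPrecoverage)
    (hQf : AlgSt.LocQ (AlgSp.LocP @Smooth) (BasedFunctor.comp (AlgSt.subIncl 𝒳 Q) f))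
    (u : ↥U.left)
    (hu : AlgSt.Points.ofChart (BasedFunctor.comp (AlgSt.ofOverCat U) (BasedFunctor.comp L (FibCat.fpFst f y))) u
      ∈ Set.range (AlgSt.Points.map (AlgSt.subIncl 𝒳 Q))) :
    u ∈ smOpen h.left := by
  let T := Set.range (AlgSt.Points.map (AlgSt.subIncl 𝒳 Q))
  have hT : IsOpen T := (isOpenMap_map_of_isOpenImm hQ.2.1 hX.isStack.1 hQ.2.2).isOpen_range
  let x : FibCat.overCat U ⥤ᵇ 𝒳 :=
    BasedFunctor.comp (AlgSt.ofOverCat U) (BasedFunctor.comp L (FibCat.fpFst f y))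
  let O : U.left.Opens := ⟨AlgSt.Points.ofChart x ⁻¹' T, hT.preimage (continuous_ofChart hX x)⟩
  let O' : Over S := Over.mk (O.ι ≫ U.hom)
  let j : O' ⟶ U := Over.homMk O.ι
  let J : AlgSt.ofSp ((AlgSp.ofScheme S).obj O').obj ⥤ᵇ AlgSt.ofSp ((AlgSp.ofScheme S).obj U).obj :=
    AlgSt.ofSpMap ((AlgSp.yon S).map j)
  let x' : FibCat.overCat O' ⥤ᵇ 𝒳 := BasedFunctor.comp (AlgSt.overMap j) x
  have hmem : ∀ a, Q (x'.obj a) := fun a => (isOpenSubstack_eq hX hQ _).2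
    ((inPts_obj_iff hX.isStack.1 x' a).2 fun t => by
      rw [ofChart_overMap]
      exact (a.hom.left t).2)
  let B₀ : FibCat.overCat O' ⥤ᵇ AlgSt.fullSub 𝒳 Q :=
    { toFunctor := ObjectProperty.lift _ x'.toFunctor hmem
      w := x'.w }
  let B : AlgSt.ofSp ((AlgSp.ofScheme S).obj O').obj ⥤ᵇ AlgSt.fullSub 𝒳 Q :=
    BasedFunctor.comp (AlgSt.toOverCat O') B₀
  let γ : BasedFunctor.comp B (AlgSt.subIncl 𝒳 Q) ≅
      BasedFunctor.comp J (BasedFunctor.comp L (FibCat.fpFst f y)) := Iso.refl _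
  let L' : AlgSt.ofSp ((AlgSp.ofScheme S).obj O').obj ⥤ᵇ
      FibCat.fp (BasedFunctor.comp (AlgSt.subIncl 𝒳 Q) f) y :=
    FibCat.fpLift B (BasedFunctor.comp J (BasedFunctor.comp L (FibCat.fpSnd f y)))
      ((whiskerRightIso γ f).trans (whiskerLeftIso J (whiskerLeftIso L (FibCat.fpIso f y))))
  have e : BasedFunctor.comp L' (fpSub Q f y) ≅ BasedFunctor.comp J L :=
    fpIsoMk γ (Iso.refl _) fun a => by
      simp [L', fpSub, FibCat.fpLift]
      rfl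
  have hJ : AlgSt.RepByAlgSpWith (AlgSp.LocP @Smooth) J :=
    repWith_ofPshMap_of_stable (F := (AlgSp.ofScheme S).obj O') (G := (AlgSp.ofScheme S).obj U)
      stableBaseChange_locP _ (locP_yon_of_left (inferInstanceAs (Smooth O.ι)))
  have hL' : AlgSt.RepByAlgSpWith (AlgSp.LocP @Smooth) L' := by
    have hM₁ : (fpSub Q f y).toFunctor.Full := fpSub_full Q f y
    have hM₂ : (fpSub Q f y).toFunctor.Faithful := fpSub_faithful Q f y
    refine repWith_of_comp_fullyFaithful (fpSub Q f y) (repWith_of_iso e.symm ?_)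
    exact repWith_comp' (isFibGrpd_ofSp _) (isFibGrpd_ofSp _) stableBaseChange_locP stableComp_locP
      descendsAlongAtlas_locP hJ hL
  have key := (locQ_iff_all isSmoothLocalST_smooth hQ.2.1 hY).1 hQf
    ((AlgSp.ofScheme S).obj O') ((AlgSp.ofScheme S).obj V) y L' hy hL'
  have hm : mapOf (BasedFunctor.comp L' (FibCat.fpSnd (BasedFunctor.comp (AlgSt.subIncl 𝒳 Q) f) y)) =
      (AlgSp.yon S).map (j ≫ h) := by
    rw [Functor.map_comp, hh]
    exact (mapOf_comp J (BasedFunctor.comp L (FibCat.fpSnd f y))).trans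
      (congrArg (· ≫ _) (mapOf_ofSpMap _))
  rw [hm] at key
  exact le_smOpen h.left (O := O) (left_prop_of_locP_yon key : Smooth (j ≫ h).left) hu

/-- The largest open substack on which `f` is smooth, on a chart over a smooth chart of the target. -/
theorem largest_smooth_eq (hX : AlgSt.IsAlgStack Scheme.fppfPrecoverage 𝒳)
    (hY : AlgSt.IsAlgStack Scheme.fppfPrecoverage 𝒴) {f : 𝒳 ⥤ᵇ 𝒴} {U V : Over S}
    {y : AlgSt.ofSp ((AlgSp.ofScheme S).obj V).obj ⥤ᵇ 𝒴}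
    (hy : AlgSt.RepByAlgSpWith (AlgSp.LocP @Smooth) y)
    (L : AlgSt.ofSp ((AlgSp.ofScheme S).obj U).obj ⥤ᵇ FibCat.fp f y)
    (hL : AlgSt.RepByAlgSpWith (AlgSp.LocP @Smooth) L) (h : U ⟶ V)
    (hh : (AlgSp.yon S).map h = mapOf (BasedFunctor.comp L (FibCat.fpSnd f y)))
    (hx : AlgSt.RepByAlgSpWith (AlgSp.LocP @Smooth)
      (BasedFunctor.comp (AlgSt.ofOverCat U) (BasedFunctor.comp L (FibCat.fpFst f y))))
    (hxs : Function.Surjective
      (AlgSt.Points.ofChart (BasedFunctor.comp (AlgSt.ofOverCat U) (BasedFunctor.comp L (FibCat.fpFst f y)))))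
    {Q : 𝒳.obj → Prop} (hQ₁ : AlgSt.IsOpenSubstack 𝒳 Q Scheme.fppfPrecoverage)
    (hQ₂ : AlgSt.LocQ (AlgSp.LocP @Smooth) (BasedFunctor.comp (AlgSt.subIncl 𝒳 Q) f))
    (hQ₃ : ∀ Q' : 𝒳.obj → Prop, AlgSt.IsOpenSubstack 𝒳 Q' Scheme.fppfPrecoverage →
      AlgSt.LocQ (AlgSp.LocP @Smooth) (BasedFunctor.comp (AlgSt.subIncl 𝒳 Q') f) → ∀ a, Q' a → Q a) :
    AlgSt.Points.ofChart (BasedFunctor.comp (AlgSt.ofOverCat U) (BasedFunctor.comp L (FibCat.fpFst f y))) ⁻¹'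
        Set.range (AlgSt.Points.map (AlgSt.subIncl 𝒳 Q)) = (smOpen h.left : Set U.left) := by
  refine Set.Subset.antisymm (fun u hu => preimage_le_smOpen hX hY hy L hL h hh hQ₁ hQ₂ u hu) fun u hu => ?_
  obtain ⟨α⟩ := nonempty_lift_iso f (U := (AlgSp.ofScheme S).obj U) L
  rw [← hh] at α
  obtain ⟨h₁, h₂⟩ := isOpenSubstack_image_smOpen hX
    (x := BasedFunctor.comp (AlgSt.ofOverCat U) (BasedFunctor.comp L (FibCat.fpFst f y)))
    (y := BasedFunctor.comp (AlgSt.ofOverCat V) y) (h := h) (whiskerLeftIso (AlgSt.ofOverCat U) α :) hx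
    ((repWith_precomp_equiv (isEquivOver_ofOverCat V) y).2 hy)
  exact (isOpenSubstack_le_iff hX h₁ hQ₁).1 (hQ₃ _ h₁ h₂)
    ((range_subIncl_inPts_eq _).symm ▸ ⟨u, hu, rfl⟩)

end Groth.StkGerb
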